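import Cfsg.Agent.H20.CoprimePart
import Cfsg.Agent.H20.OrthConv
import Cfsg.Agent.H21.RegPart

/-!
# Conjugacy of regular parts; Külshammer's formula
-/

set_option autoImplicit false
set_option linter.style.haveILetI false
set_option linter.unusedSectionVars false

open Cfsg MonoidAlgebra
open scoped ComplexConjugate

namespace H20

universe u

variable {G : Type u} [Group G] [Fintype G] {p : ℕ} {M : Ideal AlgInt} [hMp : M.IsPrime]

theorem pow_eq_one_of_coprime {m n : ℕ} (hmn : Nat.card G = n * m) {u : G}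
    (hu : (orderOf u).Coprime m) : u ^ n = 1 :=
  orderOf_dvd_iff_pow_eq_one.1
    (hu.dvd_of_dvd_mul_right (hmn ▸ orderOf_dvd_natCard u))

theorem exists_coprime_exp {m n : ℕ} (hmn : Nat.card G = n * m) (hcop : n.Coprime m) :
    ∃ e : ℕ, e ≡ 1 [MOD n] ∧ m ∣ e ∧ (∀ u : G, (orderOf u).Coprime m → u ^ e = u) ∧
      (∀ u : G, (orderOf u).Coprime n → u ^ e = 1) ∧
      ∀ x : G, (orderOf (x ^ e)).Coprime m ∧ (orderOf (x * (x ^ e)⁻¹)).Coprime n := by
  have hpos : 0 < n * m := hmn ▸ Nat.card_pos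
  have hm : m ≠ 0 := (Nat.pos_of_mul_pos_left hpos).ne'
  have hn : n ≠ 0 := (Nat.pos_of_mul_pos_right hpos).ne'
  obtain ⟨e, h1, h2, h3, h4⟩ := H14.exists_part_exp G hcop hn hm
  refine ⟨e, h3, h4, fun u hu => h1 u (pow_eq_one_of_coprime hmn hu),
    fun u hu => h2 u (pow_eq_one_of_coprime (n := m) (m := n) (by rw [hmn, mul_comm]) hu),
    fun x => ?_⟩
  have hxc : x ^ (n * m) = 1 := hmn ▸ pow_card_eq_one'
  have hv : (x ^ e) ^ n = 1 := by
    obtain ⟨k, rfl⟩ := h4
    rw [← pow_mul, show m * k * n = n * m * k by ring, pow_mul, hxc, one_pow]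
  have hu : (x * (x ^ e)⁻¹) ^ m = 1 := by
    rw [((Commute.refl x).pow_right e).inv_right.mul_pow, inv_pow, ← pow_mul]
    have : x ^ (e * m) = x ^ m := by
      rw [pow_eq_pow_iff_modEq]
      have h := Nat.ModEq.mul_right' m h3
      rw [one_mul] at h
      exact h.of_dvd (orderOf_dvd_of_pow_eq_one (by rw [← hmn]; exact pow_card_eq_one'))
    rw [this, mul_inv_cancel]
  exact ⟨Nat.Coprime.coprime_dvd_left (orderOf_dvd_of_pow_eq_one hv) hcop,
    Nat.Coprime.coprime_dvd_left (orderOf_dvd_of_pow_eq_one hu) hcop.symm⟩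

theorem partFun_combination {m n : ℕ} (hmn : Nat.card G = m * n) (hcop : m.Coprime n) (g : G)
    (ϑ : G → ℂ)
    (h1 : ∀ x : G, (∃ v : G, IsConj v g ∧ (∃ u : G, x = u * v ∧ Commute u v ∧
      (orderOf u).Coprime n ∧ (orderOf v).Coprime m)) → ϑ x = n)
    (h0 : ∀ x : G, (¬ ∃ v : G, IsConj v g ∧ (∃ u : G, x = u * v ∧ Commute u v ∧
      (orderOf u).Coprime n ∧ (orderOf v).Coprime m)) → ϑ x = 0) :
    ∃ c : IrrCharacter G → ℂ, (∀ χ, c χ ∈ AlgInt) ∧
      ϑ = ∑ᶠ χ : IrrCharacter G, c χ • (χ : G → ℂ) := by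
  classical
  have hmn' : Nat.card G = n * m := by rw [hmn, mul_comm]
  obtain ⟨e, he1, he0, hev, heu, hx⟩ := exists_coprime_exp hmn' hcop.symm
  refine ⟨fun χ => classInner (partFun e n g) (χ : G → ℂ),
    fun χ => isIntegral_classInner_partFun hmn' hcop.symm he1 he0 g χ, ?_⟩
  funext x
  rw [finsum_eq_sum_of_fintype, Finset.sum_apply]
  simp only [Pi.smul_apply, smul_eq_mul]
  rw [← partFun_eq_sum, partFun]
  split_ifs with hc
  · exact h1 x ⟨x ^ e, hc, x * (x ^ e)⁻¹, (inv_mul_cancel_right _ _).symm,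
      ((Commute.refl x).mul_left ((Commute.refl x).pow_left e).inv_left).pow_right e,
      (hx x).2, (hx x).1⟩
  · refine h0 x fun ⟨v, hv, u, hxuv, huv, hu, hvm⟩ => hc ?_
    rw [hxuv, huv.mul_pow, heu u hu, hev v hvm, one_mul]
    exact hv

theorem qPart_eq_inv_mul [Fact p.Prime] {x a : G} (ha : IsPPart p x a) :
    a⁻¹ * x = qPart p x := by
  rw [isPPart_iff] at ha
  subst ha
  rw [inv_mul_eq_iff_eq_mul, pPart_mul_qPart]

theorem card_eq_ordCompl_mul (p : ℕ) :
    Nat.card G = (ordCompl[p] (Nat.card G)) * p ^ (Nat.card G).factorization p := by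
  rw [mul_comm, Nat.ordProj_mul_ordCompl_eq_self]

theorem ordCompl_coprime_pow (hp : p.Prime) :
    (ordCompl[p] (Nat.card G)).Coprime (p ^ (Nat.card G).factorization p) :=
  Nat.Coprime.pow_right _ (hp.coprime_iff_not_dvd.2 (Nat.not_dvd_ordCompl hp Nat.card_pos.ne')).symm

theorem isConj_qPart_iff (hM : IsPModular p M) (x y : G) :
    IsConj (qPart p x) (qPart p y) ↔
      ∀ χ : IrrCharacter G, MemLocalIdeal M ((χ : G → ℂ) x - (χ : G → ℂ) y) := by
  classical
  haveI : Fact p.Prime := ⟨hM.1⟩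
  have hq : ∀ (χ : IrrCharacter G) (w : G),
      MemLocalIdeal M ((χ : G → ℂ) w - (χ : G → ℂ) (qPart p w)) := fun χ w =>
    H25.memIdeal_apply_sub_qPart hM (H12.isCharacter_irr χ) w
  have hneg : ∀ z : ℂ, MemLocalIdeal M z → MemLocalIdeal M (-z) := fun z hz => by
    simpa using memIdeal_mul (memRing_neg (memRing_natCast 1)) hz
  constructor
  · intro h χ
    have h' := memIdeal_add (hq χ x) (hneg _ (hq χ y))
    rw [H12.IsClassFunction.of_isConj (H12.irr_isClassFunction χ) h] at h'
    convert h' using 1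
    ring
  · intro h
    by_contra hnc
    set n := ordCompl[p] (Nat.card G) with hn
    have hmn := card_eq_ordCompl_mul (G := G) p
    have hcop := ordCompl_coprime_pow (G := G) hM.1
    obtain ⟨e, he1, he0, hev, -, -⟩ := exists_coprime_exp hmn hcop
    have hco : ∀ w : G, (orderOf (qPart p w)).Coprime (p ^ (Nat.card G).factorization p) := fun w =>
      Nat.Coprime.pow_right _ (hM.1.coprime_iff_not_dvd.2 (not_dvd_orderOf_qPart w)).symm
    have hval : partFun e n (qPart p x) (qPart p x) - partFun e n (qPart p x) (qPart p y) = n := by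
      rw [partFun, partFun, hev _ (hco x), hev _ (hco y), if_pos (IsConj.refl _),
        if_neg (fun h' : IsConj (qPart p y) (qPart p x) => hnc h'.symm), sub_zero]
    have hmem : MemLocalIdeal M (n : ℂ) := by
      rw [← hval, partFun_eq_sum, partFun_eq_sum, ← Finset.sum_sub_distrib]
      refine Finset.sum_induction _ (MemLocalIdeal M) (fun _ _ => memIdeal_add) memIdeal_zero
        fun χ _ => ?_
      rw [← mul_sub]
      refine memIdeal_mul (memRing_of_isIntegral
        (isIntegral_classInner_partFun hmn hcop he1 he0 _ χ)) ?_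
      have h' := memIdeal_add (memIdeal_add (hneg _ (hq χ x)) (h χ)) (hq χ y)
      convert h' using 1
      ring
    exact Nat.not_dvd_ordCompl hM.1 Nat.card_pos.ne' ((natCast_memIdeal_iff hM _).1 hmem)

theorem coeff_eq_sum_omega {a : MonoidAlgebra ℂ G} (ha : IsCl a) (g : G) :
    a.coeff g = (Nat.card G : ℂ)⁻¹ * ∑ χ : IrrCharacter G,
      (χ : G → ℂ) 1 * omega (χ : G → ℂ) a * conj ((χ : G → ℂ) g) := by
  classical
  have hf : IsClassFunction G (fun y => a.coeff y⁻¹) := fun y c => by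
    show a.coeff _ = a.coeff _
    rw [show (c * y * c⁻¹)⁻¹ = c * y⁻¹ * c⁻¹ by group, ha y⁻¹ c]
  have h := H12.classFunction_apply_eq_sum hf g⁻¹
  rw [inv_inv] at h
  rw [h, Finset.mul_sum]
  refine Finset.sum_congr rfl fun χ _ => ?_
  rw [H12.irr_inv, classInner, omega, mul_div_cancel₀ _ (H12.irr_apply_one_ne_zero χ),
    ← Equiv.sum_comp (Equiv.inv G)]
  simp only [Equiv.inv_apply, inv_inv, H12.irr_inv, Complex.conj_conj]
  ring

open Classical in
/-- The indicator of the `p`-regular elements. -/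
noncomputable def regSum (R : Type*) [CommRing R] (p : ℕ) (G : Type u) [Group G] [Fintype G] :
    MonoidAlgebra R G :=
  ofFun fun x => if p ∣ orderOf x then 0 else 1

theorem isCl_regSum (R : Type*) [CommRing R] : IsCl (regSum R p G) := by
  classical
  intro g c
  simp only [regSum, coeff_ofFun]
  refine if_congr ?_ rfl rfl
  rw [show orderOf (c * g * c⁻¹) = orderOf g from MulEquiv.orderOf_eq (MulAut.conj c) g]

theorem kulshammer (hM : IsPModular p M) (g : G) (hg : ¬ p ∣ orderOf g) :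
    MemLocalIdeal M (blockCoeff (principalBlock M G) g -
      (Nat.card {xy : G × G // (∃ k : ℕ, orderOf xy.1 = p ^ k) ∧ ¬ p ∣ orderOf xy.2 ∧
        xy.1 * xy.2 = g} : ℂ) / (Nat.card {y : G // ¬ p ∣ orderOf y} : ℂ)) := by
  classical
  haveI : Fact p.Prime := ⟨hM.1⟩
  set B := principalBlock M G with hBdef
  have h1B : H12.oneIrr G ∈ B := mem_blockOf_self (H12.oneIrr G)
  have hB : IsPBlock M B := isPBlock_principalBlock
  set n := ordCompl[p] (Nat.card G) with hn
  have hmn := card_eq_ordCompl_mul (G := G) p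
  have hcop := ordCompl_coprime_pow (G := G) hM.1
  obtain ⟨e, he1, he0, -, heu, hxe⟩ := exists_coprime_exp hmn hcop
  have hn0 : (n : ℂ) ≠ 0 := by exact_mod_cast (Nat.ordCompl_pos p Nat.card_pos.ne').ne'
  let isP : G → Prop := fun x => ∃ k : ℕ, orderOf x = p ^ k
  have hθ : ∀ x : G, partFun e n 1 x = if isP x then (n : ℂ) else 0 := by
    intro x
    simp only [partFun, isConj_one_left]
    refine if_congr ⟨fun h => ?_, fun ⟨k, hk⟩ => ?_⟩ rfl rfl
    · have h' := (hxe x).2
      rw [h, inv_one, mul_one] at h'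
      obtain ⟨k, -, hk⟩ := (Nat.dvd_prime_pow hM.1).1
        (h'.dvd_of_dvd_mul_left (hmn ▸ orderOf_dvd_natCard x))
      exact ⟨k, hk⟩
    · exact heu x (hk ▸ Nat.Coprime.pow_left k
        (hM.1.coprime_iff_not_dvd.2 (Nat.not_dvd_ordCompl hM.1 Nat.card_pos.ne')))
  set c : IrrCharacter G → ℂ := fun χ => classInner (partFun e n 1) (χ : G → ℂ) with hc
  let Pe : MonoidAlgebra ℂ G := ofFun fun x => if isP x then 1 else 0
  have hPcl : IsCl Pe := fun x y => by
    simp only [Pe, coeff_ofFun]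
    have ho : orderOf (y * x * y⁻¹) = orderOf x := MulEquiv.orderOf_eq (MulAut.conj y) x
    exact if_congr (by simp only [isP, ho]) rfl rfl
  have hPinv : ∀ x, isP x⁻¹ ↔ isP x := fun x => by simp only [isP, orderOf_inv]
  have hPω : ∀ χ : IrrCharacter G,
      (χ : G → ℂ) 1 * omega (χ : G → ℂ) Pe = (Nat.card G : ℂ) / (n : ℂ) * c χ := by
    intro χ
    rw [omega, mul_div_cancel₀ _ (H12.irr_apply_one_ne_zero χ), hc]
    simp only [classInner, hθ, Pe, coeff_ofFun]
    rw [← Equiv.sum_comp (Equiv.inv G)]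
    simp only [Equiv.inv_apply, hPinv, H12.irr_inv, Finset.mul_sum]
    refine Finset.sum_congr rfl fun x _ => ?_
    have := H12.card_ne_zero' (G := G)
    split_ifs <;> field_simp <;> simp
  set t := emb (regSum (O M) p G) with ht
  have htc : ∀ x : G, t.coeff x = if p ∣ orderOf x then 0 else 1 := fun x => by
    simp [ht, regSum, apply_ite (fun z : O M => (z : ℂ))]
  have htcl : IsCl t := (isCl_regSum (O M)).emb
  set w : IrrCharacter G → ℂ := fun χ => omega (χ : G → ℂ) t with hw
  set R := Nat.card {y : G // ¬ p ∣ orderOf y} with hR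
  have hwout : ∀ χ : IrrCharacter G, χ ∉ B → w χ = 0 := by
    intro χ hχ
    have h := H21.classInner_tilde_eq_zero hM hB h1B hχ
    simp only [classInner, H21.tilde, H12.oneIrr_apply, mul_one, mul_eq_zero, inv_eq_zero,
      H12.card_ne_zero', false_or] at h
    simp only [hw, omega, htc, div_eq_zero_iff]
    left
    have hp0 : ((p ^ (Nat.card G).factorization p : ℕ) : ℂ) ≠ 0 :=
      Nat.cast_ne_zero.2 (pow_ne_zero _ hM.1.ne_zero)
    apply mul_left_cancel₀ hp0
    rw [mul_zero, Finset.mul_sum]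
    refine Eq.trans ?_ ((congrArg conj h).trans (map_zero _))
    rw [map_sum]
    refine Finset.sum_congr rfl fun x _ => ?_
    split_ifs <;> simp
  have hwR : ∀ χ ∈ B, MemLocalIdeal M (w χ - (R : ℂ)) := by
    intro χ hχ
    have h1 : w (H12.oneIrr G) = (R : ℂ) := by
      simp only [hw, omega, htc, H12.oneIrr_apply, mul_one, div_one]
      rw [Finset.sum_ite, Finset.sum_const_zero, zero_add, Finset.sum_const, nsmul_one, hR,
        Nat.subtype_card (Finset.univ.filter fun y : G => ¬ p ∣ orderOf y) (by simp)]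
    have h2 := lam_eq_of_sameBlock (sameBlock_of_mem hB hχ h1B) (rd (regSum (O M) p G))
    rw [lam_rd _ (isCl_regSum _), lam_rd _ (isCl_regSum _),
      redC_eq_iff (memRing_omega _ (isCl_regSum _)) (memRing_omega _ (isCl_regSum _))] at h2
    rw [← h1]
    exact h2
  set E : G → ℂ := fun g => (n : ℂ)⁻¹ * ∑ χ : IrrCharacter G,
    if χ ∈ B then c χ * conj ((χ : G → ℂ) g) else 0 with hE
  have hEB : ∀ g : G, ¬ p ∣ orderOf g → blockCoeff B g = E g := by
    intro g hg
    have hv : ∀ x : G, isP x → x ≠ 1 → ∑ χ : IrrCharacter G,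
        (if χ ∈ B then conj ((χ : G → ℂ) x) * conj ((χ : G → ℂ) g) else 0) = 0 := by
      intro x ⟨k, hk⟩ hx1
      have hpx : p ∣ orderOf x⁻¹ := by
        rw [orderOf_inv, hk]
        refine dvd_pow_self p fun h0 => hx1 ?_
        rw [← orderOf_eq_one_iff, hk, h0, pow_zero]
      have h := weak_orthogonality hM hB (x := g) hg (y := x⁻¹) hpx
      rw [finsum_mem_eq_sum_ite B] at h
      refine Eq.trans ?_ ((congrArg conj h).trans (map_zero _))
      rw [map_sum]
      refine Finset.sum_congr rfl fun χ _ => ?_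
      split_ifs <;> simp [H12.irr_inv, mul_comm]
    have hexp : ∀ χ : IrrCharacter G, c χ = (Nat.card G : ℂ)⁻¹ *
        ∑ x : G, (if isP x then (n : ℂ) * conj ((χ : G → ℂ) x) else 0) := fun χ => by
      simp only [hc, classInner, hθ, ite_mul, zero_mul]
    rw [blockCoeff_eq_sum]
    simp only [hE, hexp]
    have hswap : ∑ χ : IrrCharacter G, (if χ ∈ B then (Nat.card G : ℂ)⁻¹ *
        (∑ x : G, (if isP x then (n : ℂ) * conj ((χ : G → ℂ) x) else 0)) * conj ((χ : G → ℂ) g)
          else 0) = (Nat.card G : ℂ)⁻¹ * ((n : ℂ) * ∑ x : G, if isP x then ∑ χ : IrrCharacter G,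
        (if χ ∈ B then conj ((χ : G → ℂ) x) * conj ((χ : G → ℂ) g) else 0) else 0) := by
      have h1 : ∀ χ : IrrCharacter G, (if χ ∈ B then (Nat.card G : ℂ)⁻¹ *
          (∑ x : G, (if isP x then (n : ℂ) * conj ((χ : G → ℂ) x) else 0)) * conj ((χ : G → ℂ) g)
            else 0) = (Nat.card G : ℂ)⁻¹ * ((n : ℂ) * ∑ x : G, if isP x then
              (if χ ∈ B then conj ((χ : G → ℂ) x) * conj ((χ : G → ℂ) g) else 0) else 0) := by
        intro χ
        split_ifs
        · rw [mul_assoc, Finset.sum_mul, Finset.mul_sum (a := (n : ℂ))]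
          congr 1
          refine Finset.sum_congr rfl fun x _ => ?_
          split_ifs <;> ring
        · simp
      rw [Finset.sum_congr rfl fun χ _ => h1 χ, ← Finset.mul_sum, ← Finset.mul_sum, Finset.sum_comm]
      congr 2
      refine Finset.sum_congr rfl fun x _ => ?_
      split_ifs <;> simp
    rw [hswap, Finset.sum_eq_single (1 : G)]
    · rw [if_pos ⟨0, by simp⟩]
      field_simp
      refine Finset.sum_congr rfl fun χ _ => ?_
      split_ifs <;> simp [conj_apply_one]
    · intro x _ hx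
      split_ifs with hP
      · exact hv x hP hx
      · rfl
    · simp
  have hN : (Nat.card {xy : G × G // (∃ k : ℕ, orderOf xy.1 = p ^ k) ∧ ¬ p ∣ orderOf xy.2 ∧
        xy.1 * xy.2 = g} : ℂ) = (n : ℂ)⁻¹ * ∑ χ : IrrCharacter G,
      if χ ∈ B then w χ * c χ * conj ((χ : G → ℂ) g) else 0 := by
    have h0 : (Nat.card {xy : G × G // (∃ k : ℕ, orderOf xy.1 = p ^ k) ∧ ¬ p ∣ orderOf xy.2 ∧
        xy.1 * xy.2 = g} : ℂ) = (Pe * t).coeff g := by
      rw [coeff_mul_group, Nat.card_congr (β := {x : G // isP x ∧ ¬ p ∣ orderOf (x⁻¹ * g)})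
        ⟨fun v => ⟨v.1.1, v.2.1, by
          have e : v.1.1⁻¹ * g = v.1.2 := inv_mul_eq_iff_eq_mul.2 v.2.2.2.symm
          rw [e]; exact v.2.2.1⟩,
          fun x => ⟨(x.1, x.1⁻¹ * g), x.2.1, x.2.2, mul_inv_cancel_left _ _⟩,
          fun v => by
            apply Subtype.ext
            exact Prod.ext rfl (inv_mul_eq_iff_eq_mul.2 v.2.2.2.symm),
          fun x => rfl⟩,
        Nat.subtype_card (Finset.univ.filter fun x => isP x ∧ ¬ p ∣ orderOf (x⁻¹ * g)) (by simp),
        Finset.card_filter, Nat.cast_sum]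
      refine Finset.sum_congr rfl fun x _ => ?_
      simp only [Pe, coeff_ofFun, htc]
      by_cases h1 : isP x <;> by_cases h2 : p ∣ orderOf (x⁻¹ * g) <;> simp [h1, h2]
    rw [h0, coeff_eq_sum_omega (hPcl.mul htcl), Finset.mul_sum, Finset.mul_sum]
    refine Finset.sum_congr rfl fun χ _ => ?_
    rw [omega_mul χ hPcl, ← mul_assoc ((χ : G → ℂ) 1), hPω]
    have := H12.card_ne_zero' (G := G)
    split_ifs with hχ
    · simp only [hw]
      field_simp
    · have := hwout χ hχ
      simp only [hw] at this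
      simp [this]
  have hcint : ∀ χ, MemLocalRing M (c χ) := fun χ =>
    memRing_of_isIntegral (isIntegral_classInner_partFun hmn hcop he1 he0 1 χ)
  have hninv : MemLocalRing M (n : ℂ)⁻¹ :=
    inv_natCast_memRing hM (Nat.not_dvd_ordCompl hM.1 Nat.card_pos.ne')
  have hRunit : ¬ MemLocalIdeal M (R : ℂ) := by
    intro hRI
    apply not_memIdeal_one (M := M)
    have h := omega_eIdem B (H12.oneIrr G)
    rw [if_pos h1B] at h
    unfold omega eIdem at h
    simp only [coeff_ofFun, H12.oneIrr_apply, mul_one, div_one] at h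
    rw [← h, ← Finset.sum_filter_add_sum_filter_not Finset.univ (fun x : G => p ∣ orderOf x),
      Finset.sum_eq_zero (s := Finset.univ.filter fun x : G => p ∣ orderOf x) (fun x hx => by
        rw [blockCoeff_eq_sum, ← finsum_mem_eq_sum_ite B, weak_orthogonality hM hB
          (x := (1 : G)) (by simp [hM.1.ne_one]) (Finset.mem_filter.1 hx).2, mul_zero]),
      zero_add, Finset.sum_congr rfl fun x hx => hEB x (Finset.mem_filter.1 hx).2]
    simp only [hE]
    rw [← Finset.mul_sum, Finset.sum_comm]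
    refine memIdeal_mul hninv (Finset.sum_induction _ (MemLocalIdeal M) (fun _ _ => memIdeal_add)
      memIdeal_zero fun χ _ => ?_)
    by_cases hχ : χ ∈ B
    · simp only [if_pos hχ]
      rw [← Finset.mul_sum]
      refine memIdeal_mul (hcint χ) ?_
      have hsum : ∑ x ∈ Finset.univ.filter (fun x : G => ¬ p ∣ orderOf x), conj ((χ : G → ℂ) x) =
          (χ : G → ℂ) 1 * w χ := by
        simp only [hw, omega]
        rw [mul_div_cancel₀ _ (H12.irr_apply_one_ne_zero χ),
          ← Equiv.sum_comp (Equiv.inv G) (fun x => t.coeff x * (χ : G → ℂ) x), Finset.sum_filter]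
        refine Finset.sum_congr rfl fun x _ => ?_
        simp only [Equiv.inv_apply, htc, orderOf_inv, H12.irr_inv]
        by_cases h : p ∣ orderOf x <;> simp [h]
      rw [hsum]
      refine memIdeal_mul (memRing_irr χ 1) ?_
      have := memIdeal_add (hwR χ hχ) hRI
      rwa [sub_add_cancel] at this
    · simp only [if_neg hχ, Finset.sum_const_zero]
      exact memIdeal_zero
  obtain ⟨hR0, hRinv⟩ := inv_memRing (memRing_natCast R) hRunit
  rw [hN, hEB g hg]
  simp only [hE]
  have hfin : (n : ℂ)⁻¹ * ∑ χ : IrrCharacter G, (if χ ∈ B then c χ * conj ((χ : G → ℂ) g) else 0) -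
      ((n : ℂ)⁻¹ * ∑ χ : IrrCharacter G,
        if χ ∈ B then w χ * c χ * conj ((χ : G → ℂ) g) else 0) / (R : ℂ) =
      (-(R : ℂ)⁻¹ * (n : ℂ)⁻¹) * ∑ χ : IrrCharacter G,
        if χ ∈ B then (c χ * conj ((χ : G → ℂ) g)) * (w χ - (R : ℂ)) else 0 := by
    simp only [Finset.mul_sum, Finset.sum_div, ← Finset.sum_sub_distrib]
    refine Finset.sum_congr rfl fun χ _ => ?_
    split_ifs
    · field_simp
      ring
    · simp
  rw [hfin]
  refine memIdeal_mul (memRing_mul (memRing_neg hRinv) hninv)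
    (Finset.sum_induction _ (MemLocalIdeal M) (fun _ _ => memIdeal_add) memIdeal_zero fun χ _ => ?_)
  split_ifs with hχ
  · exact memIdeal_mul (memRing_mul (hcint χ) (memRing_of_isIntegral (isIntegral_conj_irr χ g)))
      (hwR χ hχ)
  · exact memIdeal_zero

end H20
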