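import Cfsg.Agent.H20.LocalRing
import Mathlib.RingTheory.Polynomial.Cyclotomic.Roots
import Mathlib.FieldTheory.Finite.Basic

/-!
# Every nonzero residue is a root of unity of order prime to `p`
-/

set_option autoImplicit false
set_option linter.style.haveILetI false

open Cfsg

namespace H20

variable {M : Ideal AlgInt} [hMp : M.IsPrime] {p : ℕ}

theorem exists_pow_eq_one_of_integral (hM : IsPModular p M) {a : AlgInt} (ha : a ∉ M) :
    ∃ N : ℕ, ¬ p ∣ N ∧ red M ⟨(a : ℂ), memRing_coe a⟩ ^ N = 1 := by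
  haveI := k_charP hM
  haveI : Fact p.Prime := ⟨hM.1⟩
  set x : k M := red M ⟨(a : ℂ), memRing_coe a⟩ with hx
  have hx0 : x ≠ 0 := by
    rw [hx, Ne, red_eq_zero_iff]
    exact fun h => ha ((memIdeal_coe_iff a).1 h)
  letI : Algebra (ZMod p) (k M) := ZMod.algebra (k M) p
  have hint : IsIntegral (ZMod p) x := by
    obtain ⟨f, hf, hfa⟩ := a.2
    let φ : AlgInt →+* k M := (red M).comp
      (RingHom.codRestrict (algebraMap AlgInt ℂ) (O M) (fun b => memRing_coe b))
    have hφ : φ a = x := rfl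
    have hf0 : Polynomial.eval₂ (algebraMap ℤ AlgInt) a f = 0 := by
      apply Subtype.ext
      have h1 := Polynomial.hom_eval₂ f (algebraMap ℤ AlgInt) (algebraMap AlgInt ℂ) a
      rw [RingHom.ext_int ((algebraMap AlgInt ℂ).comp (algebraMap ℤ AlgInt)) (algebraMap ℤ ℂ)] at h1
      show (algebraMap AlgInt ℂ) _ = _
      rw [h1]
      exact hfa
    refine ⟨f.map (algebraMap ℤ (ZMod p)), hf.map _, ?_⟩
    rw [Polynomial.eval₂_map]
    have := congrArg φ hf0
    rw [Polynomial.hom_eval₂, map_zero, hφ] at this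
    rwa [RingHom.ext_int (φ.comp (algebraMap ℤ AlgInt))
      ((algebraMap (ZMod p) (k M)).comp (algebraMap ℤ (ZMod p)))] at this
  let S := Algebra.adjoin (ZMod p) ({x} : Set (k M))
  haveI : Module.Finite (ZMod p) S := Module.Finite.iff_fg.2 hint.fg_adjoin_singleton
  haveI : Finite S := Module.finite_of_finite (ZMod p)
  have hs0 : (⟨x, Algebra.self_mem_adjoin_singleton _ _⟩ : S) ≠ 0 :=
    fun h => hx0 (congrArg Subtype.val h)
  obtain ⟨y, hyx⟩ : ∃ y : Sˣ, ((y : S) : k M) = x := by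
    obtain ⟨b, hb⟩ := (Finite.isField_of_domain S).mul_inv_cancel hs0
    exact ⟨⟨_, b, hb, by rw [mul_comm]; exact hb⟩, rfl⟩
  have hy : IsOfFinOrder y := isOfFinOrder_of_finite y
  refine ⟨orderOf y, ?_, ?_⟩
  · rintro ⟨j, hj⟩
    have h1 : ((y : S) : k M) ^ (p * j) = 1 := by
      rw [← hj, ← SubmonoidClass.coe_pow, ← Units.val_pow_eq_pow_val, pow_orderOf_eq_one]
      rfl
    have h2 : ((y : S) : k M) ^ j = 1 := by
      have h3 : (((y : S) : k M) ^ j - 1) ^ p = 0 := by
        rw [sub_pow_char, one_pow, ← pow_mul, mul_comm j p, h1, sub_self]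
      exact sub_eq_zero.1 ((pow_eq_zero_iff hM.1.ne_zero).1 h3)
    have h4 : y ^ j = 1 := by
      ext
      simpa using h2
    have h5 := Nat.le_of_dvd ?_ (orderOf_dvd_of_pow_eq_one h4)
    · have hj0 : 0 < j := by
        rcases Nat.eq_zero_or_pos j with h0 | h0
        · rw [h0, mul_zero] at hj
          exact absurd hj hy.orderOf_pos.ne'
        · exact h0
      have := Nat.le_mul_of_pos_left j hM.1.pos
      have h6 : p * j ≤ j := hj ▸ h5
      have h7 : 2 * j ≤ p * j := Nat.mul_le_mul_right j hM.1.two_le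
      omega
    · rcases Nat.eq_zero_or_pos j with h0 | h0
      · rw [h0, mul_zero] at hj
        exact absurd hj hy.orderOf_pos.ne'
      · exact h0
  · rw [← hyx, ← SubmonoidClass.coe_pow, ← Units.val_pow_eq_pow_val, pow_orderOf_eq_one]
    rfl

/-- Every nonzero residue of an algebraic integer is the residue of a root of unity of order
prime to `p`. -/
theorem exists_root_of_unity_congr (hM : IsPModular p M) {a : AlgInt} (ha : a ∉ M) :
    ∃ ε : AlgInt, (∃ m : ℕ, ¬ p ∣ m ∧ (ε : ℂ) ^ m = 1) ∧ a - ε ∈ M := by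
  obtain ⟨N, hN, hpow⟩ := exists_pow_eq_one_of_integral hM ha
  have hN0 : 0 < N := Nat.pos_of_ne_zero (fun h0 => hN (h0 ▸ dvd_zero p))
  haveI : NeZero N := ⟨hN0.ne'⟩
  have hζ := Complex.isPrimitiveRoot_exp N hN0.ne'
  set ζ := Complex.exp (2 * Real.pi * Complex.I / N) with hζdef
  let z : O M := ⟨ζ, memRing_of_pow_eq_one hN0 hζ.pow_eq_one⟩
  have hzN : z ^ N = 1 := Subtype.ext (by push_cast; exact hζ.pow_eq_one)
  have hbar : IsPrimitiveRoot (red M z) N := by
    rw [IsPrimitiveRoot.iff hN0]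
    refine ⟨by rw [← map_pow, hzN, map_one], fun l hl0 hlN hl => ?_⟩
    rw [← map_pow, ← map_one (red M), red_eq_red_iff] at hl
    push_cast at hl
    have := eq_one_of_pow_eq_one hM hN (by rw [← pow_mul, mul_comm, pow_mul, hζ.pow_eq_one, one_pow]) hl
    exact absurd (hζ.pow_eq_one_iff_dvd l |>.1 this) (Nat.not_dvd_of_pos_of_lt hl0 hlN)
  obtain ⟨i, -, hi⟩ := hbar.eq_pow_of_pow_eq_one hpow
  let ε : AlgInt := ⟨ζ ^ i, (IsIntegral.of_pow hN0
    (by rw [hζ.pow_eq_one]; exact isIntegral_one)).pow i⟩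
  refine ⟨ε, ⟨N, hN, ?_⟩, ?_⟩
  · show (ζ ^ i) ^ N = 1
    rw [← pow_mul, mul_comm, pow_mul, hζ.pow_eq_one, one_pow]
  · rw [← memIdeal_coe_iff, Subalgebra.coe_sub]
    rw [← map_pow, eq_comm, red_eq_red_iff] at hi
    simpa [ε, z] using hi

end H20
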