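import Cfsg.Agent.H20.StableBound
import Cfsg.Agent.H20.UnramifiedRing
import Cfsg.Agent.H20.ResidueRoots
import Cfsg.Agent.H20.Omega
import Cfsg.Agent.H20.CharacterBound
import Cfsg.Agent.H23.Bridge
import Mathlib.RepresentationTheory.Maschke
import Mathlib.RingTheory.SimpleModule.IsAlgClosed
import Mathlib.LinearAlgebra.GeneralLinearGroup.AlgEquiv

/-!
# Matrix units of a character of a group of order prime to `p`

The idempotent of `θ` in the residual group algebra of a group of order prime to `p` cuts out a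
matrix algebra of size at most `θ 1`, and an automorphism fixing `θ` acts on it by conjugation.
-/

set_option autoImplicit false
set_option linter.style.haveILetI false
set_option linter.unusedSectionVars false

open Cfsg
open scoped Matrix

namespace H20

universe u

variable {M : Ideal AlgInt} [hMp : M.IsPrime] {p : ℕ}

/-- The residue field of `Ou` is that at `M`. -/
theorem kUHom_bijective (hM : IsPModular p M) : Function.Bijective (kUHom hM) := by
  refine ⟨kUHom_injective hM, fun x => ?_⟩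
  obtain ⟨⟨z, a, b, hb, hz⟩, rfl⟩ := red_surjective x
  by_cases hzm : MemLocalIdeal M z
  · exact ⟨0, by rw [map_zero, eq_comm, red_eq_zero_iff]; exact hzm⟩
  have hb0 := coe_ne_zero_of_notMem hb
  have ha : a ∉ M := fun ha => hzm ⟨a, b, ha, hb, hz⟩
  obtain ⟨Na, hNa, hNa'⟩ := exists_pow_eq_one_of_integral hM ha
  obtain ⟨Nb, hNb, hNb'⟩ := exists_pow_eq_one_of_integral hM hb
  have hN : ¬ p ∣ Na * Nb := fun hd => (hM.1.dvd_mul.1 hd).elim hNa hNb
  have hN0 : Na * Nb ≠ 0 := fun h0 => hN (h0 ▸ dvd_zero p)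
  haveI : NeZero (Na * Nb) := ⟨hN0⟩
  set w := red M ⟨z, ⟨a, b, hb, hz⟩⟩
  have hw : w ^ (Na * Nb) = 1 := by
    have h1 : w * red M ⟨(b : ℂ), memRing_coe b⟩ = red M ⟨(a : ℂ), memRing_coe a⟩ := by
      rw [← map_mul]
      congr 1
      apply Subtype.ext
      show z * (b : ℂ) = a
      rw [← hz, div_mul_cancel₀ _ hb0]
    have h2 := congrArg (· ^ (Na * Nb)) h1
    simp only [mul_pow] at h2
    rw [show red M ⟨(b : ℂ), memRing_coe b⟩ ^ (Na * Nb) = 1 by
        rw [mul_comm, pow_mul, hNb', one_pow],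
      show red M ⟨(a : ℂ), memRing_coe a⟩ ^ (Na * Nb) = 1 by rw [pow_mul, hNa', one_pow],
      mul_one] at h2
    exact h2
  set ζ := Complex.exp (2 * Real.pi * Complex.I / ((Na * Nb : ℕ) : ℂ))
  have hζ : IsPrimitiveRoot ζ (Na * Nb) := Complex.isPrimitiveRoot_exp _ hN0
  let ζo : Ou M p := ⟨ζ, Rr_le_Ou (mem_Rr_of_pow_eq_one hN hζ.pow_eq_one)⟩
  have hζk : IsPrimitiveRoot (kUHom hM (Ideal.Quotient.mk _ ζo)) (Na * Nb) := by
    refine IsPrimitiveRoot.iff_def _ _ |>.2 ⟨?_, fun l hl => ?_⟩
    · rw [← map_pow, ← map_pow, show ζo ^ (Na * Nb) = 1 from Subtype.ext hζ.pow_eq_one, map_one,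
        map_one]
    · refine hζ.dvd_of_pow_eq_one l (eq_one_of_pow_eq_one hM hN ?_ ?_)
      · rw [← pow_mul, mul_comm, pow_mul, hζ.pow_eq_one, one_pow]
      · rw [← map_pow, ← map_pow, kUHom, Ideal.Quotient.lift_mk, RingHom.comp_apply,
          ← map_one (red M), red_eq_red_iff] at hl
        exact hl
  obtain ⟨i, -, hi⟩ := hζk.eq_pow_of_pow_eq_one hw
  exact ⟨Ideal.Quotient.mk _ ζo ^ i, by rw [map_pow, hi]⟩

theorem kU_isAlgClosed (hM : IsPModular p M) :
    haveI := kU_isMaximal (M := M) (p := p) hM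
    letI : Field (kU M p) := Ideal.Quotient.field _
    IsAlgClosed (kU M p) := by
  haveI := kU_isMaximal (M := M) (p := p) hM
  letI : Field (kU M p) := Ideal.Quotient.field _
  haveI := H23.isAlgClosed_k hM.2.1
  exact IsAlgClosed.of_ringEquiv (H20.k M) (kU M p) (RingEquiv.ofBijective _ (kUHom_bijective hM)).symm

open MonoidAlgebra

variable {A : Type u} [Group A] [Fintype A]

theorem coeff_mul_eq_rMat [DecidableEq A] {R : Type*} [CommRing R] (x y : MonoidAlgebra R A) :
    (fun h => (x * y).coeff h) = rMat (fun h => y.coeff h) *ᵥ (fun h => x.coeff h) := by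
  funext h
  rw [coeff_mul_group]
  simp [Matrix.mulVec, dotProduct, rMat, mul_comm]

/-- The matrix units of a character. -/
theorem exists_matrixUnits {O : Type*} [CommRing O] [IsDomain O] [IsPrincipalIdealRing O]
    [CharZero O] {k : Type*} [Field k] [IsAlgClosed k] {red : O →+* k}
    (hr : Stable.IsRed red p) (φ : O →+* ℂ) (hφ : Function.Injective φ)
    (hA : ¬ p ∣ Nat.card A) (θ : IrrCharacter A) (εo : MonoidAlgebra O A)
    (hε : MonoidAlgebra.mapRingHom A φ εo = eIdem ({θ} : Set (IrrCharacter A)))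
    (hm : ¬ p ∣ H12.degree (θ : A → ℂ)) :
    ∃ (m : ℕ) (s : Matrix (Fin m) (Fin m) k →ₗ[k] MonoidAlgebra k A)
      (ψ : MonoidAlgebra k A →ₐ[k] Matrix (Fin m) (Fin m) k),
      0 < m ∧ m ≤ H12.degree (θ : A → ℂ) ∧ (∀ X Y, s (X * Y) = s X * s Y) ∧
      s 1 = MonoidAlgebra.mapRingHom A red εo ∧ (∀ X, ψ (s X) = X) ∧
      ∀ x, x * MonoidAlgebra.mapRingHom A red εo = s (ψ x) := by
  classical
  haveI : NeZero (Nat.card A : k) := ⟨hr.natCast_ne_zero hA⟩
  set d := H12.degree (θ : A → ℂ) with hd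
  set e := MonoidAlgebra.mapRingHom A red εo with he
  have hmapinj : Function.Injective (MonoidAlgebra.mapRingHom A φ) := fun x y h => by
    ext g
    have := congrArg (fun z => z.coeff g) h
    exact hφ this
  have hεcl : IsCl εo := fun g h => hφ (by
    have h1 := isCl_eIdem ({θ} : Set (IrrCharacter A)) g h
    rw [← hε, coeff_mapRingHom, coeff_mapRingHom] at h1
    exact h1)
  have hεε : εo * εo = εo := hmapinj (by rw [map_mul, hε, eIdem_mul_self])
  have hee : e * e = e := by rw [he, ← map_mul, hεε]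
  have hecl : IsCl e := hεcl.map red
  have hε1 : φ ((Nat.card A : O) * εo.coeff 1) = ((d : ℕ) : ℂ) * d := by
    rw [map_mul, map_natCast, ← coeff_mapRingHom, hε, eIdem, coeff_ofFun, blockCoeff_eq_sum,
      ← mul_assoc, mul_inv_cancel₀ (Nat.cast_ne_zero.2 Nat.card_pos.ne'), one_mul]
    simp only [Set.mem_singleton_iff, Finset.sum_ite_eq', Finset.mem_univ, if_true,
      H12.irr_apply_one, ← hd, Complex.conj_natCast]
  have hε1' : (Nat.card A : O) * εo.coeff 1 = ((d * d : ℕ) : O) := hφ (by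
    rw [hε1, map_natCast, Nat.cast_mul])
  have he1 : e.coeff 1 ≠ 0 := by
    intro h0
    have h1 := congrArg red hε1'
    rw [he, coeff_mapRingHom] at h0
    rw [map_mul, h0, mul_zero, map_natCast] at h1
    exact hr.natCast_ne_zero (fun hd' => (hr.prime.dvd_mul.1 hd').elim hm hm) h1.symm
  -- the centre
  have hcentre : ∀ z : MonoidAlgebra k A, IsCl z → ∃ c : k, z * e = c • e := by
    intro z hz
    let zo : MonoidAlgebra O A := ofFun fun g => Function.surjInv hr.surj (z.coeff g)
    have hzo : IsCl zo := fun g h => by simp only [zo, coeff_ofFun, hz g h]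
    have hzred : MonoidAlgebra.mapRingHom A red zo = z := by
      ext g
      simp [zo, Function.surjInv_eq hr.surj]
    have hu : IsUnit (εo.coeff 1) := hr.isUnit _ (by rwa [he, coeff_mapRingHom] at he1)
    obtain ⟨v, hv⟩ := hu.exists_left_inv
    set c := (zo * εo).coeff 1 * v with hc
    have key : zo * εo = c • εo := by
      have h1 : ∃ w : ℂ, MonoidAlgebra.mapRingHom A φ (zo * εo) =
          w • eIdem ({θ} : Set (IrrCharacter A)) := by
        refine ⟨omega (θ : A → ℂ) (MonoidAlgebra.mapRingHom A φ zo), ?_⟩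
        rw [map_mul, hε]
        refine ext_omega ((hzo.map φ).mul (isCl_eIdem _)) ((isCl_eIdem _).smul _) fun χ => ?_
        rw [omega_mul χ (hzo.map φ), omega_smul, omega_eIdem]
        by_cases hχ : χ ∈ ({θ} : Set (IrrCharacter A))
        · rw [if_pos hχ, Set.mem_singleton_iff.1 hχ]
        · rw [if_neg hχ, mul_zero, mul_zero]
      obtain ⟨w, hw⟩ := h1
      have hw1 := congrArg (fun x => x.coeff 1) hw
      simp only [← hε, MonoidAlgebra.coeff_smul, Finsupp.smul_apply, coeff_mapRingHom,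
        smul_eq_mul] at hw1
      have hwc : w = φ c := by
        rw [hc, map_mul, hw1, mul_assoc, ← map_mul, mul_comm (εo.coeff 1), hv, map_one, mul_one]
      apply hmapinj
      rw [hw, hwc, ← hε]
      ext g
      simp
    refine ⟨red c, ?_⟩
    rw [← hzred, he, ← map_mul, key]
    ext g
    simp
  -- Wedderburn
  obtain ⟨N, dd, hdd, ⟨Φ⟩⟩ :=
    IsSemisimpleRing.exists_algEquiv_pi_matrix_of_isAlgClosed k (MonoidAlgebra k A)
  have hscal : ∀ i, ∃ c : k, Φ e i = c • 1 := by
    intro i
    obtain ⟨c, hc⟩ : Φ e i ∈ Set.range (Matrix.scalar (Fin (dd i))) := by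
      refine Matrix.mem_range_scalar_iff_commute_single'.2 fun x y => ?_
      have h1 := ((hecl.commute (Φ.symm (Pi.single i (Matrix.single x y 1)))).map Φ).symm
      rw [AlgEquiv.apply_symm_apply] at h1
      have h2 := congrFun h1.eq i
      simp only [Pi.mul_apply, Pi.single_eq_same] at h2
      exact h2
    exact ⟨c, by rw [← hc, Matrix.scalar_apply, Matrix.smul_one_eq_diagonal]⟩
  have h01 : ∀ i, Φ e i = 0 ∨ Φ e i = 1 := by
    intro i
    haveI := hdd i
    obtain ⟨c, hc⟩ := hscal i
    have h1 : (Φ e * Φ e) i = Φ e i := by rw [← map_mul, hee]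
    rw [Pi.mul_apply, hc, smul_mul_smul_comm, mul_one] at h1
    have h2 := congrFun (congrFun h1 ⟨0, Nat.pos_of_ne_zero (NeZero.ne _)⟩)
      ⟨0, Nat.pos_of_ne_zero (NeZero.ne _)⟩
    simp only [Matrix.smul_apply, Matrix.one_apply_eq, smul_eq_mul, mul_one] at h2
    rcases eq_or_ne c 0 with h | h
    · exact Or.inl (by rw [hc, h, zero_smul])
    · exact Or.inr (by rw [hc, (mul_eq_right₀ h).1 h2, one_smul])
  obtain ⟨i0, hi0⟩ : ∃ i, Φ e i = 1 := by
    by_contra hnone
    have h0 : Φ e = 0 := funext fun i => (h01 i).resolve_right fun h => hnone ⟨i, h⟩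
    rw [map_eq_zero_iff Φ Φ.injective] at h0
    exact he1 (by simp [h0])
  have hother : ∀ i, i ≠ i0 → Φ e i = 0 := by
    intro i hi
    refine (h01 i).resolve_right fun h1 => ?_
    haveI := hdd i
    haveI := hdd i0
    set z := Φ.symm (Pi.single i0 1) with hzdef
    have hzcl : IsCl z := by
      intro g h
      have h2 : Commute z (MonoidAlgebra.single h 1) := by
        apply Φ.injective
        rw [map_mul, map_mul, hzdef, AlgEquiv.apply_symm_apply]
        funext j
        by_cases hj : j = i0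
        · subst hj; simp
        · simp [Pi.single_eq_of_ne hj]
      have h3 := congrArg (fun x => x.coeff (h * g)) h2.eq
      simp only [coeff_mul_single_apply, coeff_single_mul_apply, mul_one, one_mul,
        inv_mul_cancel_left] at h3
      exact h3
    obtain ⟨c, hc⟩ := hcentre z hzcl
    have h4 := congrArg Φ hc
    rw [map_mul, map_smul, hzdef, AlgEquiv.apply_symm_apply] at h4
    have h5 := congrFun h4 i
    have h6 := congrFun h4 i0
    simp only [Pi.mul_apply, Pi.single_eq_of_ne hi, Pi.single_eq_same, Pi.smul_apply, h1,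
      hi0, mul_one] at h5 h6
    have h7 := congrFun (congrFun h6 ⟨0, Nat.pos_of_ne_zero (NeZero.ne _)⟩)
      ⟨0, Nat.pos_of_ne_zero (NeZero.ne _)⟩
    have h8 := congrFun (congrFun h5 ⟨0, Nat.pos_of_ne_zero (NeZero.ne _)⟩)
      ⟨0, Nat.pos_of_ne_zero (NeZero.ne _)⟩
    simp only [Matrix.one_apply_eq, Matrix.smul_apply, smul_eq_mul, mul_one, Matrix.zero_apply]
      at h7 h8
    exact one_ne_zero (h7.trans h8.symm)
  set m := dd i0 with hmdef
  haveI := hdd i0
  let ψ : MonoidAlgebra k A →ₐ[k] Matrix (Fin m) (Fin m) k :=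
    (Pi.evalAlgHom k (fun i => Matrix (Fin (dd i)) (Fin (dd i)) k) i0).comp Φ.toAlgHom
  let s : Matrix (Fin m) (Fin m) k →ₗ[k] MonoidAlgebra k A :=
    Φ.symm.toLinearEquiv.toLinearMap ∘ₗ
      LinearMap.single k (fun i => Matrix (Fin (dd i)) (Fin (dd i)) k) i0
  have hsapp : ∀ X, s X = Φ.symm (Pi.single i0 X) := fun X => rfl
  have hmul : ∀ X Y, s (X * Y) = s X * s Y := fun X Y => by
    rw [hsapp, hsapp, hsapp, ← map_mul]
    congr 1
    funext j
    by_cases hj : j = i0
    · subst hj; simp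
    · simp [Pi.single_eq_of_ne hj]
  have hs1 : s 1 = e := by
    apply Φ.injective
    rw [hsapp, AlgEquiv.apply_symm_apply]
    funext j
    by_cases hj : j = i0
    · subst hj; rw [Pi.single_eq_same, hi0]
    · rw [Pi.single_eq_of_ne hj, hother j hj]
  have hψs : ∀ X, ψ (s X) = X := fun X => by
    show Φ (s X) i0 = X
    rw [hsapp, AlgEquiv.apply_symm_apply, Pi.single_eq_same]
  have hker : ∀ x, x * e = s (ψ x) := fun x => by
    apply Φ.injective
    rw [map_mul, hsapp, AlgEquiv.apply_symm_apply]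
    funext j
    by_cases hj : j = i0
    · subst hj; rw [Pi.mul_apply, hi0, mul_one, Pi.single_eq_same]; rfl
    · rw [Pi.mul_apply, hother j hj, mul_zero, Pi.single_eq_of_ne hj]
  refine ⟨m, s, ψ, Nat.pos_of_ne_zero (NeZero.ne _), ?_, hmul, hs1, hψs, hker⟩
  -- the dimension
  let Mo : Matrix A A O := rMat (fun h => εo.coeff h)
  let S : Submodule O (A → O) := LinearMap.ker (Matrix.mulVecLin (Mo - 1))
  have hSmem : ∀ v, v ∈ S ↔ Mo *ᵥ v = v := fun v => by
    simp [S, sub_eq_zero]
  have hMM : ∀ x, Mo *ᵥ (Mo *ᵥ x) = Mo *ᵥ x := by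
    intro x
    have h1 : ∀ y : MonoidAlgebra O A, Mo *ᵥ (fun h => y.coeff h) = fun h => (y * εo).coeff h :=
      fun y => (coeff_mul_eq_rMat y εo).symm
    have h2 : x = fun h => (ofFun x : MonoidAlgebra O A).coeff h := rfl
    rw [h2, h1, h1, mul_assoc, hεε]
  have htr := Stable.trace_eq_mul_finrank hr S Mo (m := 1)
    (fun x => (hSmem _).2 (hMM x)) (fun v hv => by rw [(hSmem v).1 hv, Nat.cast_one, one_smul])
    (fun x hx => (hSmem x).2 (by
      have h := (hSmem _).1 hx
      rw [Matrix.mulVec_smul] at h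
      exact smul_right_injective _ (Nat.cast_ne_zero.2 hr.prime.ne_zero) h))
  have htr' : Mo.trace = ((d * d : ℕ) : O) := by
    rw [← hε1', Matrix.trace, Finset.sum_congr rfl (g := fun _ => εo.coeff 1) (fun h _ => by
      simp [Mo, rMat, Matrix.diag])]
    simp [Finset.card_univ, Nat.card_eq_fintype_card]
  rw [htr', one_mul, Nat.cast_inj] at htr
  let L : Matrix (Fin m) (Fin m) k →ₗ[k] (A → k) :=
    { toFun := fun X h => (s X).coeff h
      map_add' := fun X Y => funext fun h => by simp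
      map_smul' := fun c X => funext fun h => by simp }
  have hLinj : Function.Injective L := fun X Y hXY => by
    rw [← hψs X, ← hψs Y]
    congr 1
    ext h
    exact congrFun hXY h
  have hLrange : LinearMap.range L ≤ Stable.redSub hr S := by
    rintro _ ⟨X, rfl⟩
    obtain ⟨w, hw⟩ := hr.exists_lift (fun h => (s X).coeff h)
    refine ⟨Mo *ᵥ w, (hSmem _).2 (hMM w), ?_⟩
    rw [Stable.red_mulVec, hw]
    show (rMat fun h => εo.coeff h).map red *ᵥ _ = _
    rw [map_rMat, show (red ∘ fun h => εo.coeff h) = fun h => e.coeff h from rfl,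
      ← coeff_mul_eq_rMat, hker, hψs]
    rfl
  have h9 := Submodule.finrank_mono hLrange
  rw [LinearMap.finrank_range_of_inj hLinj, Module.finrank_matrix, Fintype.card_fin,
    Module.finrank_self, mul_one, ← htr] at h9
  exact Nat.mul_self_le_mul_self_iff.1 h9

end H20
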