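import Cfsg.Agent.H20.StableTwisted
import Cfsg.Agent.H20.CoprimeUnits
import Cfsg.Agent.H20.CharacterBound
import Cfsg.Agent.H20.PrincipalPrime
import Cfsg.Agent.H12.Integral
import Cfsg.Agent.H13.Correspondence

/-!
# The twisted lattice bound for characters

For `H` normal in the normalizer `N` of `⟨u⟩`, of order prime to `p` and centralized by `u`, and an
irreducible character `θ` of `H` with stabilizer `T` in `N`: if the `θ`-component of the sum over a
small congruent set of irreducible characters is constantly `s` on the powers of `u` prime to `p`,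
then `|s| ≤ 1`.
-/

set_option autoImplicit false
set_option linter.style.haveILetI false
set_option linter.unusedSectionVars false

open Cfsg Polynomial
open scoped Matrix

namespace H20

universe u

namespace Twisted

/-- Conjugation by an element normalizing `H`. -/
def conjH {G : Type u} [Group G] {H N : Subgroup G} (hn : ∀ g ∈ N, ∀ h ∈ H, g * h * g⁻¹ ∈ H)
    {g : G} (hg : g ∈ N) : H ≃* H where
  toFun h := ⟨g * h * g⁻¹, hn g hg h h.2⟩
  invFun h := ⟨g⁻¹ * h * g, by simpa using hn g⁻¹ (inv_mem hg) h h.2⟩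
  left_inv h := Subtype.ext (by simp [mul_assoc])
  right_inv h := Subtype.ext (by simp [mul_assoc])
  map_mul' h h' := Subtype.ext (by simp [mul_assoc])

theorem conjH_apply {G : Type u} [Group G] {H N : Subgroup G}
    (hn : ∀ g ∈ N, ∀ h ∈ H, g * h * g⁻¹ ∈ H) {g : G} (hg : g ∈ N) (h : H) :
    ((conjH hn hg h : H) : G) = g * h * g⁻¹ := rfl

/-- Every injective endomorphism of a matrix algebra is inner. -/
theorem exists_units_conj {k : Type*} [Field k] {m : ℕ}
    (f : Matrix (Fin m) (Fin m) k →ₐ[k] Matrix (Fin m) (Fin m) k) (hf : Function.Injective f) :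
    ∃ U : (Matrix (Fin m) (Fin m) k)ˣ, ∀ X, f X = (U : Matrix (Fin m) (Fin m) k) * X *
      ((U⁻¹ : (Matrix (Fin m) (Fin m) k)ˣ) : Matrix (Fin m) (Fin m) k) := by
  have hb : Function.Bijective f :=
    ⟨hf, LinearMap.surjective_of_injective (f := f.toLinearMap) hf⟩
  let L := Matrix.toLinAlgEquiv' (R := k) (n := Fin m)
  obtain ⟨T, hT⟩ := ((L.symm.trans (AlgEquiv.ofBijective f hb)).trans L).eq_linearEquivConjAlgEquiv
  refine ⟨⟨L.symm (T : (Fin m → k) →ₗ[k] _), L.symm (T.symm : (Fin m → k) →ₗ[k] _), ?_, ?_⟩,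
    fun X => ?_⟩
  · rw [← map_mul, ← map_one L.symm]
    congr 1
    exact LinearMap.ext fun x => T.apply_symm_apply x
  · rw [← map_mul, ← map_one L.symm]
    congr 1
    exact LinearMap.ext fun x => T.symm_apply_apply x
  · show f X = L.symm (T : (Fin m → k) →ₗ[k] _) * X * L.symm (T.symm : (Fin m → k) →ₗ[k] _)
    have h1 := AlgEquiv.congr_fun hT (L X)
    simp only [AlgEquiv.trans_apply, AlgEquiv.symm_apply_apply, AlgEquiv.ofBijective_apply] at h1
    apply L.injective
    rw [h1, map_mul, map_mul, AlgEquiv.apply_symm_apply, AlgEquiv.apply_symm_apply]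
    exact LinearMap.ext fun x => rfl

open MonoidAlgebra

theorem coeff_domCongr {R : Type*} [CommSemiring R] {A : Type*} [Group A] (e : A ≃* A)
    (z : MonoidAlgebra R A) (h : A) : (domCongr R R e z).coeff (e h) = z.coeff h := by
  simp [domCongr]

variable {G : Type u} [Group G] [Fintype G] {M : Ideal AlgInt} [hMp : M.IsPrime] {p : ℕ}

/-- The twisted bound on one lattice. -/
theorem lattice_bound (hM : IsPModular p M) {u a : G} {H C T N : Subgroup G}
    (hF : Stable.TFrame p u a C T N) (hH : ¬ p ∣ Nat.card H) (hcomm : ∀ h ∈ H, Commute u h)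
    (hdec : ∀ c ∈ C, ∃ j : ℕ, ∃ h ∈ H, c = u ^ j * h)
    (hn : ∀ g ∈ N, ∀ h ∈ H, g * h * g⁻¹ ∈ H) (θ : IrrCharacter H)
    (hθT : ∀ (g : G) (hg : g ∈ T) (h : H),
      (θ : H → ℂ) (conjH hn (hF.T_le hg) h) = (θ : H → ℂ) h)
    (hθN : ∀ (g : G) (hg : g ∈ N), g ∉ T →
      ∃ h : H, (θ : H → ℂ) (conjH hn hg h) ≠ (θ : H → ℂ) h)
    [Fintype H] {n : Type} [Fintype n] [DecidableEq n] (σ : G →* Matrix n n (Ou M p)) {d : ℕ} {t : ℤ}
    (hpoly : haveI := kU_isMaximal (M := M) (p := p) hM
      letI : Field (kU M p) := Ideal.Quotient.field _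
      HasPoly (Ideal.Quotient.mk (Ideal.span {(p : Ou M p)})) σ d)
    (ht : ∀ j : ℕ, ¬ p ∣ j → ∑ h : H, (θ : H → ℂ) h⁻¹ * ((σ (u ^ j * h)).trace : ℂ) =
      (Nat.card H : ℂ) * t) : t ≤ d := by
  classical
  haveI := ou_isDVR hM
  haveI := kU_isMaximal (M := M) (p := p) hM
  letI : Field (kU M p) := Ideal.Quotient.field _
  haveI := kU_isAlgClosed (M := M) (p := p) hM
  set red' : Ou M p →+* kU M p := Ideal.Quotient.mk _
  have hr : Stable.IsRed red' p :=
    ⟨hM.1, Ideal.Quotient.mk_surjective,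
      fun x => Ideal.Quotient.eq_zero_iff_mem.trans Ideal.mem_span_singleton,
      fun x hx => ou_isUnit hM fun hd' =>
        hx (Ideal.Quotient.eq_zero_iff_mem.2 (Ideal.mem_span_singleton.2 hd'))⟩
  haveI : Fact p.Prime := ⟨hM.1⟩
  set φ := (Ou M p).subtype with hφ
  set dθ := H12.degree (θ : H → ℂ) with hdθ
  have hdθp : ¬ p ∣ dθ := fun h => hH (h.trans (H12.irr_degree_dvd_card θ))
  obtain ⟨v, hv⟩ : ∃ v : Ou M p, v * (Nat.card H : Ou M p) = 1 :=
    (hr.isUnit _ (by rw [map_natCast]; exact hr.natCast_ne_zero hH)).exists_left_inv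
  have hv' : (v : ℂ) = (Nat.card H : ℂ)⁻¹ :=
    eq_inv_of_mul_eq_one_left (by simpa using congrArg Subtype.val hv)
  have hθmem : ∀ h : H, (θ : H → ℂ) h⁻¹ ∈ Ou M p := fun h => Rr_le_Ou
    (PrimeSylow.apply_mem_Rr θ fun hd => hH (hd.trans (orderOf_dvd_natCard _)))
  let εo : MonoidAlgebra (Ou M p) H :=
    ofFun fun h => (dθ : Ou M p) * v * ⟨(θ : H → ℂ) h⁻¹, hθmem h⟩
  have hεmap : MonoidAlgebra.mapRingHom H φ εo = eIdem ({θ} : Set (IrrCharacter H)) := by
    ext h
    rw [coeff_mapRingHom, eIdem, coeff_ofFun, coeff_ofFun, blockCoeff_eq_sum]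
    simp only [Set.mem_singleton_iff, Finset.sum_ite_eq', Finset.mem_univ, if_true,
      H12.irr_apply_one, hφ, Subring.coe_subtype, map_mul, map_natCast, hv', H12.irr_inv, ← hdθ]
    ring
  obtain ⟨m, s, ψ, hm0, hmd, hmul, hs1, hψs, hker⟩ :=
    exists_matrixUnits (A := H) hr φ Subtype.val_injective hH θ εo hεmap hdθp
  set e := MonoidAlgebra.mapRingHom H red' εo with he
  have hmapinj : Function.Injective (MonoidAlgebra.mapRingHom H φ) := fun x y h => by
    ext g
    exact congrArg Subtype.val (Subtype.ext (by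
      have := congrArg (fun z => z.coeff g) h
      simpa [hφ] using this) : x.coeff g = y.coeff g)
  have hεε : εo * εo = εo := hmapinj (by rw [map_mul, hεmap, eIdem_mul_self])
  let πo : MonoidAlgebra (Ou M p) H →ₐ[Ou M p] Matrix n n (Ou M p) :=
    MonoidAlgebra.lift (Ou M p) _ H (σ.comp H.subtype)
  let σb : G →* Matrix n n (kU M p) := red'.mapMatrix.toMonoidHom.comp σ
  have hσb : ∀ g, σb g = (σ g).map red' := fun g => rfl
  let π : MonoidAlgebra (kU M p) H →ₐ[kU M p] Matrix n n (kU M p) :=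
    MonoidAlgebra.lift (kU M p) _ H (σb.comp H.subtype)
  have hπsingle : ∀ (h : H) (c : kU M p), π (single h c) = c • σb h := fun h c => by
    simp [π, MonoidAlgebra.lift_apply]
  have hπred : ∀ y, (πo y).map red' = π (MonoidAlgebra.mapRingHom H red' y) := by
    intro y
    induction y using MonoidAlgebra.induction_on with
    | of h => simp [πo, π, hσb]
    | add x y hx hy => rw [map_add, map_add, map_add, ← hx, ← hy]; exact Matrix.map_add _ (map_add red') _ _
    | smul c x hx =>
      rw [map_smul, show MonoidAlgebra.mapRingHom H red' (c • x) =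
        red' c • MonoidAlgebra.mapRingHom H red' x by ext g; simp, map_smul, ← hx]
      ext i j
      simp
  have hπcomm : ∀ y, Commute (σ u) (πo y) := by
    intro y
    induction y using MonoidAlgebra.induction_on with
    | of h =>
      simp only [πo, MonoidAlgebra.lift_of, MonoidHom.comp_apply, Subgroup.coe_subtype]
      exact (hcomm h h.2).map σ
    | add x y hx hy => rw [map_add]; exact hx.add_right hy
    | smul c x hx => rw [map_smul]; exact hx.smul_right c
  -- conjugation
  have hσπ : ∀ (g : G) (hg : g ∈ N) (x : MonoidAlgebra (kU M p) H),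
      σb g * π x = π (domCongr (kU M p) (kU M p) (conjH hn hg) x) * σb g := by
    intro g hg x
    induction x using MonoidAlgebra.induction_on with
    | of h =>
      simp only [MonoidAlgebra.of_apply, domCongr_single, hπsingle, one_smul, conjH_apply,
        ← map_mul, mul_assoc, inv_mul_cancel, mul_one]
    | add x y hx hy => simp only [map_add, mul_add, add_mul, hx, hy]
    | smul c x hx => simp only [map_smul, mul_smul_comm, smul_mul_assoc, hx]
  have hεfix : ∀ (g : G) (hg : g ∈ T),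
      domCongr (kU M p) (kU M p) (conjH hn (hF.T_le hg)) e = e := by
    intro g hg
    ext h'
    obtain ⟨h, rfl⟩ := (conjH hn (hF.T_le hg)).surjective h'
    rw [coeff_domCongr, he, coeff_mapRingHom, coeff_mapRingHom, coeff_ofFun, coeff_ofFun]
    congr 2
    apply Subtype.ext
    show (θ : H → ℂ) h⁻¹ = (θ : H → ℂ) (conjH hn (hF.T_le hg) h)⁻¹
    rw [← map_inv, hθT g hg]
  have hεout : ∀ (g : G) (hg : g ∈ N), g ∉ T →
      domCongr (kU M p) (kU M p) (conjH hn hg) e * e = 0 := by
    intro g hg hgT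
    set cg := conjH hn hg
    have h1 : domCongr ℂ ℂ cg (eIdem ({θ} : Set (IrrCharacter H))) * eIdem {θ} = 0 := by
      have hcl : IsCl (domCongr ℂ ℂ cg (eIdem ({θ} : Set (IrrCharacter H)))) := by
        intro x y
        obtain ⟨x, rfl⟩ := cg.surjective x
        obtain ⟨y, rfl⟩ := cg.surjective y
        rw [← map_inv, ← map_mul, ← map_mul, coeff_domCongr, coeff_domCongr]
        exact isCl_eIdem _ x y
      refine ext_omega (hcl.mul (isCl_eIdem _)) (fun _ _ => rfl) fun χ => ?_
      rw [omega_mul χ hcl, omega_eIdem, omega_zero]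
      by_cases hχ : χ ∈ ({θ} : Set (IrrCharacter H))
      · rw [if_pos hχ, mul_one]
        rw [Set.mem_singleton_iff] at hχ
        subst hχ
        let θ' : IrrCharacter H := ⟨(χ : H → ℂ) ∘ cg, H13.isIrrCharacter_comp_equiv cg χ.2⟩
        have h2 : omega (χ : H → ℂ) (domCongr ℂ ℂ cg (eIdem ({χ} : Set (IrrCharacter H)))) =
            omega (θ' : H → ℂ) (eIdem ({χ} : Set (IrrCharacter H))) := by
          simp only [omega, θ', Function.comp_apply, map_one]
          congr 1
          refine (Fintype.sum_equiv cg.toEquiv _ _ fun h => ?_).symm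
          show _ = (domCongr ℂ ℂ cg (eIdem {χ})).coeff (cg h) * (χ : H → ℂ) (cg h)
          rw [coeff_domCongr]
        rw [h2, omega_eIdem, if_neg]
        rw [Set.mem_singleton_iff]
        intro he'
        obtain ⟨h, hh⟩ := hθN g hg hgT
        exact hh (congrFun (congrArg Subtype.val he') h)
      · rw [if_neg hχ, mul_zero]
    have h3 : ∀ {R S : Type} [CommRing R] [CommRing S] (f : R →+* S) (y : MonoidAlgebra R H),
        MonoidAlgebra.mapRingHom H f (domCongr R R cg y) =
          domCongr S S cg (MonoidAlgebra.mapRingHom H f y) := by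
      intro R S _ _ f y
      ext h'
      obtain ⟨h, rfl⟩ := cg.surjective h'
      rw [coeff_domCongr, coeff_mapRingHom, coeff_mapRingHom, coeff_domCongr]
    have h4 : domCongr (Ou M p) (Ou M p) cg εo * εo = 0 :=
      hmapinj (by rw [map_mul, h3, hεmap, h1, map_zero])
    rw [he, ← h3, ← map_mul, h4, map_zero]
  -- the twist
  have haN : a ∈ N := hF.T_le hF.a_mem
  set ca := domCongr (kU M p) (kU M p) (conjH hn haN) with hca
  have hψe : ψ e = 1 := by rw [← hs1, hψs]
  have hse : ∀ X, s X * e = s X := fun X => by rw [hker, hψs]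
  have hcae : ca e = e := hεfix a hF.a_mem
  have hcas : ∀ X, s (ψ (ca (s X))) = ca (s X) := fun X => by
    rw [← hker]
    conv_lhs => rw [← hcae, ← map_mul, hse]
  let f : Matrix (Fin m) (Fin m) (kU M p) →ₐ[kU M p] Matrix (Fin m) (Fin m) (kU M p) :=
    AlgHom.ofLinearMap (ψ.toLinearMap ∘ₗ ca.toLinearMap ∘ₗ s)
      (by show ψ (ca (s 1)) = 1; rw [hs1, hcae, hψe])
      (fun X Y => by
        show ψ (ca (s (X * Y))) = ψ (ca (s X)) * ψ (ca (s Y))
        rw [hmul, map_mul, map_mul])
  have hfinj : Function.Injective f := fun X Y hXY => by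
    have h1 : s (ψ (ca (s X))) = s (ψ (ca (s Y))) := congrArg s hXY
    rw [hcas, hcas] at h1
    rw [← hψs X, ← hψs Y, ca.injective h1]
  obtain ⟨U, hU⟩ := exists_units_conj f hfinj
  let ι : Matrix (Fin m) (Fin m) (kU M p) →ₗ[kU M p] Matrix n n (kU M p) := π.toLinearMap ∘ₗ s
  have hι : ∀ X, ι X = π (s X) := fun X => rfl
  have hone : ι 1 = (πo εo).map red' := by rw [hι, hs1, hπred]
  have hlift : ∀ X, ∃ Y : Matrix n n (Ou M p), Y.map red' = ι X ∧ Commute (σ u) Y := by
    intro X
    let y : MonoidAlgebra (Ou M p) H := ofFun fun h => Function.surjInv hr.surj ((s X).coeff h)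
    refine ⟨πo y, ?_, hπcomm y⟩
    rw [hπred, hι]
    congr 1
    ext h
    simp [y, Function.surjInv_eq hr.surj]
  have hecl : IsCl e := by
    have hεcl : IsCl εo := fun g h => Subtype.ext (by
      have h1 := isCl_eIdem ({θ} : Set (IrrCharacter H)) g h
      rw [← hεmap, coeff_mapRingHom, coeff_mapRingHom] at h1
      exact h1)
    exact hεcl.map red'
  have key := Stable.bound_twisted hr hF hm0 (πo εo) (by rw [← map_mul, hεε]) (hπcomm εo) ι
    (fun X Y => by rw [hι, hι, hι, hmul, map_mul]) hone hlift U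
    (fun X => by
      rw [← hσb, hι, hι, ← hU, hσπ a haN]
      show π (ca (s X)) * σb a = π (s (ψ (ca (s X)))) * σb a
      rw [hcas])
    (fun c hc => by
      obtain ⟨j, h, hh, rfl⟩ := hdec c hc
      refine ⟨j, ψ (single (⟨h, hh⟩ : H) 1), ?_, ?_⟩
      · rw [← hσb, ← hσb, hι, hι, hs1, ← hker, map_mul, map_mul, map_pow, hπsingle, one_smul,
          mul_assoc]
      · rw [← hσb, hι, hs1, map_mul, map_pow]
        refine Commute.mul_left ?_ ?_
        · refine Commute.pow_left ?_ _
          rw [← hs1, ← hι, hone, hσb]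
          exact (hπcomm εo).map red'.mapMatrix
        · rw [show σb h = π (single (⟨h, hh⟩ : H) 1) by rw [hπsingle, one_smul]]
          exact ((hecl.commute _).map π).symm)
    (fun g hg hgT => by
      rw [← hσb, ← hσb, hι, hs1, hσπ g hg, mul_assoc _ (σb g), ← map_mul σb, mul_inv_cancel,
        map_one, mul_one, ← map_mul, hεout g hg hgT, map_zero])
    (t := (dθ : ℤ) * t) (d := d)
    (fun j hj => by
      apply Subtype.ext
      have h1 : σ (u ^ j) * πo εo = ∑ h : H, εo.coeff h • σ (u ^ j * h) := by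
        simp only [πo, MonoidAlgebra.lift_apply, MonoidHom.comp_apply, Subgroup.coe_subtype]
        rw [Finsupp.sum_fintype, Finset.mul_sum]
        · exact Finset.sum_congr rfl fun h _ => by rw [mul_smul_comm, map_mul]
        · exact fun h => zero_smul _ _
      rw [h1, Matrix.trace_sum, AddSubmonoidClass.coe_finsetSum]
      simp only [Matrix.trace_smul, εo, coeff_ofFun, smul_eq_mul, Subring.coe_mul,
        SubringClass.coe_natCast, hv', mul_assoc, ← Finset.mul_sum, ht j hj]
      rw [inv_mul_cancel_left₀ (Nat.cast_ne_zero.2 Nat.card_pos.ne')]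
      push_cast
      rfl)
    (fun f hf => (hpoly f hf).imp fun P hP => ⟨fun v hv i => hP.1 _ i v hv, hP.2⟩)
  have hd0 : (0 : ℤ) < dθ := by exact_mod_cast H12.irr_degree_pos θ
  have hmd' : (m : ℤ) * d ≤ (dθ : ℤ) * d :=
    mul_le_mul_of_nonneg_right (by exact_mod_cast hmd) (Int.natCast_nonneg d)
  exact le_of_mul_le_mul_left (key.trans hmd') hd0

/-- The twisted bound. -/
theorem character_bound (hM : IsPModular p M) {u a : G} {H C T N : Subgroup G}
    (hF : Stable.TFrame p u a C T N) (hH : ¬ p ∣ Nat.card H) (hcomm : ∀ h ∈ H, Commute u h)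
    (hdec : ∀ c ∈ C, ∃ j : ℕ, ∃ h ∈ H, c = u ^ j * h)
    (hn : ∀ g ∈ N, ∀ h ∈ H, g * h * g⁻¹ ∈ H) (θ : IrrCharacter H)
    (hθT : ∀ (g : G) (hg : g ∈ T) (h : H),
      (θ : H → ℂ) (conjH hn (hF.T_le hg) h) = (θ : H → ℂ) h)
    (hθN : ∀ (g : G) (hg : g ∈ N), g ∉ T →
      ∃ h : H, (θ : H → ℂ) (conjH hn hg h) ≠ (θ : H → ℂ) h)
    [Fintype H] (S : Finset (IrrCharacter G)) (hS0 : S.Nonempty)
    (hSp : S.card < p) {d : ℕ} (hd : ∀ χ ∈ S, H12.degree (χ : G → ℂ) = d)
    (hcong : ∀ χ ∈ S, ∀ η ∈ S, ∀ g : G, MemLocalIdeal M ((χ : G → ℂ) g - (η : G → ℂ) g))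
    (hval : ∀ g : G, ∑ χ ∈ S, (χ : G → ℂ) g ∈ Rr p) (s : ℤ)
    (hs : ∀ j : ℕ, ¬ p ∣ j →
      ∑ h : H, (θ : H → ℂ) h⁻¹ * ∑ χ ∈ S, (χ : G → ℂ) (u ^ j * h) = (Nat.card H : ℂ) * s) :
    |s| ≤ 1 := by
  obtain ⟨hd0, r, σ, r₂, σ₂, htr, htr₂, hpoly, hpoly₂⟩ :=
    exists_lattices hM S hS0 hSp hd hcong hval
  have hne1 : ∀ j : ℕ, ¬ p ∣ j → ∀ h ∈ H, u ^ j * h ≠ 1 := by
    intro j hj h hh he
    have h1 : u ^ j ∈ H := by rw [eq_inv_of_mul_eq_one_left he]; exact inv_mem hh
    have h2 : orderOf (u ^ j) ∣ p := hF.orderOf_u ▸ orderOf_pow_dvd j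
    rcases (Nat.dvd_prime hM.1).1 h2 with h3 | h3
    · rw [orderOf_eq_one_iff, ← orderOf_dvd_iff_pow_eq_one, hF.orderOf_u] at h3
      exact hj h3
    · exact hH (h3 ▸ Subgroup.orderOf_dvd_natCard H h1)
  have hb1 : (d : ℤ) * s ≤ d :=
    lattice_bound hM hF hH hcomm hdec hn θ hθT hθN σ hpoly fun j hj => by
      simp only [htr]
      push_cast
      rw [mul_left_comm _ (d : ℂ), ← hs j hj, Finset.mul_sum]
      exact Finset.sum_congr rfl fun h _ => by ring
  have hb2 : -((d : ℤ) * s) ≤ d :=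
    lattice_bound hM hF hH hcomm hdec hn θ hθT hθN σ₂ hpoly₂ fun j hj => by
      rw [Finset.sum_congr rfl fun h _ => by rw [htr₂ _ (hne1 j hj h h.2)]]
      push_cast
      rw [mul_neg, mul_left_comm _ (d : ℂ), ← hs j hj, Finset.mul_sum, ← Finset.sum_neg_distrib]
      exact Finset.sum_congr rfl fun h _ => by ring
  have hd0' : (0 : ℤ) < d := by exact_mod_cast hd0
  rw [abs_le]
  constructor <;> nlinarith

end Twisted

end H20
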