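import Cfsg.Agent.H93.Fi23Order
import Cfsg.Agent.H65.Fischer.Orders

/-!
A Y342 tuple of transpositions identifies a group of type M(23) with the presented `Fi23`.
-/

set_option autoImplicit false
set_option linter.constructorNameAsVariable false

namespace H20.F23

open Cfsg Cfsg.Spor

variable {G : Type*} [Group G] [Finite G]

theorem pow_label_eq_one (x : Fi23.Gen → G) (hinv : ∀ i, x i * x i = 1)
    (hedge : ∀ e ∈ Fi23.edges, (x e.1 * x e.2.2) ^ 3 = 1)
    (hcomm : ∀ i j, i ≠ j →
      Fi23.edges.find? (fun e => (e.1 = i ∧ e.2.2 = j) ∨ (e.1 = j ∧ e.2.2 = i)) = none →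
      Commute (x i) (x j))
    (i j : Fi23.Gen) : (x i * x j) ^ coxLabel Fi23.edges i j = 1 := by
  unfold coxLabel
  split_ifs with h
  · subst h; rw [pow_one, hinv]
  · split
    next e hf =>
      have hm := List.mem_of_find?_eq_some hf
      have hp := List.find?_some hf
      simp only [decide_eq_true_eq] at hp
      have h3 : e.2.1 = 3 := (show ∀ e ∈ Fi23.edges, e.2.1 = 3 by decide) e hm
      rw [h3]
      rcases hp with ⟨h1, h2⟩ | ⟨h1, h2⟩
      · rw [← h1, ← h2]; exact hedge e hm
      · rw [← h1, ← h2]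
        have hi : ∀ k, (x k)⁻¹ = x k := fun k => inv_eq_of_mul_eq_one_right (hinv k)
        have := hedge e hm
        rw [← inv_eq_one, ← inv_pow, mul_inv_rev, hi, hi] at this
        exact this
    next hf => rw [(hcomm i j h hf).mul_pow, pow_two, pow_two, hinv, hinv, one_mul]

/-- A Y342 tuple of members of `D` with the two further relations gives the isomorphism. -/
theorem iso_of_tuple {D : Set G} (hD : IsThreeTranspositionGroup D) (hp : IsPrimitiveUnderConj D)
    (h : IsOfTypeM23 G D) (x : Fi23.Gen → G) (hx : ∀ i, x i ∈ D)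
    (hedge : ∀ e ∈ Fi23.edges, (x e.1 * x e.2.2) ^ 3 = 1)
    (hcomm : ∀ i j, i ≠ j →
      Fi23.edges.find? (fun e => (e.1 = i ∧ e.2.2 = j) ∨ (e.1 = j ∧ e.2.2 = i)) = none →
      Commute (x i) (x j))
    (hspider : (x .d * x .c * x .b * x .d * x .e * x .f * x .d * x .h * x .i) ^ 10 = 1)
    (hseven : (x .a * x .b * x .c * x .d * x .e * x .f * x .h) ^ 9 = 1) :
    ∃ e : Fi23 ≃* G, ∀ i, e (PresentedGroup.of i) = x i := by
  have hinv : ∀ i, x i * x i = 1 := fun i => by
    rw [← pow_two, ← (hD.1.1 _ (hx i)), pow_orderOf_eq_one]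
  have hrel : ∀ r ∈ coxRelators Fi23.edges ∪ {r | r ∈ Fi23.extra}, FreeGroup.lift x r = 1 := by
    rintro r (⟨i, -, j, -, rfl⟩ | hr)
    · rw [map_pow, map_mul, FreeGroup.lift_apply_of, FreeGroup.lift_apply_of]
      exact pow_label_eq_one x hinv hedge hcomm i j
    · simp only [Set.mem_setOf_eq, Fi23.extra, List.mem_cons, List.not_mem_nil, or_false] at hr
      rcases hr with rfl | rfl
      · simpa using hspider
      · simpa using hseven
  let ψ : Fi23 →* G := PresentedGroup.toGroup hrel
  have hψ : ∀ i, ψ (PresentedGroup.of i) = x i := fun i => PresentedGroup.toGroup.of hrel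
  haveI hfin : Finite Fi23 := H93.Fi23Order.card_le.1
  haveI : IsSimpleGroup Fi23 := H93.Fi23Order.isFi23.1
  have hne : ψ.ker ≠ ⊤ := fun he => by
    have h1 : x .a = 1 := (hψ .a).symm.trans (MonoidHom.mem_ker.1 (he ▸ Subgroup.mem_top _))
    have h2 := hD.1.1 _ (hx .a)
    rw [h1, orderOf_one] at h2
    omega
  have hinj : Function.Injective ψ :=
    (MonoidHom.ker_eq_bot_iff ψ).1
      ((IsSimpleGroup.eq_bot_or_eq_top_of_normal ψ.ker inferInstance).resolve_right hne)
  have hcard : Nat.card Fi23 = Nat.card G := by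
    rw [H93.Fi23Order.isFi23.2, H65.Fischer.card_m23 hD hp h]
    norm_num
  have hbij : Function.Bijective ψ := (Nat.bijective_iff_injective_and_card ψ).2 ⟨hinj, hcard⟩
  exact ⟨MulEquiv.ofBijective ψ hbij, hψ⟩

end H20.F23
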