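import Mathlib.GroupTheory.Transfer
import Mathlib.GroupTheory.Sylow
import Mathlib.Data.ZMod.Basic

/-!
# Sylow `2`-subgroups of type `(2^m, 2^m)`
-/

set_option autoImplicit false
set_option linter.style.haveILetI false

namespace H20.Homocyclic

variable {G : Type*} [Group G]

/-- The involutions of a subgroup. -/
abbrev Invs (P : Subgroup G) : Type _ := {z : P // orderOf z = 2}

/-- Automorphisms permute the involutions. -/
def permInvs (P : Subgroup G) : MulAut P →* Equiv.Perm (Invs P) where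
  toFun α := α.toEquiv.subtypeEquiv fun z => by
    show orderOf z = 2 ↔ orderOf (α z) = 2
    rw [α.orderOf_eq]
  map_one' := Equiv.ext fun z => Subtype.ext rfl
  map_mul' α β := Equiv.ext fun z => Subtype.ext rfl

theorem permInvs_apply (P : Subgroup G) (α : MulAut P) (z : Invs P) :
    ((permInvs P α z : Invs P) : P) = α (z : P) := rfl

/-- The action of the normalizer on the involutions. -/
def act (P : Subgroup G) : Subgroup.normalizer (P : Set G) →* Equiv.Perm (Invs P) :=
  (permInvs P).comp P.normalizerMonoidHom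

theorem card_zmod_invs {m : ℕ} (hm : 1 ≤ m) :
    Nat.card {z : Multiplicative (ZMod (2 ^ m) × ZMod (2 ^ m)) // orderOf z = 2} = 3 := by
  haveI : NeZero (2 ^ m) := ⟨by positivity⟩
  set h : ZMod (2 ^ m) := ((2 ^ (m - 1) : ℕ) : ZMod (2 ^ m)) with hh
  have hpow : 2 ^ (m - 1) * 2 = 2 ^ m := by rw [← pow_succ]; congr 1; omega
  have hlt : 2 ^ (m - 1) < 2 ^ m := Nat.pow_lt_pow_right (by norm_num) (by omega)
  have h0 : h ≠ 0 := by
    rw [hh, Ne, ZMod.natCast_eq_zero_iff]
    exact Nat.not_dvd_of_pos_of_lt (pow_pos (by norm_num) _) hlt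
  have hadd : h + h = 0 := by
    rw [hh, ← Nat.cast_add, ← mul_two, hpow, ZMod.natCast_self]
  have hcases : ∀ x : ZMod (2 ^ m), x + x = 0 → x = 0 ∨ x = h := by
    intro x hx
    rw [← ZMod.natCast_zmod_val x, ← Nat.cast_add, ZMod.natCast_eq_zero_iff] at hx
    have hv := ZMod.val_lt x
    obtain ⟨t, ht⟩ := hx
    have ht2 : t = 0 ∨ t = 1 := by
      rcases Nat.lt_or_ge t 2 with ht2 | ht2
      · omega
      · have : 2 ^ m * 2 ≤ 2 ^ m * t := Nat.mul_le_mul le_rfl ht2
        omega
    rcases ht2 with rfl | rfl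
    · left
      rw [← ZMod.val_eq_zero]
      omega
    · right
      rw [← ZMod.natCast_zmod_val x, hh]
      congr 1
      omega
  have hord : ∀ z : Multiplicative (ZMod (2 ^ m) × ZMod (2 ^ m)), orderOf z = 2 ↔
      (z.toAdd.1 + z.toAdd.1 = 0 ∧ z.toAdd.2 + z.toAdd.2 = 0) ∧ z.toAdd ≠ 0 := by
    intro z
    haveI : Fact (Nat.Prime 2) := ⟨Nat.prime_two⟩
    rw [orderOf_eq_prime_iff, pow_two]
    constructor
    · rintro ⟨h2, h1⟩
      have h2' := congrArg Multiplicative.toAdd h2
      rw [toAdd_mul, toAdd_one, Prod.ext_iff] at h2'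
      exact ⟨h2', fun hz => h1 (Multiplicative.toAdd.injective hz)⟩
    · rintro ⟨h2, h1⟩
      refine ⟨Multiplicative.toAdd.injective ?_, fun hz => h1 (by rw [hz]; rfl)⟩
      rw [toAdd_mul, toAdd_one]
      exact Prod.ext h2.1 h2.2
  let f : Fin 3 → ZMod (2 ^ m) × ZMod (2 ^ m) := ![(h, 0), (0, h), (h, h)]
  have hf : ∀ i, orderOf (Multiplicative.ofAdd (f i)) = 2 := by
    intro i
    rw [hord]
    fin_cases i <;> simp [f, hadd, h0, Prod.ext_iff]
  have hbij : Function.Bijective
      (fun i => (⟨_, hf i⟩ : {z : Multiplicative (ZMod (2 ^ m) × ZMod (2 ^ m)) // orderOf z = 2})) := by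
    constructor
    · intro i j hij
      have := congrArg (fun z => Multiplicative.toAdd (Subtype.val z)) hij
      fin_cases i <;> fin_cases j <;> simp [f, h0, Ne.symm h0, Prod.ext_iff] at this ⊢
    · rintro ⟨z, hz⟩
      obtain ⟨⟨ha, hb⟩, hne⟩ := (hord z).1 hz
      rcases hcases _ ha with ha | ha <;> rcases hcases _ hb with hb | hb
      · exact absurd (Prod.ext ha hb) hne
      · exact ⟨1, Subtype.ext (Multiplicative.toAdd.injective (Prod.ext ha.symm hb.symm))⟩
      · exact ⟨0, Subtype.ext (Multiplicative.toAdd.injective (Prod.ext ha.symm hb.symm))⟩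
      · exact ⟨2, Subtype.ext (Multiplicative.toAdd.injective (Prod.ext ha.symm hb.symm))⟩
  rw [← Nat.card_eq_of_bijective _ hbij, Nat.card_eq_fintype_card, Fintype.card_fin]

theorem card_invs {P : Subgroup G} {m : ℕ} (hm : 1 ≤ m)
    (e : P ≃* Multiplicative (ZMod (2 ^ m) × ZMod (2 ^ m))) : Nat.card (Invs P) = 3 := by
  rw [← card_zmod_invs hm]
  exact Nat.card_congr (e.toEquiv.subtypeEquiv fun z => (by
    show orderOf z = 2 ↔ orderOf (e z) = 2
    rw [e.orderOf_eq]))

/-- An automorphism of odd order fixing all involutions of an abelian `2`-group is trivial. -/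
theorem eq_self_of_fix_invs {A : Type*} [Group A] (hA : ∀ a b : A, a * b = b * a) (α : MulAut A)
    {k : ℕ} (hk : Odd k) (hαk : α ^ k = 1) (hfix : ∀ z : A, orderOf z = 2 → α z = z) :
    ∀ (j : ℕ) (z : A), z ^ 2 ^ j = 1 → α z = z := by
  intro j
  induction j with
  | zero => intro z hz; rw [pow_zero, pow_one] at hz; rw [hz, map_one]
  | succ j ih =>
    intro z hz
    have h2 := ih (z ^ 2) (by rw [← pow_mul, ← pow_succ']; exact hz)
    rw [map_pow] at h2
    have hw : (z⁻¹ * α z) ^ 2 = 1 := by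
      rw [(show Commute z⁻¹ (α z) from hA _ _).mul_pow, h2, inv_pow, inv_mul_cancel]
    set w := z⁻¹ * α z with hwdef
    have hαw : α w = w := by
      rcases eq_or_ne w 1 with h1 | h1
      · rw [h1, map_one]
      · haveI : Fact (Nat.Prime 2) := ⟨Nat.prime_two⟩
        exact hfix w (orderOf_eq_prime hw h1)
    have hpow : ∀ i : ℕ, (α ^ i) z = z * w ^ i := by
      intro i
      induction i with
      | zero => simp
      | succ i ih2 =>
        rw [pow_succ', MulAut.mul_apply, ih2, map_mul, map_pow, hαw, pow_succ', ← mul_assoc, hwdef,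
          mul_inv_cancel_left]
    have h1 := hpow k
    obtain ⟨t, rfl⟩ := hk
    rw [hαk, MulAut.one_apply, pow_succ, pow_mul, hw, one_pow, one_mul, left_eq_mul] at h1
    rw [hwdef, inv_mul_eq_one] at h1
    exact h1.symm

variable [Finite G]

theorem ker_act {P : Sylow 2 G} {m : ℕ} (e : (P : Subgroup G) ≃* Multiplicative (ZMod (2 ^ m) × ZMod (2 ^ m))) :
    (act (P : Subgroup G)).ker =
      (Subgroup.centralizer (P : Set G)).subgroupOf (Subgroup.normalizer (P : Set G)) := by
  have hker := Subgroup.normalizerMonoidHom_ker (H := (P : Subgroup G))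
  refine le_antisymm (fun n hn => ?_) (fun n hn => ?_)
  · refine hker.le ?_
    rw [MonoidHom.mem_ker]
    set φ := (P : Subgroup G).normalizerMonoidHom with hφ
    have hcomm : ∀ a b : (P : Subgroup G), a * b = b * a := fun a b =>
      e.injective (by rw [map_mul, map_mul, mul_comm])
    have hPC : (P : Subgroup G) ≤ Subgroup.centralizer (P : Set G) := fun u hu v hv =>
      congrArg Subtype.val (hcomm ⟨v, hv⟩ ⟨u, hu⟩)
    have hodd : Odd (Nat.card φ.range) := by
      rw [← Subgroup.index_ker, hφ, hker, ← Subgroup.relIndex, Nat.odd_iff, ← Nat.two_dvd_ne_zero]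
      exact fun h => P.not_dvd_index ((h.trans (Subgroup.relIndex_dvd_of_le_left _ hPC)).trans
        (Subgroup.relIndex_dvd_index_of_le Subgroup.le_normalizer))
    have hk : φ n ^ Nat.card φ.range = 1 := by
      have := pow_card_eq_one' (x := (⟨φ n, n, rfl⟩ : φ.range))
      simpa [Subtype.ext_iff] using this
    refine MulEquiv.ext fun z => ?_
    obtain ⟨j, hj⟩ := IsPGroup.iff_orderOf.1 P.isPGroup' z
    refine eq_self_of_fix_invs hcomm _ hodd hk (fun w hw => ?_) j z (hj ▸ pow_orderOf_eq_one z)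
    exact congrArg Subtype.val (Equiv.congr_fun (MonoidHom.mem_ker.1 hn) (⟨w, hw⟩ : Invs _))
  · rw [MonoidHom.mem_ker, act, MonoidHom.comp_apply, MonoidHom.mem_ker.1 (hker.ge hn), map_one]

theorem odd_relIndex {P : Sylow 2 G} {m : ℕ}
    (e : (P : Subgroup G) ≃* Multiplicative (ZMod (2 ^ m) × ZMod (2 ^ m))) :
    Odd ((Subgroup.centralizer (P : Set G)).relIndex (Subgroup.normalizer (P : Set G))) := by
  have hPC : (P : Subgroup G) ≤ Subgroup.centralizer (P : Set G) := fun u hu v hv =>
    congrArg Subtype.val (e.injective (by rw [map_mul, map_mul, mul_comm]) :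
      (⟨v, hv⟩ : (P : Subgroup G)) * ⟨u, hu⟩ = ⟨u, hu⟩ * ⟨v, hv⟩)
  rw [Nat.odd_iff, ← Nat.two_dvd_ne_zero]
  exact fun h => P.not_dvd_index ((h.trans (Subgroup.relIndex_dvd_of_le_left _ hPC)).trans
    (Subgroup.relIndex_dvd_index_of_le Subgroup.le_normalizer))

theorem relIndex_eq_card_range {P : Sylow 2 G} {m : ℕ}
    (e : (P : Subgroup G) ≃* Multiplicative (ZMod (2 ^ m) × ZMod (2 ^ m))) :
    (Subgroup.centralizer (P : Set G)).relIndex (Subgroup.normalizer (P : Set G)) =
      Nat.card (act (P : Subgroup G)).range := by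
  rw [Subgroup.relIndex, ← ker_act e, Subgroup.index_ker]

theorem relIndex_eq_one_or_three {P : Sylow 2 G} {m : ℕ} (hm : 1 ≤ m)
    (e : (P : Subgroup G) ≃* Multiplicative (ZMod (2 ^ m) × ZMod (2 ^ m))) :
    (Subgroup.centralizer (P : Set G)).relIndex (Subgroup.normalizer (P : Set G)) = 1 ∨
      (Subgroup.centralizer (P : Set G)).relIndex (Subgroup.normalizer (P : Set G)) = 3 := by
  classical
  haveI : Fintype (Invs (P : Subgroup G)) := Fintype.ofFinite _
  have h3 := card_invs hm e
  have hodd := odd_relIndex e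
  have h6 : (Subgroup.centralizer (P : Set G)).relIndex (Subgroup.normalizer (P : Set G)) ∣ 6 := by
    rw [relIndex_eq_card_range e]
    refine (Subgroup.card_subgroup_dvd_card _).trans (dvd_of_eq ?_)
    rw [Nat.card_eq_fintype_card, Fintype.card_perm, ← Nat.card_eq_fintype_card, h3]
    rfl
  have hle := Nat.le_of_dvd (by norm_num) h6
  generalize (Subgroup.centralizer (P : Set G)).relIndex (Subgroup.normalizer (P : Set G)) = r at *
  interval_cases r <;> simp_all (config := { decide := true })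

theorem perm_three {X : Type*} (h : Nat.card X = 3) (σ : Equiv.Perm X) (hσ : σ ^ 3 = 1) :
    σ = 1 ∨ ∀ a b : X, ∃ i : ℕ, (σ ^ i) a = b := by
  have key : ∀ τ : Equiv.Perm (Fin 3), τ ^ 3 = 1 →
      τ = 1 ∨ ∀ a b : Fin 3, ∃ i : Fin 3, (τ ^ (i : ℕ)) a = b := by decide
  haveI : Finite X := Nat.finite_of_card_ne_zero (by omega)
  let e : X ≃ Fin 3 := (Finite.equivFin X).trans (finCongr h)
  let E := e.permCongrHom
  rcases key (E σ) (by rw [← map_pow, hσ, map_one]) with h' | h'
  · exact Or.inl (E.injective (by rw [h', map_one]))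
  · refine Or.inr fun a b => ?_
    obtain ⟨i, hi⟩ := h' (e a) (e b)
    refine ⟨i, e.injective ?_⟩
    rw [← map_pow] at hi
    simpa [E, Equiv.permCongrHom] using hi

theorem act_pow_three {P : Sylow 2 G} {m : ℕ} (hm : 1 ≤ m)
    (e : (P : Subgroup G) ≃* Multiplicative (ZMod (2 ^ m) × ZMod (2 ^ m)))
    (n : Subgroup.normalizer (P : Set G)) : act (P : Subgroup G) n ^ 3 = 1 := by
  have h := pow_card_eq_one' (x := (⟨_, n, rfl⟩ : (act (P : Subgroup G)).range))
  rw [← relIndex_eq_card_range e] at h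
  have h' : act (P : Subgroup G) n ^
      (Subgroup.centralizer (P : Set G)).relIndex (Subgroup.normalizer (P : Set G)) = 1 := by
    simpa [Subtype.ext_iff] using h
  rcases relIndex_eq_one_or_three hm e with h1 | h1 <;> rw [h1] at h'
  · rw [pow_one] at h'; rw [h', one_pow]
  · exact h'

theorem centralizer_inf_normalizer {P : Sylow 2 G} {m : ℕ} (hm : 1 ≤ m)
    (e : (P : Subgroup G) ≃* Multiplicative (ZMod (2 ^ m) × ZMod (2 ^ m)))
    {z : G} (hz : z ∈ (P : Subgroup G)) (hz1 : z ≠ 1) :
    Subgroup.centralizer ({z} : Set G) ⊓ Subgroup.normalizer (P : Set G) =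
      Subgroup.centralizer (P : Set G) := by
  refine le_antisymm ?_ (le_inf (fun g hg => Subgroup.mem_centralizer_singleton_iff.2
    (hg z hz).symm) (fun g hg => Subgroup.mem_normalizer_iff.2 fun u => ?_))
  · rintro n ⟨hn, hnN⟩
    obtain ⟨j, hj⟩ := IsPGroup.iff_orderOf.1 P.isPGroup' ⟨z, hz⟩
    rcases j with _ | j
    · rw [pow_zero, orderOf_eq_one_iff] at hj
      exact absurd (congrArg Subtype.val hj) hz1
    set w : (P : Subgroup G) := ⟨z, hz⟩ ^ 2 ^ j with hw
    have hw2 : orderOf w = 2 := by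
      rw [hw, orderOf_pow_of_dvd (by positivity) (hj ▸ pow_dvd_pow 2 (by omega)), hj, pow_succ,
        Nat.mul_div_cancel_left _ (by positivity)]
    have hnw : act (P : Subgroup G) ⟨n, hnN⟩ ⟨w, hw2⟩ = ⟨w, hw2⟩ := by
      refine Subtype.ext (Subtype.ext ?_)
      show n * (w : G) * n⁻¹ = w
      have hc : Commute n z := Subgroup.mem_centralizer_singleton_iff.1 hn
      rw [hw, Subgroup.coe_pow, (hc.pow_right _).eq, mul_inv_cancel_right]
    have hker : (⟨n, hnN⟩ : Subgroup.normalizer (P : Set G)) ∈ (act (P : Subgroup G)).ker := by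
      rw [MonoidHom.mem_ker]
      rcases perm_three (card_invs hm e) _ (act_pow_three hm e ⟨n, hnN⟩) with h | h
      · exact h
      · refine Equiv.ext fun v => ?_
        have hfix : ∀ i : ℕ, (act (P : Subgroup G) ⟨n, hnN⟩ ^ i) ⟨w, hw2⟩ = ⟨w, hw2⟩ := fun i => by
          induction i with
          | zero => rfl
          | succ i ih => rw [pow_succ, Equiv.Perm.mul_apply, hnw, ih]
        obtain ⟨i, hi⟩ := h ⟨w, hw2⟩ v
        rw [hfix] at hi
        rw [← hi, hnw]
        rfl
    rw [ker_act e, Subgroup.mem_subgroupOf] at hker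
    exact hker
  · constructor
    · intro hu; rwa [← hg u hu, mul_inv_cancel_right]
    · intro hu
      have := hg _ hu
      rw [inv_mul_cancel_right] at this
      rwa [mul_left_cancel this]

theorem complement_or_conj {P : Sylow 2 G} {m : ℕ} (hm : 1 ≤ m)
    (e : (P : Subgroup G) ≃* Multiplicative (ZMod (2 ^ m) × ZMod (2 ^ m))) :
    (∃ N : Subgroup G, N.Normal ∧ Subgroup.IsComplement' N (P : Subgroup G)) ∨
      ∀ s t : G, orderOf s = 2 → orderOf t = 2 → IsConj s t := by
  haveI : Fact (Nat.Prime 2) := ⟨Nat.prime_two⟩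
  rcases relIndex_eq_one_or_three hm e with h1 | h3
  · rw [Subgroup.relIndex_eq_one] at h1
    exact Or.inl ⟨_, MonoidHom.normal_ker _, MonoidHom.ker_transferSylow_isComplement' P h1⟩
  · refine Or.inr ?_
    have htrans : ∀ a b : Invs (P : Subgroup G), IsConj ((a : (P : Subgroup G)) : G) ((b : (P : Subgroup G)) : G) := by
      intro a b
      obtain ⟨n, hn⟩ : ∃ n, act (P : Subgroup G) n ≠ 1 := by
        by_contra hall
        simp only [ne_eq, not_exists, not_not] at hall
        rw [relIndex_eq_card_range e, (MonoidHom.range_eq_bot_iff).2 (MonoidHom.ext hall),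
          Subgroup.card_bot] at h3
        omega
      rcases perm_three (card_invs hm e) _ (act_pow_three hm e n) with h | h
      · exact absurd h hn
      · obtain ⟨i, hi⟩ := h a b
        rw [← map_pow] at hi
        exact isConj_iff.2 ⟨_, congrArg (fun v : Invs (P : Subgroup G) => ((v : (P : Subgroup G)) : G)) hi⟩
    have hinto : ∀ s : G, orderOf s = 2 → ∃ a : Invs (P : Subgroup G), IsConj s ((a : (P : Subgroup G)) : G) := by
      intro s hs
      obtain ⟨Q, hQ⟩ := (IsPGroup.of_card (n := 1) (by rw [Nat.card_zpowers, hs, pow_one]) :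
        IsPGroup 2 (Subgroup.zpowers s)).exists_le_sylow
      obtain ⟨g, hg⟩ := MulAction.exists_smul_eq G Q P
      have hmem : g * s * g⁻¹ ∈ (P : Subgroup G) := by
        rw [← hg, Sylow.coe_subgroup_smul, Subgroup.mem_pointwise_smul_iff_inv_smul_mem]
        simpa [MulAut.smul_def, mul_assoc] using hQ (Subgroup.mem_zpowers s)
      exact ⟨⟨⟨_, hmem⟩, by
        rw [Subgroup.orderOf_mk]; exact ((MulAut.conj g).orderOf_eq s).trans hs⟩,
        isConj_iff.2 ⟨g, rfl⟩⟩
    intro s t hs ht
    obtain ⟨a, ha⟩ := hinto s hs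
    obtain ⟨b, hb⟩ := hinto t ht
    exact (ha.trans (htrans a b)).trans hb.symm

end H20.Homocyclic
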