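import Cfsg.Agent.H20.FirstMain
import Cfsg.Agent.H20.OrthConv
import Cfsg.Agent.H21.QuotientBlocks
import Cfsg.Agent.H20.BlockApps
import Mathlib.GroupTheory.Nilpotent

/-!
# Green's theorem: defect groups are Sylow intersections
-/

set_option autoImplicit false
set_option linter.style.haveILetI false
set_option linter.unusedSectionVars false

open Cfsg MonoidAlgebra
open scoped ComplexConjugate

namespace H20

universe u

/-- An invariant sum, orbit by orbit. -/
theorem exists_sum_eq_orbit {S X R : Type*} [Group S] [MulAction S X] [Fintype X] [CommRing R]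
    (f : X → R) (hf : ∀ (u : S) (x : X), f (u • x) = f x) (P : R → Prop) (h0 : P 0)
    (hadd : ∀ a b, P a → P b → P (a + b))
    (hterm : ∀ x : X, P ((Nat.card (MulAction.orbit S x) : R) * f x)) :
    P (∑ x, f x) := by
  classical
  haveI : Fintype (Quotient (MulAction.orbitRel S X)) := Fintype.ofFinite _
  rw [← Finset.sum_fiberwise Finset.univ (Quotient.mk (MulAction.orbitRel S X))]
  refine Finset.sum_induction _ P hadd h0 fun q _ => ?_
  obtain ⟨x, rfl⟩ := Quotient.exists_rep q
  rw [Finset.sum_eq_card_nsmul (b := f x) (fun z hz => ?_), nsmul_eq_mul]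
  · convert hterm x using 3
    rw [← Nat.card_eq_finsetCard]
    exact Nat.card_congr (Equiv.subtypeEquivRight fun a => by
      simp only [Finset.mem_filter, Finset.mem_univ, true_and, Quotient.eq]; rfl)
  · simp only [Finset.mem_filter, Quotient.eq] at hz
    obtain ⟨u, rfl⟩ := hz.2
    exact hf u x

variable {p : ℕ} {M : Ideal AlgInt} [hMp : M.IsPrime]

/-- In a group with a character of defect zero, a class of nonzero central character meets the
complement of the Sylow intersections. -/
theorem exists_trivial_intersection {K : Type u} [Group K] [Fintype K] (hM : IsPModular p M)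
    {θ : IrrCharacter K} (hθ : (H12.degree (θ : K → ℂ)).factorization p = (Nat.card K).factorization p)
    {x : K} (hx : ¬ MemLocalIdeal M (centralChar (θ : K → ℂ) x))
    (hxC : ¬ p ∣ Nat.card (Subgroup.centralizer ({x} : Set K))) (S : Sylow p K) :
    ∃ c : K, ∀ u ∈ (S : Subgroup K),
      (c * x * c⁻¹)⁻¹ * u * (c * x * c⁻¹) ∈ (S : Subgroup K) → u = 1 := by
  classical
  haveI : Fact p.Prime := ⟨hM.1⟩
  by_contra hno
  simp only [not_exists, not_forall] at hno
  set d := H12.degree (θ : K → ℂ) with hd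
  set a := (Nat.card K).factorization p with ha
  have hd0 : d ≠ 0 := (H12.irr_degree_pos θ).ne'
  have hK0 : Nat.card K ≠ 0 := Nat.card_pos.ne'
  have hθ1 : (θ : K → ℂ) 1 = (d : ℂ) := H12.irr_apply_one θ
  have hdec : d = p ^ a * ordCompl[p] d := by
    rw [← hθ]; exact (Nat.ordProj_mul_ordCompl_eq_self d p).symm
  have hKdec : Nat.card K = p ^ a * ordCompl[p] (Nat.card K) :=
    (Nat.ordProj_mul_ordCompl_eq_self _ p).symm
  have hp0 : (p : ℂ) ≠ 0 := Nat.cast_ne_zero.2 hM.1.ne_zero
  have hratio : MemLocalRing M ((d : ℂ) / (Nat.card K : ℂ)) := by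
    have e : (d : ℂ) / (Nat.card K : ℂ) =
        (ordCompl[p] d : ℕ) * ((ordCompl[p] (Nat.card K) : ℕ) : ℂ)⁻¹ := by
      conv_lhs => rw [hdec, hKdec]
      rw [Nat.cast_mul, Nat.cast_mul, Nat.cast_pow]
      field_simp
    rw [e]
    exact memRing_mul (memRing_natCast _)
      (inv_natCast_memRing hM (Nat.not_dvd_ordCompl hM.1 hK0))
  have hval : ∀ g : K, (θ : K → ℂ) g = ((d : ℂ) / (Nat.card K : ℂ)) *
      centralChar (θ : K → ℂ) g * (Nat.card (Subgroup.centralizer ({g} : Set K)) : ℂ) := by
    intro g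
    have hC : ((Subgroup.centralizer ({g} : Set K)).index : ℂ) *
        (Nat.card (Subgroup.centralizer ({g} : Set K)) : ℂ) = (Nat.card K : ℂ) := by
      exact_mod_cast (Subgroup.centralizer ({g} : Set K)).index_mul_card
    have hdne : (d : ℂ) ≠ 0 := Nat.cast_ne_zero.2 hd0
    have hKne : (Nat.card K : ℂ) ≠ 0 := Nat.cast_ne_zero.2 hK0
    rw [centralChar, hθ1]
    field_simp
    rw [← hC]; ring
  have hvan : ∀ g : K, p ∣ orderOf g → (θ : K → ℂ) g = 0 := by
    intro g hg
    refine vanish_of_singleton_block hM ((blockOf_eq_singleton_iff hM θ).1 ?_) hg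
    rw [charDegree_eq_degree, ← hd]
    intro hdiv
    have h1 : p * d ∣ Nat.card K := by
      rw [mul_comm]; exact Nat.mul_dvd_of_dvd_div (H12.irr_degree_dvd_card θ) hdiv
    have h2 := (Nat.factorization_le_iff_dvd (mul_ne_zero hM.1.ne_zero hd0) hK0).2 h1 p
    rw [Nat.factorization_mul hM.1.ne_zero hd0, Finsupp.add_apply, hM.1.factorization_self, hθ] at h2
    omega
  have hCreg : ∀ y : K, IsConj x y → ¬ p ∣ Nat.card (Subgroup.centralizer ({y} : Set K)) := by
    intro y hy
    obtain ⟨c, rfl⟩ := isConj_iff.1 hy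
    rw [card_centralizer_conj]
    exact hxC
  -- the pairs
  set S' : Subgroup K := (S : Subgroup K)
  haveI : Fintype S' := Fintype.ofFinite _
  let F : K → ℂ := fun y => ∑ r : S', (θ : K → ℂ) (y * (r : K))
  have hsum : ∑ y : {y : K // IsConj x y}, F y = centralChar (θ : K → ℂ) x * (θ : K → ℂ) 1 := by
    have hr : ∀ r : S', ∑ y : {y : K // IsConj x y}, (θ : K → ℂ) ((y : K) * (r : K)) =
        centralChar (θ : K → ℂ) x * (θ : K → ℂ) (r : K) := by
      intro r
      have h := omega_mul θ (isCl_clSum ℂ x) (MonoidAlgebra.single (r : K) (1 : ℂ))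
      rw [omega_clSum, omega, omega,
        Finset.sum_eq_single (f := fun g => (MonoidAlgebra.single (r : K) (1 : ℂ)).coeff g *
          (θ : K → ℂ) g) (r : K) (fun g _ hg => by simp [Ne.symm hg]) (by simp),
        mul_div_assoc', div_left_inj' (H12.irr_apply_one_ne_zero θ),
        ← Equiv.sum_comp (Equiv.mulRight (r : K))] at h
      simp only [MonoidAlgebra.coeff_single, Finsupp.single_eq_same, one_mul] at h
      rw [← h, ← Finset.sum_subtype (Finset.univ.filter fun y => IsConj x y) (by simp)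
        (fun y => (θ : K → ℂ) (y * (r : K))), Finset.sum_filter]
      refine Finset.sum_congr rfl fun y _ => ?_
      have e : (clSum ℂ x * MonoidAlgebra.single (r : K) (1 : ℂ)).coeff (y * (r : K)) =
          (clSum ℂ x).coeff y := by
        rw [coeff_mul_group, Finset.sum_eq_single y (fun z _ hz => ?_) (by simp)]
        · simp
        · rw [MonoidAlgebra.coeff_single, Finsupp.single_eq_of_ne, mul_zero]
          intro h'
          apply hz
          rw [inv_mul_eq_iff_eq_mul] at h'
          exact (mul_right_cancel h').symm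
      simp only [Equiv.coe_mulRight, e, coeff_clSum, ite_mul, one_mul, zero_mul]
    show ∑ y : {y : K // IsConj x y}, ∑ r : S', (θ : K → ℂ) ((y : K) * (r : K)) = _
    rw [Finset.sum_comm, Finset.sum_congr rfl fun r _ => hr r, ← Finset.mul_sum]
    congr 1
    rw [Finset.sum_eq_single (1 : S')]
    · rfl
    · intro r _ hr1
      apply hvan
      obtain ⟨j, hj⟩ := IsPGroup.iff_orderOf.1 S.isPGroup' r
      rw [Subgroup.orderOf_coe, hj]
      refine dvd_pow_self p fun h0 => hr1 ?_
      rw [← orderOf_eq_one_iff, hj, h0, pow_zero]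
    · simp
  have hF : ∀ y : K, IsConj x y → MemLocalIdeal M (F y) := by
    intro y hy
    obtain ⟨c, rfl⟩ := isConj_iff.1 hy
    obtain ⟨u₀, hu₀, hu₀', hne⟩ := hno c
    set y := c * x * c⁻¹
    let Q : Subgroup K := S' ⊓ S'.map (MulAut.conj y).toMonoidHom
    have hQmem : ∀ u : K, u ∈ Q ↔ u ∈ S' ∧ y⁻¹ * u * y ∈ S' := fun u => by
      simp only [Q, Subgroup.mem_inf, Subgroup.mem_map_equiv, MulAut.conj_symm_apply]
    letI : MulAction Q S' :=
      { smul := fun u r => ⟨y⁻¹ * (u : K) * y * (r : K) * (u : K)⁻¹,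
          mul_mem (mul_mem ((hQmem u).1 u.2).2 r.2) (inv_mem ((hQmem u).1 u.2).1)⟩
        one_smul := fun r => by
          apply Subtype.ext
          show y⁻¹ * ((1 : Q) : K) * y * (r : K) * ((1 : Q) : K)⁻¹ = r
          simp
        mul_smul := fun u v r => by
          apply Subtype.ext
          show y⁻¹ * ((u * v : Q) : K) * y * (r : K) * ((u * v : Q) : K)⁻¹ =
            y⁻¹ * (u : K) * y * (y⁻¹ * (v : K) * y * (r : K) * (v : K)⁻¹) * (u : K)⁻¹
          simp only [Subgroup.coe_mul]
          group }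
    refine exists_sum_eq_orbit (S := Q) (fun r : S' => (θ : K → ℂ) (y * (r : K))) (fun u r => ?_)
      (MemLocalIdeal M) memIdeal_zero (fun _ _ => memIdeal_add) fun r => ?_
    · show (θ : K → ℂ) (y * (y⁻¹ * (u : K) * y * (r : K) * (u : K)⁻¹)) = _
      rw [show y * (y⁻¹ * (u : K) * y * (r : K) * (u : K)⁻¹)
        = (u : K) * (y * (r : K)) * (u : K)⁻¹ by group]
      exact H12.irr_isClassFunction θ _ _
    · have hmul : Nat.card (MulAction.orbit Q r) * Nat.card (MulAction.stabilizer Q r) = Nat.card Q := by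
        rw [← Nat.card_prod]
        exact Nat.card_congr (MulAction.orbitProdStabilizerEquivGroup Q r)
      have hst : Nat.card (MulAction.stabilizer Q r) ∣
          Nat.card (Subgroup.centralizer ({y * (r : K)} : Set K)) := by
        let f : MulAction.stabilizer Q r →* Subgroup.centralizer ({y * (r : K)} : Set K) :=
          ((Q.subtype).comp (MulAction.stabilizer Q r).subtype).codRestrict _ fun u => by
            have h' : y⁻¹ * ((u : Q) : K) * y * (r : K) * ((u : Q) : K)⁻¹ = (r : K) :=
              congrArg Subtype.val (u.2 : (u : Q) • r = r)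
            rw [Subgroup.mem_centralizer_singleton_iff]
            show ((u : Q) : K) * (y * (r : K)) = y * (r : K) * ((u : Q) : K)
            conv_rhs => rw [← h']
            group
        exact Subgroup.card_dvd_of_injective f fun a b h' =>
          Subtype.ext (Subtype.ext (congrArg Subtype.val h' :))
      obtain ⟨t, ht⟩ := hst
      have hpQ : p ∣ Nat.card Q := by
        have hu0 : u₀ ∈ Q := (hQmem u₀).2 ⟨hu₀, hu₀'⟩
        obtain ⟨j, hj⟩ := IsPGroup.iff_orderOf.1 S.isPGroup' ⟨u₀, hu₀⟩
        rw [Subgroup.orderOf_mk] at hj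
        refine dvd_trans ?_ (orderOf_dvd_natCard (⟨u₀, hu0⟩ : Q))
        rw [Subgroup.orderOf_mk, hj]
        refine dvd_pow_self p fun h0 => hne ?_
        rw [← orderOf_eq_one_iff, hj, h0, pow_zero]
      have e : (Nat.card (MulAction.orbit Q r) : ℂ) * (θ : K → ℂ) (y * (r : K)) =
          (((d : ℂ) / (Nat.card K : ℂ)) * centralChar (θ : K → ℂ) (y * (r : K)) * (t : ℂ)) *
            (Nat.card Q : ℂ) := by
        rw [hval, ht, ← hmul]
        push_cast
        ring
      rw [e]
      exact memIdeal_mul (memRing_mul (memRing_mul hratio (memRing_centralChar θ _))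
        (memRing_natCast t)) ((natCast_memIdeal_iff hM _).2 hpQ)
  letI : MulAction S' {y : K // IsConj x y} :=
    { smul := fun u y => ⟨(u : K) * y * (u : K)⁻¹, y.2.trans (isConj_iff.2 ⟨u, rfl⟩)⟩
      one_smul := fun y => by
        apply Subtype.ext
        show ((1 : S') : K) * y * ((1 : S') : K)⁻¹ = y
        simp
      mul_smul := fun u v y => by
        apply Subtype.ext
        show ((u * v : S') : K) * y * ((u * v : S') : K)⁻¹
          = (u : K) * ((v : K) * y * (v : K)⁻¹) * (u : K)⁻¹
        simp only [Subgroup.coe_mul]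
        group }
  have hfree : ∀ y : {y : K // IsConj x y}, Nat.card (MulAction.orbit S' y) = Nat.card S' := by
    intro y
    have hmul : Nat.card (MulAction.orbit S' y) * Nat.card (MulAction.stabilizer S' y) = Nat.card S' := by
      rw [← Nat.card_prod]
      exact Nat.card_congr (MulAction.orbitProdStabilizerEquivGroup S' y)
    obtain ⟨j, hj⟩ := IsPGroup.iff_card.1 (S.isPGroup'.to_subgroup (MulAction.stabilizer S' y))
    have hst : Nat.card (MulAction.stabilizer S' y) ∣
        Nat.card (Subgroup.centralizer ({(y : K)} : Set K)) := by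
      let f : MulAction.stabilizer S' y →* Subgroup.centralizer ({(y : K)} : Set K) :=
        ((S'.subtype).comp (MulAction.stabilizer S' y).subtype).codRestrict _ fun u => by
          have h' : ((u : S') : K) * (y : K) * ((u : S') : K)⁻¹ = (y : K) :=
            congrArg Subtype.val (u.2 : (u : S') • y = y)
          rw [Subgroup.mem_centralizer_singleton_iff]
          exact mul_inv_eq_iff_eq_mul.1 h'
      exact Subgroup.card_dvd_of_injective f fun a b h' =>
        Subtype.ext (Subtype.ext (congrArg Subtype.val h' :))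
    rw [hj] at hst hmul
    rcases Nat.eq_zero_or_pos j with h0 | h0
    · rw [h0, pow_zero, mul_one] at hmul
      exact hmul
    · exact absurd ((dvd_pow_self p h0.ne').trans hst) (hCreg y y.2)
  have hkey : MemLocalIdeal M ((∑ y : {y : K // IsConj x y}, F y) / (Nat.card S' : ℂ)) := by
    refine exists_sum_eq_orbit (S := S') (fun y : {y : K // IsConj x y} => F y) (fun u y => ?_)
      (fun z => MemLocalIdeal M (z / (Nat.card S' : ℂ))) (by simpa using memIdeal_zero)
      (fun z z' h h' => by rw [add_div]; exact memIdeal_add h h') fun y => ?_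
    · show ∑ r : S', (θ : K → ℂ) ((u : K) * (y : K) * (u : K)⁻¹ * (r : K)) = F y
      refine Fintype.sum_equiv (MulAut.conj u⁻¹).toEquiv _ _ fun r => ?_
      show _ = (θ : K → ℂ) ((y : K) * (((MulAut.conj u⁻¹) r : S') : K))
      rw [MulAut.conj_apply, ← H12.irr_isClassFunction θ _ (u : K)⁻¹]
      simp only [Subgroup.coe_mul, Subgroup.coe_inv]
      group
    · show MemLocalIdeal M (_ / _)
      rw [hfree, mul_div_assoc, mul_div_cancel₀]
      · exact hF y y.2
      · exact Nat.cast_ne_zero.2 Nat.card_pos.ne'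
  rw [hsum, hθ1] at hkey
  apply hx
  have hSc : Nat.card S' = p ^ a := S.card_eq_multiplicity
  have hj : ¬ p ∣ ordCompl[p] d := Nat.not_dvd_ordCompl hM.1 hd0
  have e : centralChar (θ : K → ℂ) x * (d : ℂ) / (Nat.card S' : ℂ) =
      (ordCompl[p] d : ℕ) * centralChar (θ : K → ℂ) x := by
    rw [hSc]
    conv_lhs => rw [hdec]
    rw [Nat.cast_mul, Nat.cast_pow]
    field_simp
  rw [e] at hkey
  have h2 := memIdeal_mul (inv_natCast_memRing hM hj) hkey
  rwa [← mul_assoc, inv_mul_cancel₀ (Nat.cast_ne_zero.2 fun h0 => hj (by simp [h0])), one_mul] at h2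

/-- Green's theorem: a defect group is an intersection of two Sylow subgroups, by a regular
element whose centraliser has it as Sylow subgroup. -/
theorem green {G : Type u} [Group G] [Fintype G] (hM : IsPModular p M)
    {B : Set (IrrCharacter G)} (hB : IsPBlock M B) {D : Subgroup G}
    (hD : IsDefectGroup p M B D) (P : Sylow p G) (hDP : D ≤ P) :
    ∃ x : G, ¬ p ∣ orderOf x ∧ IsSylC p x D ∧ (P : Subgroup G) ⊓ conjSub x P = D := by
  classical
  haveI : Fact p.Prime := ⟨hM.1⟩
  obtain ⟨x0, hx0, hS0'⟩ := id hD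
  have hS0 : IsSylC p x0 D := hS0'
  clear hS0'
  rw [isDefectClass_iff hB] at hx0
  have hDp : IsPGroup p D := hS0.isPGroup
  have hreg0 : ¬ p ∣ orderOf x0 := regular_of_coeff_ne_zero hM hB hx0.1
  set N : Subgroup G := Subgroup.normalizer (D : Set G) with hN
  letI : Fintype N := Fintype.ofFinite _
  obtain ⟨b, hb, hbD, hind⟩ := first_main_exists hM hDp hB hD
  set D' : Subgroup N := D.subgroupOf N
  haveI hD'n : D'.Normal :=
    (Subgroup.normal_subgroupOf_iff_le_normalizer Subgroup.le_normalizer).2 le_rfl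
  have hD'p : IsPGroup p D' := hDp.comap_subtype
  letI : Fintype (N ⧸ D') := Fintype.ofFinite _
  obtain ⟨bbar, hbb, hinf, hdef⟩ := H21.exists_quotient_block D' hM hD'p hb
  have hbot : IsDefectGroup p M bbar ⊥ :=
    (hdef ⊥).2 ⟨D', hbD, (QuotientGroup.map_mk'_self D').symm⟩
  obtain ⟨θ, hθ⟩ := block_nonempty hbb
  have hdeg : (H12.degree (θ : N ⧸ D' → ℂ)).factorization p =
      (Nat.card (N ⧸ D')).factorization p := by
    refine le_antisymm ((Nat.factorization_le_iff_dvd (H12.irr_degree_pos θ).ne'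
      Nat.card_pos.ne').2 (H12.irr_degree_dvd_card θ) p) ?_
    have h1 := card_defectGroup hM hbb hbot
    rw [Subgroup.card_bot] at h1
    have h2 : blockDefect p bbar = 0 := by
      by_contra h0
      exact hM.1.not_dvd_one (h1 ▸ dvd_pow_self p h0)
    rw [blockDefect, Nat.sub_eq_zero_iff_le] at h2
    refine h2.trans ((Nat.sInf_le (Set.mem_image_of_mem _ hθ)).trans ?_)
    rw [charDegree_eq_degree]
  obtain ⟨χ, hχ⟩ := block_nonempty hB
  have hl : lam M (H21.inflate D' θ) (resAlg N (br D (clSum (k M) x0))) ≠ 0 := by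
    rw [lam_res_br_eq hM hDp hind (hinf θ hθ) hχ (isCl_clSum _ x0)]
    exact hx0.2 χ hχ
  obtain ⟨x, hxne, hxl⟩ := exists_class_of_lam_ne_zero (H21.inflate D' θ) hl
  rw [coeff_resAlg] at hxne
  have hxD : (x : G) ∈ Subgroup.centralizer (D : Set G) := by
    by_contra h
    exact hxne (coeff_br_of_notMem _ h)
  have hx0x : IsConj x0 (x : G) := by
    by_contra h
    exact hxne (by rw [coeff_br_of_mem _ hxD, coeff_clSum, if_neg h])
  have hxreg : ¬ p ∣ orderOf (x : G) := by
    obtain ⟨c, hc⟩ := isConj_iff.1 hx0x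
    rwa [← hc, orderOf_conj']
  have hxS : IsSylC p (x : G) D := isSylC_of_card hDp hxD (by
    obtain ⟨c, hc⟩ := isConj_iff.1 hx0x
    rw [← hc, card_centralizer_conj, hS0.card])
  have hω : ¬ MemLocalIdeal M (centralChar (θ : N ⧸ D' → ℂ) (x : N ⧸ D')) := by
    rw [← H21.lam_qMap D' θ (isCl_clSum _ x)] at hxl
    obtain ⟨q, hq, hql⟩ := exists_class_of_lam_ne_zero θ hxl
    rw [H21.coeff_qMap] at hq
    obtain ⟨g, -, hg⟩ := Finset.exists_ne_zero_of_sum_ne_zero hq
    have hgq : (g : N ⧸ D') = q := by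
      by_contra h
      exact hg (if_neg h)
    have hgx : IsConj x g := by
      by_contra h
      exact hg (by rw [if_pos hgq, coeff_clSum, if_neg h])
    have hc : IsConj (x : N ⧸ D') q := hgq ▸ (QuotientGroup.mk' D').map_isConj hgx
    rwa [← clSum_eq_of_isConj _ hc, lam_clSum, Ne,
      redC_eq_zero_iff (memRing_centralChar θ _)] at hql
  have hxC : ¬ p ∣ Nat.card (Subgroup.centralizer ({(x : N ⧸ D')} : Set (N ⧸ D'))) := by
    intro hdiv
    obtain ⟨⟨q, hq⟩, hqo⟩ := exists_prime_orderOf_dvd_card' p hdiv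
    rw [Subgroup.orderOf_mk] at hqo
    obtain ⟨n, rfl⟩ := QuotientGroup.mk_surjective q
    rw [Subgroup.mem_centralizer_singleton_iff] at hq
    set d : N := x⁻¹ * (n * x * n⁻¹) with hd
    have hdD : d ∈ D' := by
      rw [hd, ← QuotientGroup.eq, QuotientGroup.mk_mul, QuotientGroup.mk_mul, hq,
        QuotientGroup.mk_inv, mul_inv_cancel_right]
    have hd1 : (d : G) = 1 := by
      refine eq_one_of_regular_mul_pGroup hM hDp (Subgroup.mem_subgroupOf.1 hdD) hxD hxreg ?_
      rw [show (x : G) * (d : G) = (n : G) * (x : G) * (n : G)⁻¹ by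
        rw [hd]; push_cast; group, orderOf_conj']
      exact hxreg
    have hnx : Commute (n : G) (x : G) := by
      have h : ((x⁻¹ * (n * x * n⁻¹) : N) : G) = 1 := hd1
      push_cast at h
      rw [inv_mul_eq_one, eq_mul_inv_iff_mul_eq] at h
      exact h.symm
    set R : Subgroup N := (Subgroup.zpowers (n : N ⧸ D')).comap (QuotientGroup.mk' D') with hR
    have hRp : IsPGroup p R := by
      refine IsPGroup.comap_of_ker_isPGroup ?_ _ (by rw [QuotientGroup.ker_mk']; exact hD'p)
      exact IsPGroup.of_card (n := 1) (by rw [Nat.card_zpowers, hqo, pow_one])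
    have hRc : (x : G) ∈ Subgroup.centralizer ((R.map N.subtype : Subgroup G) : Set G) := by
      rintro _ ⟨y, hy, rfl⟩
      obtain ⟨i, hi⟩ := Subgroup.mem_zpowers_iff.1 (Subgroup.mem_comap.1 hy)
      rw [QuotientGroup.mk'_apply, ← QuotientGroup.mk_zpow, QuotientGroup.eq] at hi
      have h1 : Commute (((n ^ i)⁻¹ * y : N) : G) (x : G) :=
        hxD _ (Subgroup.mem_subgroupOf.1 hi)
      have h2 : Commute ((n ^ i : N) : G) (x : G) := by
        rw [Subgroup.coe_zpow]; exact hnx.zpow_left i
      show Commute (y : G) (x : G)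
      rw [show (y : G) = ((n ^ i : N) : G) * (((n ^ i)⁻¹ * y : N) : G) by push_cast; group]
      exact h2.mul_left h1
    have hle : D ≤ R.map N.subtype := fun u hu =>
      ⟨⟨u, Subgroup.le_normalizer hu⟩, by
        rw [hR, SetLike.mem_coe, Subgroup.mem_comap, QuotientGroup.mk'_apply,
          (QuotientGroup.eq_one_iff (⟨u, Subgroup.le_normalizer hu⟩ : N)).2
            (Subgroup.mem_subgroupOf.2 hu)]
        exact one_mem _, rfl⟩
    have hnD : (n : G) ∈ D := by
      rw [hxS.maximal (hRp.map _) hle hRc]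
      exact ⟨n, by rw [hR, SetLike.mem_coe, Subgroup.mem_comap]; exact Subgroup.mem_zpowers _, rfl⟩
    rw [(QuotientGroup.eq_one_iff n).2 (Subgroup.mem_subgroupOf.2 hnD), orderOf_one] at hqo
    exact hM.1.ne_one hqo.symm
  have hR0 : IsPGroup p (((P : Subgroup G) ⊓ N).subgroupOf N) :=
    (P.isPGroup'.to_le inf_le_left).of_equiv (Subgroup.subgroupOfEquivOfLe inf_le_right).symm
  obtain ⟨R, hR⟩ := hR0.exists_le_sylow
  obtain ⟨c', hc'⟩ := exists_trivial_intersection hM hdeg hω hxC
    (R.mapSurjective (QuotientGroup.mk'_surjective D'))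
  obtain ⟨c, rfl⟩ := QuotientGroup.mk_surjective c'
  set y : N := c * x * c⁻¹ with hy
  have hyG : (y : G) = (c : G) * (x : G) * (c : G)⁻¹ := by rw [hy]; push_cast; rfl
  have hyD : (y : G) ∈ Subgroup.centralizer (D : Set G) := by
    intro u hu
    have hu' : (c : G)⁻¹ * u * (c : G) ∈ D := by
      have h := (Subgroup.mem_normalizer_iff.1 (inv_mem c.2 : (c : G)⁻¹ ∈ N) u).1 hu
      rwa [inv_inv] at h
    have h1 := hxD _ hu'
    rw [hyG]
    calc u * ((c : G) * x * (c : G)⁻¹)
        = (c : G) * ((c : G)⁻¹ * u * c * x) * (c : G)⁻¹ := by group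
      _ = (c : G) * ((x : G) * ((c : G)⁻¹ * u * c)) * (c : G)⁻¹ := by rw [h1]
      _ = _ := by group
  refine ⟨y, by rw [hyG, orderOf_conj']; exact hxreg, isSylC_of_card hDp hyD (by
    rw [hyG, card_centralizer_conj, hxS.card]), ?_⟩
  have hmem : ∀ u : G, u ∈ (P : Subgroup G) ⊓ conjSub (y : G) P ↔
      u ∈ (P : Subgroup G) ∧ (y : G)⁻¹ * u * y ∈ (P : Subgroup G) := fun u => by
    rw [Subgroup.mem_inf, mem_conjSub_iff]
  set Q : Subgroup G := (P : Subgroup G) ⊓ conjSub (y : G) P
  have hDQ : D ≤ Q := fun u hu => (hmem u).2 ⟨hDP hu, by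
    rw [mul_assoc, hyD u hu, inv_mul_cancel_left]; exact hDP hu⟩
  by_contra hne
  have hlt : D.subgroupOf Q < ⊤ := by
    rw [lt_top_iff_ne_top, Ne, Subgroup.subgroupOf_eq_top]
    exact fun h' => hne (le_antisymm h' hDQ)
  haveI : Group.IsNilpotent Q := (P.isPGroup'.to_le inf_le_left).isNilpotent
  obtain ⟨w, hw, hwD⟩ :=
    SetLike.exists_of_lt (Group.normalizerCondition_of_isNilpotent (G := Q) (D.subgroupOf Q) hlt)
  have hwN : (w : G) ∈ N := by
    rw [hN, Subgroup.mem_normalizer_iff]
    intro u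
    by_cases hu : u ∈ Q
    · have := Subgroup.mem_normalizer_iff.1 hw ⟨u, hu⟩
      simpa [Subgroup.mem_subgroupOf] using this
    · refine ⟨fun h' => absurd (hDQ h') hu, fun h' => absurd ?_ hu⟩
      simpa [mul_assoc] using Q.mul_mem (Q.mul_mem (Q.inv_mem w.2) (hDQ h')) w.2
  obtain ⟨hw1, hw2⟩ := (hmem w).1 w.2
  set w' : N := ⟨w, hwN⟩ with hw'
  have h1 := hc' (w' : N ⧸ D')
    ⟨w', hR (Subgroup.mem_subgroupOf.2 ⟨hw1, hwN⟩), rfl⟩
    ⟨y⁻¹ * w' * y, hR (Subgroup.mem_subgroupOf.2 ⟨hw2, (y⁻¹ * w' * y).2⟩), by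
      simp only [QuotientGroup.mk'_apply, hy]; rfl⟩
  exact hwD (Subgroup.mem_subgroupOf.2 (Subgroup.mem_subgroupOf.1 ((QuotientGroup.eq_one_iff w').1 h1)))

end H20
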