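import Cfsg.Agent.H20.PrincipalFreeThree
import Cfsg.Agent.H20.Homocyclic
import Cfsg.Agent.H22.ValueMod

/-!
# Sylow `2`-subgroups of type `(2^m, 2^m)`, `m ≥ 2`, without odd normal subgroups
-/

set_option autoImplicit false
set_option linter.style.haveILetI false
set_option linter.unusedSectionVars false

open Cfsg

namespace H20.Homocyclic

universe u

/-- An odd normal subgroup of a normal subgroup lies in the odd core. -/
theorem eq_bot_of_odd_normal {G : Type u} [Group G] [Finite G]
    (hO : ∀ N : Subgroup G, N.Normal → Odd (Nat.card N) → N = ⊥) (K : Subgroup G) [K.Normal]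
    (L : Subgroup K) [L.Normal] (hL : Odd (Nat.card L)) : L = ⊥ := by
  haveI := H1.pPrimeCore_characteristic 2 K
  have hle : L ≤ pPrimeCore 2 K := H1.le_pPrimeCore (Nat.coprime_two_right.2 hL)
  have hbot : (pPrimeCore 2 K).map K.subtype = ⊥ := by
    refine hO _ inferInstance ?_
    rw [Subgroup.card_map_of_injective (Subgroup.subtype_injective K)]
    exact Nat.coprime_two_right.1 (H1.card_pPrimeCore_coprime 2 K)
  rw [Subgroup.map_eq_bot_iff_of_injective _ (Subgroup.subtype_injective K)] at hbot
  exact le_bot_iff.1 (hbot ▸ hle)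

theorem card_sylow {G : Type u} [Group G] {P : Subgroup G} {m : ℕ}
    (e : P ≃* Multiplicative (ZMod (2 ^ m) × ZMod (2 ^ m))) : Nat.card P = 2 ^ m * 2 ^ m := by
  rw [Nat.card_congr e.toEquiv, Nat.card_congr Multiplicative.toAdd, Nat.card_prod, Nat.card_zmod]

theorem normal_of_no_odd {m : ℕ} (hm : 2 ≤ m) : ∀ (n : ℕ) {G : Type u} [Group G] [Finite G]
    (P : Sylow 2 G), Nat.card G ≤ n →
    (P : Subgroup G) ≃* Multiplicative (ZMod (2 ^ m) × ZMod (2 ^ m)) →
    (∀ N : Subgroup G, N.Normal → Odd (Nat.card N) → N = ⊥) → (P : Subgroup G).Normal := by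
  intro n
  induction n with
  | zero => intro G _ _ P hn; exact absurd hn (by have := Nat.card_pos (α := G); omega)
  | succ n ih =>
    intro G _ _ P hn e hO
    classical
    haveI : Fact (Nat.Prime 2) := ⟨Nat.prime_two⟩
    haveI := Fintype.ofFinite G
    haveI : Fintype (P : Subgroup G) := Fintype.ofFinite _
    rcases relIndex_eq_one_or_three (by omega) e with h1 | h3
    · rw [Subgroup.relIndex_eq_one] at h1
      set L := (MonoidHom.transferSylow P h1).ker
      have hc : L.IsComplement' (P : Subgroup G) := MonoidHom.ker_transferSylow_isComplement' P h1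
      have hodd : Odd (Nat.card L) := by
        have h2 := hc.card_mul_card
        have h4 := (P : Subgroup G).index_mul_card
        rw [← h2] at h4
        rw [← Nat.eq_of_mul_eq_mul_right Nat.card_pos h4]
        exact Nat.odd_iff.2 (Nat.two_dvd_ne_zero.1 P.not_dvd_index)
      have hbot : L = ⊥ := hO L inferInstance hodd
      rw [hbot] at hc
      rw [(Subgroup.isComplement'_bot_left.1 hc)]
      infer_instance
    obtain ⟨M, hM⟩ := H22.exists_isPModular 2 Nat.prime_two
    haveI : M.IsPrime := hM.2.1.isPrime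
    have hfree : H20.FreeSylow P :=
      ⟨fun a ha b hb => congrArg Subtype.val (e.injective (by rw [map_mul, map_mul, mul_comm]) :
        (⟨a, ha⟩ : (P : Subgroup G)) * ⟨b, hb⟩ = ⟨b, hb⟩ * ⟨a, ha⟩),
        fun y hy hy1 => (centralizer_inf_normalizer (by omega) e hy hy1).le⟩
    have hP4 : 3 + 1 < Nat.card (P : Subgroup G) := by
      rw [card_sylow e]
      have h4 : 4 ≤ 2 ^ m := le_trans (by norm_num) (Nat.pow_le_pow_right (show 0 < 2 by norm_num) hm)
      have := Nat.mul_le_mul h4 h4
      omega
    obtain ⟨χ, hne, hχ1, hχP⟩ :=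
      hfree.exists_linear_char hM ((H20.card_autG _).trans h3) hP4
    obtain ⟨f, hf⟩ := H12.exists_monoidHom_of_apply_one_eq_one
      (H12.isCharacter_irr χ) hχ1
    set K := f.ker with hK
    have hPK : (P : Subgroup G) ≤ K := fun u hu =>
      Units.ext ((congrFun hf u).trans (hχP u hu))
    have hKlt : K < ⊤ := lt_top_iff_ne_top.2 fun h => hne (Subtype.ext (funext fun g => by
      rw [H12.oneIrr_apply, ← congrFun hf g,
        MonoidHom.mem_ker.1 (show g ∈ f.ker by rw [← hK, h]; trivial)]
      rfl))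
    have hcard : Nat.card K ≤ n := by
      have h5 : Nat.card K < Nat.card G := by
        refine lt_of_le_of_ne (Subgroup.card_le_card_group K) fun h => hKlt.ne ?_
        exact Subgroup.eq_top_of_card_eq K h
      omega
    have hn' := ih (P.subtype hPK) hcard ((Subgroup.subgroupOfEquivOfLe hPK).trans e)
      (fun L hL hodd => eq_bot_of_odd_normal hO K L hodd)
    haveI : ((P.subtype hPK : Sylow 2 K) : Subgroup K).Characteristic :=
      (P.subtype hPK).characteristic_of_normal hn'
    have hmap : ((P.subtype hPK : Sylow 2 K) : Subgroup K).map K.subtype = (P : Subgroup G) :=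
      Subgroup.map_subgroupOf_eq_of_le hPK
    rw [← hmap]
    infer_instance

theorem centralizer_eq {G : Type u} [Group G] [Finite G] (P : Sylow 2 G)
    [(P : Subgroup G).Normal] (hP : ∀ a ∈ (P : Subgroup G), ∀ b ∈ (P : Subgroup G), a * b = b * a)
    (hO : ∀ N : Subgroup G, N.Normal → Odd (Nat.card N) → N = ⊥) :
    Subgroup.centralizer (P : Set G) = (P : Subgroup G) := by
  classical
  haveI : Fact (Nat.Prime 2) := ⟨Nat.prime_two⟩
  set C := Subgroup.centralizer ((P : Subgroup G) : Set G)
  have hPC : (P : Subgroup G) ≤ C := fun u hu v hv => hP v hv u hu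
  have hN : Subgroup.normalizer ((P.subtype hPC : Sylow 2 C) : Set C) ≤
      Subgroup.centralizer ((P.subtype hPC : Sylow 2 C) : Set C) := fun g _ u hu =>
    Subtype.ext (g.2 (u : G) hu)
  set L := (MonoidHom.transferSylow (P.subtype hPC) hN).ker
  have hc : L.IsComplement' ((P.subtype hPC : Sylow 2 C) : Subgroup C) :=
    MonoidHom.ker_transferSylow_isComplement' _ hN
  have hodd : Odd (Nat.card L) := by
    have h2 := hc.card_mul_card
    have h4 := ((P.subtype hPC : Sylow 2 C) : Subgroup C).index_mul_card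
    rw [← h2] at h4
    rw [← Nat.eq_of_mul_eq_mul_right Nat.card_pos h4]
    exact Nat.odd_iff.2 (Nat.two_dvd_ne_zero.1 (P.subtype hPC).not_dvd_index)
  have hbot : L = ⊥ := eq_bot_of_odd_normal hO C L hodd
  rw [hbot] at hc
  have htop := Subgroup.isComplement'_bot_left.1 hc
  refine le_antisymm (fun g hg => ?_) hPC
  have : (⟨g, hg⟩ : C) ∈ ((P.subtype hPC : Sylow 2 C) : Subgroup C) := htop ▸ Subgroup.mem_top _
  exact this

theorem brauer {G : Type u} [Group G] [Finite G] (P : Sylow 2 G) {m : ℕ} (hm : 2 ≤ m)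
    (e : (P : Subgroup G) ≃* Multiplicative (ZMod (2 ^ m) × ZMod (2 ^ m)))
    (hO : ∀ N : Subgroup G, N.Normal → Odd (Nat.card N) → N = ⊥) :
    (P : Subgroup G).Normal ∧ Subgroup.centralizer (P : Set G) = (P : Subgroup G) ∧
      ((P : Subgroup G).index = 1 ∨ (P : Subgroup G).index = 3) := by
  haveI hn := normal_of_no_odd hm (Nat.card G) P le_rfl e hO
  have hC := centralizer_eq P (fun a ha b hb => congrArg Subtype.val
    (e.injective (by rw [map_mul, map_mul, mul_comm]) :
      (⟨a, ha⟩ : (P : Subgroup G)) * ⟨b, hb⟩ = ⟨b, hb⟩ * ⟨a, ha⟩)) hO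
  refine ⟨hn, hC, ?_⟩
  have h := relIndex_eq_one_or_three (by omega : 1 ≤ m) e
  have hN : Subgroup.normalizer (P : Set G) = ⊤ :=
    Subgroup.normalizer_eq_top (H := (P : Subgroup G))
  rwa [hC, hN, Subgroup.relIndex_top_right] at h

end H20.Homocyclic
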