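import Cfsg.Agent.H20.KleinDefect
import Cfsg.Agent.H22.Divis

/-!
# The columns of a 2-block with a Klein four defect group

The values at singular elements of the four characters are combinations of `4 - l` orthogonal
sign vectors, with coefficients divisible by the orders of the centralizers.
-/

set_option autoImplicit false
set_option linter.unusedSectionVars false
set_option linter.style.haveILetI false

open Cfsg Finset
open scoped MonoidAlgebra ComplexConjugate

namespace H20.Klein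

universe u

variable {G : Type u} [Group G] [Fintype G] {M : Ideal AlgInt}

local notation "C[" x "]" => (Subgroup.centralizer ({x} : Set _))

theorem eq_zero_of_classInner_self {K : Type u} [Group K] [Fintype K] {f : K → ℂ}
    (h : classInner f f = 0) : f = 0 := by
  rw [H12.classInner_def, mul_eq_zero, inv_eq_zero] at h
  have h1 := h.resolve_left H12.card_ne_zero'
  simp only [Complex.mul_conj, ← Complex.ofReal_sum, Complex.ofReal_eq_zero] at h1
  funext c
  exact Complex.normSq_eq_zero.1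
    ((sum_eq_zero_iff_of_nonneg fun k _ => Complex.normSq_nonneg _).1 h1 c (mem_univ _))

theorem card_centralizer_mul {x : G} {y : C[x]} (hx : ∃ k : ℕ, orderOf x = 2 ^ k)
    (hy : ¬ 2 ∣ orderOf y) :
    Nat.card C[x * (y : G)] = Nat.card C[y] := by
  haveI : Fact (Nat.Prime 2) := ⟨Nat.prime_two⟩
  have hp := H20.centralizer_le_of_pPart (p := 2) x y hx hy
  have hxy : x * (y : G) = (y : G) * x := y.2 x rfl
  have hmem : ∀ c : G, c ∈ C[x * (y : G)] → c ∈ C[x] := by
    intro c hc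
    rw [Subgroup.mem_centralizer_singleton_iff] at hc ⊢
    have h1 := congrArg (H20.pPart 2) (mul_inv_eq_iff_eq_mul.2 hc)
    rw [H20.pPart_conj, hp] at h1
    exact mul_inv_eq_iff_eq_mul.1 h1
  refine Nat.card_congr
    { toFun := fun c => ⟨⟨(c : G), hmem _ c.2⟩, ?_⟩
      invFun := fun c => ⟨((c : C[x]) : G), ?_⟩
      left_inv := fun c => rfl
      right_inv := fun c => rfl }
  · rw [Subgroup.mem_centralizer_singleton_iff]
    apply Subtype.ext
    apply mul_left_cancel (a := x)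
    push_cast
    calc x * ((c : G) * y) = (c : G) * x * y := by
          rw [← mul_assoc, (Subgroup.mem_centralizer_singleton_iff.1 (hmem _ c.2)).symm]
      _ = (c : G) * (x * y) := mul_assoc _ _ _
      _ = x * y * (c : G) := Subgroup.mem_centralizer_singleton_iff.1 c.2
      _ = x * (y * (c : G)) := mul_assoc _ _ _
  · rw [Subgroup.mem_centralizer_singleton_iff]
    have h1 : ((c : C[x]) : G) * y = y * ((c : C[x]) : G) :=
      congrArg Subtype.val (Subgroup.mem_centralizer_singleton_iff.1 c.2)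
    rw [← mul_assoc, ← (c : C[x]).2 x rfl, mul_assoc, h1, mul_assoc]

section

variable [hMp : M.IsPrime] [h2 : Fact (Nat.Prime 2)]

open H22.Contrib in
/-- The part of every member is plus or minus a fixed function, divisible by the centralizers. -/
theorem exists_sign_part (hM : IsPModular 2 M) {B : Set (IrrCharacter G)} (hB : IsPBlock M B)
    {x : G} [Fintype C[x]] (hx : x * x = 1)
    {b : Set (IrrCharacter C[x])} (hind : IsInducedBlock M C[x] b B) (hk : Nat.card B = 4)
    (hdB : blockDefect 2 B = 2) (hdb : blockDefect 2 b = 2) (hl : blockRank 2 b = 1) :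
    ∃ (a : IrrCharacter G → ℤ) (φ : C[x] → ℂ), φ ≠ 0 ∧ φ ∈ H22.Sub.regSpan 2 b ∧
      (∀ χ ∈ B, (a χ = 1 ∨ a χ = -1) ∧ part 2 x b χ = (a χ : ℂ) • φ) ∧
      ∀ y : C[x], ¬ 2 ∣ orderOf y → MemLocalRing M (φ y) ∧
        MemLocalRing M ((4 * φ y) / (Nat.card C[y] : ℂ)) := by
  classical
  obtain ⟨zb, hzb, hzbm⟩ := H22.exists_isDeltaMatrix (p := 2) hM hind.1
  obtain ⟨κ, hκR, hκI, hκ⟩ :=
    H22.exists_congr_const hM hind.1 (H22.weakOrth_of_block hM hind.1)
  have hζ : IsPrimitiveRoot (-1 : ℂ) (2 ^ 0 * 2) := by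
    rw [pow_zero, one_mul]
    exact IsPrimitiveRoot.neg_one 0 (by norm_num)
  let S : Setup 2 M x B b :=
    ⟨hM, hB, hind, 0, by rw [pow_zero, one_mul, pow_two, hx], -1, hζ, zb, hzb, hzbm, κ, hκR, hκI,
      hκ⟩
  have hint : ∀ χ ψ : IrrCharacter G, ∃ n : ℤ, S.aval 1 χ ψ = (n : ℂ) := fun χ ψ =>
    ⟨∑ t ∈ range S.N, S.wvec χ ψ t * (-1) ^ t, by
      rw [Setup.aval_eq_wvec]
      push_cast
      exact sum_congr rfl fun t _ => by rw [one_mul]⟩
  choose a ha using hint
  obtain ⟨zB, hzB, hzBm⟩ := H22.exists_isDeltaMatrix (p := 2) hM hB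
  have hh : ∀ χ ∈ B, blockHeight 2 B (χ : G → ℂ) = 0 := fun χ hχ => by
    have := hzBm.height_le hχ
    omega
  have hodd : ∀ χ ∈ B, ∀ ψ ∈ B, ¬ (2 : ℤ) ∣ a χ ψ := by
    intro χ hχ ψ hψ hdvd
    apply S.aval_not_memIdeal hχ hψ (hh χ hχ) (hh ψ hψ)
    rw [ha]
    exact (H20.intCast_memIdeal_iff hM _).2 hdvd
  have hsymm : ∀ χ ψ, a χ ψ = a ψ χ := fun χ ψ => by
    have h := S.conj_aval 1 χ ψ
    rw [ha, ha, map_intCast] at h
    exact_mod_cast h
  have hrow : ∀ χ, ∑ ψ ∈ H22.blockFinset B, a χ ψ ^ 2 = 4 * a χ χ := by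
    intro χ
    have h := S.sum_aval_mul_one χ χ
    simp only [ha, hdb] at h
    rw [sum_congr rfl fun ψ _ => show (a χ ψ : ℂ) * (a ψ χ : ℂ) = (a χ ψ : ℂ) ^ 2 by
      rw [hsymm ψ χ, pow_two]] at h
    norm_num at h
    exact_mod_cast h
  have hsumA : ∑ χ ∈ H22.blockFinset B, a χ χ = 4 := by
    have h := S.sum_aval_self_one
    simp only [ha, hdb, hl] at h
    norm_num at h
    exact_mod_cast h
  have hcard : (H22.blockFinset B).card = 4 := by rw [← H22.natCard_block, hk]
  have hpos : ∀ χ ∈ H22.blockFinset B, 1 ≤ a χ χ := by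
    intro χ hχ
    have h1 : 0 ≤ a χ χ := by
      have h := (S.aval_self_nonneg 1 χ).1
      rw [ha, Complex.intCast_re] at h
      exact_mod_cast h
    have h2 := hodd χ (H22.mem_blockFinset.1 hχ) χ (H22.mem_blockFinset.1 hχ)
    omega
  have hdiag : ∀ χ ∈ H22.blockFinset B, a χ χ = 1 := by
    have h := sum_eq_sum_iff_of_le hpos
    rw [sum_const, hcard, hsumA] at h
    exact fun χ hχ => (h.1 (by norm_num) χ hχ).symm
  have hunit : ∀ χ ∈ H22.blockFinset B, ∀ ψ ∈ H22.blockFinset B, a χ ψ = 1 ∨ a χ ψ = -1 := by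
    intro χ hχ
    have h1 : ∀ ψ ∈ H22.blockFinset B, 1 ≤ a χ ψ ^ 2 := fun ψ hψ => by
      have := hodd χ (H22.mem_blockFinset.1 hχ) ψ (H22.mem_blockFinset.1 hψ)
      have h0 : a χ ψ ≠ 0 := fun h => this (by rw [h]; exact dvd_zero _)
      nlinarith [Int.one_le_abs h0, sq_abs (a χ ψ), abs_nonneg (a χ ψ)]
    have h := sum_eq_sum_iff_of_le h1
    rw [sum_const, hcard, hrow χ, hdiag χ hχ] at h
    intro ψ hψ
    have h2 := (h.1 (by norm_num) ψ hψ).symm
    exact sq_eq_one_iff.1 h2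
  obtain ⟨χ₀, hχ₀⟩ := H20.block_nonempty hB
  have hχ₀' : χ₀ ∈ H22.blockFinset B := H22.mem_blockFinset.2 hχ₀
  have hinner : ∀ χ ψ, classInner (part 2 x b χ) (part 2 x b ψ) = (a χ ψ : ℂ) / 4 := by
    intro χ ψ
    rw [← ha, S.aval_one, hdb]
    norm_num
  refine ⟨fun χ => a χ χ₀, part 2 x b χ₀, ?_, S.part_mem χ₀, fun χ hχ => ?_, fun y hy => ?_⟩
  · intro h0
    have h := hinner χ₀ χ₀
    rw [h0, hdiag χ₀ hχ₀', H12.classInner_def] at h
    simp at h
  · have hχ' := H22.mem_blockFinset.2 hχ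
    refine ⟨hunit χ hχ' χ₀ hχ₀', ?_⟩
    rw [← sub_eq_zero]
    apply eq_zero_of_classInner_self
    rw [sub_eq_add_neg, ← neg_smul]
    simp only [H12.classInner_add_left, H12.classInner_add_right, H12.classInner_smul_left,
      H12.classInner_smul_right, hinner, hdiag χ hχ', hdiag χ₀ hχ₀', map_neg, map_intCast,
      hsymm χ₀ χ]
    rcases hunit χ hχ' χ₀ hχ₀' with h | h <;> rw [h] <;> push_cast <;> ring
  · refine ⟨S.memRing_part χ₀ y, ?_⟩
    let c : IrrCharacter C[x] → ℂ := fun η' => ∑ i ∈ range S.N, S.ζ ^ i *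
      ((∑ η ∈ H22.blockFinset b, S.vec χ₀ i η * S.z η η' : ℤ) : ℂ)
    have hθ : ∀ w : C[x], (4 * part 2 x b χ₀ w) =
        ∑ η' ∈ H22.blockFinset b, c η' * (η' : C[x] → ℂ) w := by
      intro w
      rw [← S.gpart_one χ₀]
      simp only [Setup.gpart, Setup.gmap, Finset.sum_apply, Pi.smul_apply, smul_eq_mul,
        one_mul, c, mul_sum, sum_mul]
      rw [sum_comm (s := H22.blockFinset b) (t := range S.N)]
      refine sum_congr rfl fun i _ => ?_
      push_cast
      simp only [mul_sum, sum_mul]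
      rw [sum_comm (s := H22.blockFinset b) (t := H22.blockFinset b)]
      refine sum_congr rfl fun η hη => ?_
      rw [← H22.sum_Delta_mul (H22.weakOrth_of_block hM hind.1) (H22.mem_blockFinset.1 hη) w,
        mul_sum, mul_sum, mul_sum]
      refine sum_congr rfl fun η' _ => ?_
      rw [S.hz η (H22.mem_blockFinset.1 hη), hdb]
      push_cast
      ring
    have h := H22.div_cenExp_memRing (M := M) (p := 2) hθ
      (fun w hw => by
        rw [part, H22.Sub.regMap_apply, H22.pRegularPart_of_dvd _ hw, mul_zero])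
      (fun η' _ => H20.memRing_sum _ _ fun i _ => H20.memRing_mul
        (H20.memRing_of_isIntegral ((S.hζ.isIntegral S.N_pos).pow _)) (H20.memRing_intCast _)) hy
    have hc : (Nat.card C[y] : ℂ) = ((2 : ℕ) : ℂ) ^ H22.cenExp 2 y *
        ((Nat.card C[y] / 2 ^ (Nat.card C[y]).factorization 2 : ℕ) : ℂ) := by
      rw [H22.cenExp, ← Nat.cast_pow, ← Nat.cast_mul, Nat.ordProj_mul_ordCompl_eq_self]
    rw [hc, ← div_div, div_eq_mul_inv]
    exact H20.memRing_mul h
      (H20.inv_natCast_memRing hM (Nat.not_dvd_ordCompl h2.out Nat.card_pos.ne'))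

open H22.Contrib in
/-- The column data of a block with a Klein four defect group. -/
theorem exists_cols (hM : IsPModular 2 M) [CharP (H20.k M) 2] [IsAlgClosed (H20.k M)]
    {B : Set (IrrCharacter G)} (hB : IsPBlock M B) {P : Subgroup G}
    (hPD : IsDefectGroup 2 M B P) (hV : IsKleinFour P) {f₀ : (H20.k M)[G]}
    (hmax : H23.IsMax 2 (H23.eB M B) P f₀) (hk : Nat.card B = 4) {n : ℕ}
    (hn : blockRank 2 B + n = 4) :
    ∃ a : Fin n → IrrCharacter G → ℤ,
      (∀ i, ∀ χ ∈ B, a i χ = 1 ∨ a i χ = -1) ∧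
      (∀ i j, i ≠ j → ∑ χ ∈ H22.blockFinset B, a i χ * a j χ = 0) ∧
      (∀ i (y : G), ¬ 2 ∣ orderOf y →
        ∑ χ ∈ H22.blockFinset B, (a i χ : ℂ) * (χ : G → ℂ) y = 0) ∧
      ∀ g : G, 2 ∣ orderOf g → ∃ v : Fin n → ℂ,
        (∀ χ ∈ B, (χ : G → ℂ) g = ∑ i, (a i χ : ℂ) * v i) ∧
        ∀ i, MemLocalRing M (v i) ∧
          MemLocalRing M ((4 * v i) / (Nat.card C[g] : ℂ)) := by
  classical
  obtain ⟨X, hX1, hX, hXrep⟩ := exists_rep_set (G := G) 2
  haveI : ∀ x : G, Fintype C[x] := fun x => Fintype.ofFinite _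
  let I := Idx M B X
  haveI : Fintype {x : G // x ∈ X ∧ x ≠ 1} := Fintype.ofFinite _
  haveI : ∀ x : {x : G // x ∈ X ∧ x ≠ 1},
      Fintype {b : Set (IrrCharacter C[x.1]) // IsInducedBlock M C[x.1] b B} :=
    fun x => Fintype.ofFinite _
  have hI : Fintype.card I = n := by
    have h := card_subsections hM hB hPD hV hmax hX1 hX hXrep
    rw [Nat.card_eq_fintype_card (α := I)] at h
    omega
  have hdB := blockDefect_eq_two hM hB hPD hV
  have hdata : ∀ i : I, ∃ (a : IrrCharacter G → ℤ) (φ : C[i.1.1] → ℂ),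
      φ ≠ 0 ∧ φ ∈ H22.Sub.regSpan 2 i.2.1 ∧
      (∀ χ ∈ B, (a χ = 1 ∨ a χ = -1) ∧ part 2 i.1.1 i.2.1 χ = (a χ : ℂ) • φ) ∧
      ∀ y : C[i.1.1], ¬ 2 ∣ orderOf y → MemLocalRing M (φ y) ∧
        MemLocalRing M ((4 * φ y) / (Nat.card C[y] : ℂ)) := by
    intro i
    obtain ⟨hxx, hd, hl, -⟩ :=
      subsection_facts hM hB hPD hV hmax (hX _ i.1.2.1) i.1.2.2 i.2.2
    exact exists_sign_part hM hB hxx i.2.2 hk hdB hd hl
  choose a φ hφ0 hφmem hpart hφR using hdata
  -- pushing a combination through a subsection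
  have hpush : ∀ (i : I) (c : IrrCharacter G → ℂ),
      H22.Sub.regMap 2 (blockPart i.2.1
          (H22.Sub.shiftMap i.1.1 (∑ χ ∈ H22.blockFinset B, c χ • (χ : G → ℂ)))) =
        (∑ χ ∈ H22.blockFinset B, c χ * (a i χ : ℂ)) • φ i := by
    intro i c
    rw [map_sum, ← H22.Sub.partMap_apply, map_sum, map_sum, sum_smul]
    refine sum_congr rfl fun χ hχ => ?_
    rw [map_smul, map_smul, map_smul, mul_smul, ← (hpart i χ (H22.mem_blockFinset.1 hχ)).2]
    rfl
  have hzero : ∀ (i : I) (c : IrrCharacter G → ℂ),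
      (∀ w : C[i.1.1], ¬ 2 ∣ orderOf w →
        blockPart i.2.1
          (H22.Sub.shiftMap i.1.1 (∑ χ ∈ H22.blockFinset B, c χ • (χ : G → ℂ))) w = 0) →
      ∑ χ ∈ H22.blockFinset B, c χ * (a i χ : ℂ) = 0 := by
    intro i c hc
    have h := hpush i c
    have h0 : H22.Sub.regMap 2 (blockPart i.2.1
        (H22.Sub.shiftMap i.1.1 (∑ χ ∈ H22.blockFinset B, c χ • (χ : G → ℂ)))) = 0 := by
      funext w
      by_cases hw : 2 ∣ orderOf w
      · rw [H22.Sub.regMap_apply, H22.pRegularPart_of_dvd _ hw]; rfl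
      · rw [H22.Sub.regMap_apply, H22.pRegularPart_of_not_dvd _ hw, hc w hw]; rfl
    rw [h0] at h
    exact (smul_eq_zero.1 h.symm).resolve_right (hφ0 i)
  have hsec : ∀ (i : I) (w : C[i.1.1]), ¬ 2 ∣ orderOf w →
      H20.pPart 2 (i.1.1 * (w : G)) = i.1.1 :=
    fun i w hw => H20.centralizer_le_of_pPart i.1.1 w (hX _ i.1.2.1) hw
  have hsum0 : ∀ (i : I) (u : G), ¬ IsConj i.1.1 (H20.pPart 2 u) →
      ∑ χ ∈ H22.blockFinset B, (a i χ : ℂ) * (χ : G → ℂ) u = 0 := by
    intro i u hu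
    have h := hzero i (fun χ => conj ((χ : G → ℂ) u)) fun w hw => by
      rw [H22.Sub.blockPart_congr hM i.2.2.1 (f' := 0) (fun v hv => ?_) hw,
        ← H22.Sub.partMap_apply, map_zero]
      · rfl
      · have h := H20.block_orthogonality (p := 2) hM (g := i.1.1 * (v : G)) (h := u)
          (by rw [hsec i v hv]; exact hu) hB
        rw [H22.finsum_mem_block] at h
        rw [Pi.zero_apply, ← h]
        show (∑ χ ∈ H22.blockFinset B, conj ((χ : G → ℂ) u) • (χ : G → ℂ)) (i.1.1 * (v : G)) = _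
        rw [Finset.sum_apply]
        refine sum_congr rfl fun χ _ => ?_
        rw [Pi.smul_apply, smul_eq_mul, H12.irr_inv, mul_comm]
    have h' := congrArg conj h
    simp only [map_sum, map_mul, Complex.conj_conj, map_intCast, map_zero] at h'
    rw [← h']
    exact sum_congr rfl fun χ _ => mul_comm _ _
  let e : Fin n ≃ I := (Fintype.equivFinOfCardEq hI).symm
  refine ⟨fun i => a (e i), fun i χ hχ => (hpart (e i) χ hχ).1, fun i j hij => ?_,
    fun i y hy => hsum0 (e i) y ?_, fun g hg => ?_⟩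
  · apply Int.cast_injective (α := ℂ)
    push_cast
    have key : ∀ i j : I, i ≠ j →
        ∑ χ ∈ H22.blockFinset B, (a i χ : ℂ) * (a j χ : ℂ) = 0 := by
      intro i j hij
      refine hzero j _ fun w hw => ?_
      by_cases hxy : i.1 = j.1
      · obtain ⟨x, b⟩ := i
        obtain ⟨x', b'⟩ := j
        subst hxy
        have hne : b.1 ≠ b'.1 := fun h => hij (by rw [Subtype.ext h])
        obtain ⟨y, hy⟩ : ∃ y, φ ⟨x, b⟩ y ≠ 0 := Function.ne_iff.1 (hφ0 ⟨x, b⟩)
        have hreg : ¬ 2 ∣ orderOf y := fun h => hy (by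
          rw [← H22.Sub.pRegularPart_of_mem_regSpan (hφmem ⟨x, b⟩),
            H22.pRegularPart_of_dvd _ h])
        let f : C[x.1] → ℂ := (conj (φ ⟨x, b⟩ y))⁻¹ •
          ∑ ψ ∈ H22.blockFinset b.1, conj ((ψ : C[x.1] → ℂ) y) • (ψ : C[x.1] → ℂ)
        have hf : f ∈ H22.Sub.irrSpan b.1 := Submodule.smul_mem _ _ (Submodule.sum_mem _ fun ψ hψ =>
          Submodule.smul_mem _ _
            (Submodule.subset_span ⟨ψ, H22.mem_blockFinset.1 hψ, rfl⟩))
        rw [H22.Sub.blockPart_congr hM b'.2.1 (f' := f) (fun v hv => ?_) hw,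
          H22.Sub.blockPart_of_mem_irrSpan_ne b'.2.1 b.2.1 hne hf]
        · rfl
        -- the section orthogonality pushed through `b`
        let g₁ : C[x.1] → ℂ := ∑ χ ∈ H22.blockFinset B,
          conj ((χ : G → ℂ) (x.1 * (v : G))) • H22.Sub.shiftMap x.1 (χ : G → ℂ)
        let g₂ : C[x.1] → ℂ :=
          ∑ b'' : {b : Set (IrrCharacter C[x.1]) // IsInducedBlock M C[x.1] b B},
            ∑ ψ ∈ H22.blockFinset b''.1, conj ((ψ : C[x.1] → ℂ) v) • (ψ : C[x.1] → ℂ)
        have hg : ∀ u : C[x.1], ¬ 2 ∣ orderOf u → g₁ u = g₂ u := fun u hu => by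
          simp only [g₁, g₂, Finset.sum_apply, Pi.smul_apply, smul_eq_mul]
          rw [sum_congr rfl fun χ _ => mul_comm _ _,
            sum_congr rfl fun b'' _ => sum_congr rfl fun ψ _ => mul_comm _ _]
          exact H22.Sub.section_orth hM hB (hX _ x.2.1) u v hu hv
        have h1 := H22.Sub.blockPart_congr hM b.2.1 hg hreg
        rw [← H22.Sub.partMap_apply, ← H22.Sub.partMap_apply] at h1
        simp only [g₁, g₂, map_sum, map_smul, H22.Sub.partMap_apply] at h1
        rw [Finset.sum_apply, Finset.sum_apply, sum_eq_single b] at h1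
        rotate_left
        · intro b'' _ hb''
          rw [Finset.sum_apply]
          refine sum_eq_zero fun ψ hψ => ?_
          rw [Pi.smul_apply, H22.Sub.blockPart_irr, if_neg, Pi.zero_apply, smul_zero]
          exact fun h => hb'' (Subtype.ext
            (H20.block_eq_of_mem b''.2.1 b.2.1 (H22.mem_blockFinset.1 hψ) h))
        · exact fun h => absurd (mem_univ _) h
        rw [Finset.sum_apply, sum_congr rfl fun (χ : IrrCharacter G) (hχ : χ ∈ H22.blockFinset B) => show
          (conj ((χ : G → ℂ) (x.1 * (v : G))) •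
              blockPart b.1 (H22.Sub.shiftMap x.1 (χ : G → ℂ))) y =
            conj ((χ : G → ℂ) (x.1 * (v : G))) * ((a ⟨x, b⟩ χ : ℂ) * φ ⟨x, b⟩ y) by
          have h := congrFun (hpart ⟨x, b⟩ χ (H22.mem_blockFinset.1 hχ)).2 y
          rw [part, H22.Sub.regMap_apply, H22.pRegularPart_of_not_dvd _ hreg] at h
          rw [Pi.smul_apply, h]
          rfl] at h1
        have h2 := congrArg conj h1
        simp only [map_sum, map_mul, Complex.conj_conj, map_intCast, Pi.smul_apply,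
          smul_eq_mul] at h2
        show (∑ χ ∈ H22.blockFinset B, (a ⟨x, b⟩ χ : ℂ) • (χ : G → ℂ)) (x.1 * (v : G)) = f v
        simp only [f, Finset.sum_apply, Pi.smul_apply, smul_eq_mul]
        rw [eq_inv_mul_iff_mul_eq₀ ((map_ne_zero _).2 hy), mul_sum]
        refine (sum_congr rfl fun χ _ => ?_).trans (h2.trans (sum_congr rfl fun ψ hψ => ?_))
        · ring
        · rw [H22.Sub.blockPart_irr, if_pos (H22.mem_blockFinset.1 hψ), mul_comm]
      · rw [H22.Sub.blockPart_congr hM j.2.2.1 (f' := 0) (fun v hv => ?_) hw,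
          ← H22.Sub.partMap_apply, map_zero]
        · rfl
        rw [Pi.zero_apply, ← hsum0 i (j.1.1 * (v : G)) fun hc => ?_]
        · exact (Finset.sum_apply _ _ _).trans (sum_congr rfl fun χ _ => rfl)
        · rw [hsec j v hv] at hc
          exact hxy (Subtype.ext ((hXrep _ (hX _ i.1.2.1)).unique ⟨i.1.2.1, IsConj.refl _⟩
            ⟨j.1.2.1, hc⟩))
    exact key _ _ (e.injective.ne hij)
  · rw [H20.pPart_eq_one_iff.2 hy]
    exact fun h => (e i).1.2.2 (isConj_one_left.1 h)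
  · have hu1 : H20.pPart 2 g ≠ 1 := fun h => H20.pPart_eq_one_iff.1 h hg
    obtain ⟨x, ⟨hxX, hxc⟩, -⟩ := hXrep _ (H20.exists_orderOf_pPart (p := 2) g)
    obtain ⟨c, hc⟩ := isConj_iff.1 hxc.symm
    have hx1 : x ≠ 1 := fun h => hu1 (by rw [← hc, h]; simp)
    have hymem : c⁻¹ * H20.qPart 2 g * c ∈ C[x] := by
      have h1 : x = c⁻¹ * H20.pPart 2 g * c := by rw [← hc]; group
      rw [Subgroup.mem_centralizer_singleton_iff, h1]
      calc c⁻¹ * H20.qPart 2 g * c * (c⁻¹ * H20.pPart 2 g * c)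
          = c⁻¹ * (H20.qPart 2 g * H20.pPart 2 g) * c := by group
        _ = c⁻¹ * (H20.pPart 2 g * H20.qPart 2 g) * c := by
            rw [(H20.commute_pPart_qPart (p := 2) g).eq]
        _ = _ := by group
    set y : C[x] := ⟨_, hymem⟩ with hy_def
    have hy : ¬ 2 ∣ orderOf y := by
      rw [hy_def, Subgroup.orderOf_mk]
      have := (MulAut.conj c⁻¹).orderOf_eq (H20.qPart 2 g)
      rw [MulAut.conj_apply, inv_inv] at this
      rw [this]
      exact H20.not_dvd_orderOf_qPart g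
    have hgxy : g = c * (x * (y : G)) * c⁻¹ := by
      conv_lhs => rw [← H20.pPart_mul_qPart (p := 2) g, ← hc]
      simp only [y]
      group
    have hcC : Nat.card C[g] = Nat.card C[y] := by
      rw [hgxy, H20.card_centralizer_conj, card_centralizer_mul (hX x hxX) hy]
    let v : I → ℂ := fun i =>
      if h : i.1.1 = x then φ i ⟨(y : G), h ▸ y.2⟩ else 0
    have hv : ∀ i, MemLocalRing M (v i) ∧
        MemLocalRing M ((4 * v i) / (Nat.card C[g] : ℂ)) := by
      intro i
      obtain ⟨⟨x', hx'⟩, b⟩ := i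
      by_cases h : x' = x
      · subst h
        simp only [v, dif_pos, hcC]
        exact hφR _ _ hy
      · simp only [v, dif_neg h, mul_zero, zero_div]
        exact ⟨H20.memRing_of_isIntegral isIntegral_zero,
          H20.memRing_of_isIntegral isIntegral_zero⟩
    refine ⟨fun i => v (e i), fun χ hχ => ?_, fun i => hv (e i)⟩
    rw [e.sum_comp (fun i => (a i χ : ℂ) * v i), Fintype.sum_sigma,
      sum_eq_single (⟨x, hxX, hx1⟩ : {x : G // x ∈ X ∧ x ≠ 1})
        (fun x' _ hne => sum_eq_zero fun b _ => by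
          simp only [v]
          rw [dif_neg fun h => hne (Subtype.ext h), mul_zero])
        (fun h => absurd (mem_univ _) h)]
    haveI : Fintype {b : Set (IrrCharacter C[x]) // IsPBlock M b} := Fintype.ofFinite _
    have hsplit := congrFun (H22.Sub.sum_blockPart (M := M)
      (f := H22.Sub.shiftMap x (χ : G → ℂ))
      (H20.isClassFunction_shift (H12.irr_isClassFunction χ) x)) y
    rw [hgxy, H12.irr_isClassFunction χ, show (χ : G → ℂ) (x * (y : G)) =
      H22.Sub.shiftMap x (χ : G → ℂ) y from rfl, ← hsplit, Finset.sum_apply]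
    symm
    refine sum_bij_ne_zero (fun b _ _ => ⟨b.1, b.2.1⟩) (fun b _ _ => mem_univ _)
      (fun b _ _ b' _ _ h => Subtype.ext (congrArg Subtype.val h :)) (fun b _ hb => ?_)
      (fun b _ _ => ?_)
    · by_cases hind : IsInducedBlock M C[x] b.1 B
      · refine ⟨⟨b.1, hind⟩, mem_univ _, ?_, rfl⟩
        simp only [v, dif_pos]
        have h := congrFun (hpart ⟨⟨x, hxX, hx1⟩, b.1, hind⟩ χ hχ).2 y
        rw [part, H22.Sub.regMap_apply, H22.pRegularPart_of_not_dvd _ hy, Pi.smul_apply] at h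
        rw [h] at hb
        exact hb
      · exact absurd (H20.blockPart_shift_eq_zero hM (hX x hxX) hB hχ b.2 hind y hy) hb
    · simp only [v, dif_pos]
      have h := congrFun (hpart ⟨⟨x, hxX, hx1⟩, b⟩ χ hχ).2 y
      rw [part, H22.Sub.regMap_apply, H22.pRegularPart_of_not_dvd _ hy, Pi.smul_apply] at h
      exact h.symm

end

end H20.Klein
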