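import Cfsg.Agent.H20.KleinColumns
import Cfsg.Agent.H19.AbelianNilpotent
import Cfsg.Agent.H19.BlockTransport
import Cfsg.Prelude.Def_BlockLocal

/-!
# The perfect isometry of a 2-block with a Klein four defect group and its Brauer correspondent
-/

set_option autoImplicit false
set_option linter.unusedSectionVars false
set_option linter.style.haveILetI false

open Cfsg Finset
open scoped MonoidAlgebra ComplexConjugate

namespace H20.Klein

universe u v

variable {M : Ideal AlgInt}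

/-- A block of `C` seen inside `K` comes from a block of `C`. -/
theorem exists_pull_eq [M.IsPrime] {G : Type u} [Group G] {C K : Subgroup G} {C' : Subgroup K}
    (hCK : C ≤ K) (h : ∀ k : K, k ∈ C' ↔ (k : G) ∈ C) {c₁ : Set (IrrCharacter C')}
    (hc₁ : IsPBlock M c₁) :
    ∃ c : Set (IrrCharacter C), IsPBlock M c ∧ H19.Transport.pull hCK h c = c₁ := by
  obtain ⟨ξ, rfl⟩ := hc₁
  set ξ₀ := (H12.irrCongr (H19.Transport.copyEquiv hCK h)).symm ξ with hξ₀
  refine ⟨blockOf M (ξ₀ : C → ℂ), ⟨ξ₀, rfl⟩, Set.ext fun η => ?_⟩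
  constructor
  · rintro ⟨ψ, hψ, rfl⟩
    have := (H19.Transport.sameBlock_iff hCK h ξ₀ ψ).2 hψ
    rwa [hξ₀, Equiv.apply_symm_apply] at this
  · intro hη
    refine ⟨(H12.irrCongr (H19.Transport.copyEquiv hCK h)).symm η, ?_,
      Equiv.apply_symm_apply _ _⟩
    show SameBlock M _ _
    rw [← H19.Transport.sameBlock_iff hCK h, Equiv.apply_symm_apply, Equiv.apply_symm_apply]
    exact hη

/-- Transitivity of induction. -/
theorem induced_trans [M.IsPrime] {G : Type u} [Group G] [Fintype G] {C K : Subgroup G} [Fintype K]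
    {C' : Subgroup K} (hCK : C ≤ K) (h : ∀ k : K, k ∈ C' ↔ (k : G) ∈ C)
    {c : Set (IrrCharacter C)} (hc : IsPBlock M c) {f : Set (IrrCharacter K)}
    {B : Set (IrrCharacter G)} (h1 : IsInducedBlock M C' (H19.Transport.pull hCK h c) f)
    (h2 : IsInducedBlock M K f B) : IsInducedBlock M C c B := by
  obtain rfl : C' = C.subgroupOf K := Subgroup.ext fun k => by rw [h k, Subgroup.mem_subgroupOf]
  haveI := Fintype.ofFinite C
  haveI := Fintype.ofFinite (C.subgroupOf K)
  obtain ⟨ξ, hξ⟩ := H20.block_nonempty hc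
  obtain ⟨ψ, hψ⟩ := H20.block_nonempty h1.2.1
  obtain ⟨χ, hχ⟩ := H20.block_nonempty h2.2.1
  have hup : H21.upSub hCK ξ ∈ H19.Transport.pull hCK h c := ⟨ξ, hξ, Subtype.ext (funext fun y => by
    rw [H21.upSub, H12.irrCongr_apply, H12.irrCongr_apply]
    rfl)⟩
  refine (H21.isInducedBlock_iff hc h2.2.1 hξ hχ).2 fun a ha => ?_
  refine H21.indLam_eq_lam_of_clSum C ξ χ (fun g => ?_) ha
  rw [← H21.indLam_trans hCK ξ g, (H21.isInducedBlock_iff h1.1 h1.2.1 hup hψ).1 h1 _
    (H21.resSub_isCl K ((H20.isCl_clSum _ g).isInv K)),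
    ← (H21.isInducedBlock_iff h2.1 h2.2.1 hψ hχ).1 h2 _ (H20.isCl_clSum _ g)]
  rfl

theorem natCast_card_eq {G : Type u} [Group G] [Fintype G] (g : G) :
    (Nat.card (Subgroup.centralizer ({g} : Set G)) : ℂ) = ((2 : ℕ) : ℂ) ^ H22.cenExp 2 g *
      ((Nat.card (Subgroup.centralizer ({g} : Set G)) /
        2 ^ (Nat.card (Subgroup.centralizer ({g} : Set G))).factorization 2 : ℕ) : ℂ) := by
  rw [H22.cenExp, ← Nat.cast_pow, ← Nat.cast_mul, Nat.ordProj_mul_ordCompl_eq_self]

/-- A local combination vanishing at singular elements is divisible by centralizers. -/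
theorem div_card_memRing [M.IsPrime] {G : Type u} [Group G] [Fintype G] (hM : IsPModular 2 M)
    {s : Finset (IrrCharacter G)} {c : IrrCharacter G → ℂ} (hc : ∀ χ ∈ s, MemLocalRing M (c χ))
    (hvan : ∀ x : G, 2 ∣ orderOf x → ∑ χ ∈ s, c χ * (χ : G → ℂ) x = 0)
    {g : G} (hg : ¬ 2 ∣ orderOf g) :
    MemLocalRing M ((∑ χ ∈ s, c χ * (χ : G → ℂ) g) /
      (Nat.card (Subgroup.centralizer ({g} : Set G)) : ℂ)) := by
  haveI : Fact (Nat.Prime 2) := ⟨Nat.prime_two⟩
  have h := H22.div_cenExp_memRing (M := M) (p := 2)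
    (θ := fun x => ∑ χ ∈ s, c χ * (χ : G → ℂ) x) (fun x => rfl) hvan hc hg
  rw [natCast_card_eq, ← div_div, div_eq_mul_inv]
  exact H20.memRing_mul h
    (H20.inv_natCast_memRing hM (Nat.not_dvd_ordCompl Nat.prime_two Nat.card_pos.ne'))

/-- The properties of the columns. -/
structure ColData {G : Type u} [Group G] [Fintype G] (M : Ideal AlgInt)
    (B : Set (IrrCharacter G)) {n : ℕ} (a : Fin n → IrrCharacter G → ℤ) : Prop where
  unit : ∀ i, ∀ χ ∈ B, a i χ = 1 ∨ a i χ = -1
  orth : ∀ i j, i ≠ j → ∑ χ ∈ H22.blockFinset B, a i χ * a j χ = 0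
  reg : ∀ i (y : G), ¬ 2 ∣ orderOf y →
    ∑ χ ∈ H22.blockFinset B, (a i χ : ℂ) * (χ : G → ℂ) y = 0
  expand : ∀ g : G, 2 ∣ orderOf g → ∃ v : Fin n → ℂ,
    (∀ χ ∈ B, (χ : G → ℂ) g = ∑ i, (a i χ : ℂ) * v i) ∧
    ∀ i, MemLocalRing M (v i) ∧
      MemLocalRing M ((4 * v i) / (Nat.card (Subgroup.centralizer ({g} : Set G)) : ℂ))

theorem sign_mul_self {z : ℤ} (h : z = 1 ∨ z = -1) : z * z = 1 := by
  rcases h with h | h <;> subst h <;> rfl

/-- Signs of three orthogonal columns on four members: all patterns occur once. -/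
theorem pattern_bijective {G : Type u} [Group G] [Fintype G] {B : Set (IrrCharacter G)}
    {a : Fin 3 → IrrCharacter G → ℤ} (ha : ColData M B a) (hk : Nat.card B = 4) :
    Function.Bijective fun χ : B =>
      (decide (a 0 χ.1 = a 1 χ.1), decide (a 0 χ.1 = a 2 χ.1)) := by
  classical
  haveI : Fintype B := Fintype.ofFinite _
  rw [Fintype.bijective_iff_injective_and_card]
  refine ⟨fun χ ψ h => ?_, by rw [← Nat.card_eq_fintype_card, hk]; rfl⟩
  by_contra hne
  simp only [Prod.mk.injEq, decide_eq_decide] at h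
  set T : IrrCharacter G → ℤ := fun φ => (1 + (a 0 χ.1 * a 1 χ.1) * (a 0 φ * a 1 φ)) *
    (1 + (a 0 χ.1 * a 2 χ.1) * (a 0 φ * a 2 φ)) with hT
  have hcard : (H22.blockFinset B).card = 4 := by rw [← H22.natCard_block, hk]
  have hsum : ∑ φ ∈ H22.blockFinset B, T φ = 4 := by
    have e : ∀ φ ∈ H22.blockFinset B, T φ = 1 + (a 0 χ.1 * a 1 χ.1) * (a 0 φ * a 1 φ) +
        (a 0 χ.1 * a 2 χ.1) * (a 0 φ * a 2 φ) +
        (a 0 χ.1 * a 1 χ.1) * (a 0 χ.1 * a 2 χ.1) * (a 1 φ * a 2 φ) := fun φ hφ => by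
      have h0 := sign_mul_self (ha.unit 0 φ (H22.mem_blockFinset.1 hφ))
      simp only [T]
      linear_combination (a 0 χ.1 * a 1 χ.1) * (a 0 χ.1 * a 2 χ.1) * (a 1 φ * a 2 φ) * h0
    rw [sum_congr rfl e, sum_add_distrib, sum_add_distrib, sum_add_distrib, ← mul_sum, ← mul_sum,
      ← mul_sum, ha.orth 0 1 (by decide), ha.orth 0 2 (by decide), ha.orth 1 2 (by decide),
      sum_const, hcard]
    simp
  have hprod : ∀ φ : B, ∀ i, a 0 φ.1 * a i φ.1 = if a 0 φ.1 = a i φ.1 then 1 else -1 := by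
    intro φ i
    rcases ha.unit 0 _ φ.2 with h0 | h0 <;> rcases ha.unit i _ φ.2 with h1 | h1 <;>
      rw [h0, h1] <;> rfl
  have hnn : ∀ φ ∈ H22.blockFinset B, 0 ≤ T φ := fun φ hφ => by
    simp only [T, hprod χ 1, hprod χ 2, hprod ⟨φ, H22.mem_blockFinset.1 hφ⟩ 1,
      hprod ⟨φ, H22.mem_blockFinset.1 hφ⟩ 2]
    split_ifs <;> norm_num
  have hfour : ∀ φ : B, (a 0 χ.1 = a 1 χ.1 ↔ a 0 φ.1 = a 1 φ.1) →
      (a 0 χ.1 = a 2 χ.1 ↔ a 0 φ.1 = a 2 φ.1) → T φ.1 = 4 := fun φ h1 h2 => by
    simp only [T, hprod χ 1, hprod χ 2, hprod φ 1, hprod φ 2, h1, h2]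
    split_ifs <;> norm_num
  have hle : ∑ φ ∈ ({χ.1, ψ.1} : Finset (IrrCharacter G)), T φ ≤
      ∑ φ ∈ H22.blockFinset B, T φ :=
    sum_le_sum_of_subset_of_nonneg (fun φ hφ => by
      rcases mem_insert.1 hφ with rfl | hφ
      · exact H22.mem_blockFinset.2 χ.2
      · rw [mem_singleton.1 hφ]; exact H22.mem_blockFinset.2 ψ.2) fun φ hφ _ => hnn φ hφ
  rw [sum_pair (fun h' => hne (Subtype.ext h')), hsum, hfour χ Iff.rfl Iff.rfl,
    hfour ψ h.1 h.2] at hle
  omega

/-- A bijection matching the columns up to signs. -/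
theorem exists_match {G : Type u} [Group G] [Fintype G] {H : Type v} [Group H] [Fintype H]
    {B : Set (IrrCharacter G)} {c : Set (IrrCharacter H)} {n : ℕ}
    {a : Fin n → IrrCharacter G → ℤ} {a' : Fin n → IrrCharacter H → ℤ}
    (ha : ColData M B a) (ha' : ColData M c a') (hk : Nat.card B = 4) (hk' : Nat.card c = 4)
    (hn : n = 1 ∨ n = 3) :
    ∃ (I : IrrCharacter H → IrrCharacter G) (ε : IrrCharacter H → ℤ), Set.BijOn I c B ∧
      (∀ η ∈ c, ε η = 1 ∨ ε η = -1) ∧ ∀ i, ∀ η ∈ c, a' i η = ε η * a i (I η) := by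
  classical
  haveI : NeZero n := ⟨by omega⟩
  obtain ⟨e, he⟩ : ∃ e : c ≃ B, ∀ η : c, ∀ i,
      a' 0 η.1 * a' i η.1 = a 0 (e η).1 * a i (e η).1 := by
    rcases hn with rfl | rfl
    · refine ⟨(Finite.equivFinOfCardEq hk').trans (Finite.equivFinOfCardEq hk).symm, fun η i => ?_⟩
      rw [Subsingleton.elim i 0, sign_mul_self (ha'.unit 0 _ η.2),
        sign_mul_self (ha.unit 0 _ (Subtype.coe_prop _))]
    · let e : c ≃ B := (Equiv.ofBijective _ (pattern_bijective ha' hk')).trans
        (Equiv.ofBijective _ (pattern_bijective ha hk)).symm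
      refine ⟨e, fun η i => ?_⟩
      have h := (Equiv.ofBijective _ (pattern_bijective ha hk)).apply_symm_apply
        (Equiv.ofBijective _ (pattern_bijective ha' hk') η)
      simp only [Equiv.ofBijective_apply, Prod.mk.injEq, decide_eq_decide] at h
      have hprod : ∀ (x y z w : ℤ), (x = 1 ∨ x = -1) → (y = 1 ∨ y = -1) → (z = 1 ∨ z = -1) →
          (w = 1 ∨ w = -1) → (z = w ↔ x = y) → x * y = z * w := by
        intro x y z w hx hy hz hw
        rcases hx with rfl | rfl <;> rcases hy with rfl | rfl <;> rcases hz with rfl | rfl <;>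
          rcases hw with rfl | rfl <;> norm_num
      fin_cases i
      · exact (sign_mul_self (ha'.unit 0 _ η.2)).trans (sign_mul_self (ha.unit 0 _ (e η).2)).symm
      · exact hprod _ _ _ _ (ha'.unit 0 _ η.2) (ha'.unit 1 _ η.2) (ha.unit 0 _ (e η).2)
          (ha.unit 1 _ (e η).2) h.1
      · exact hprod _ _ _ _ (ha'.unit 0 _ η.2) (ha'.unit 2 _ η.2) (ha.unit 0 _ (e η).2)
          (ha.unit 2 _ (e η).2) h.2
  obtain ⟨χ₀, hχ₀⟩ : ∃ χ₀, χ₀ ∈ B := by
    by_contra h
    push Not at h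
    rw [Set.eq_empty_iff_forall_notMem.2 h] at hk
    simp at hk
  let I : IrrCharacter H → IrrCharacter G := fun η => if h : η ∈ c then (e ⟨η, h⟩).1 else χ₀
  have hI : ∀ η (h : η ∈ c), I η = (e ⟨η, h⟩).1 := fun η h => dif_pos h
  refine ⟨I, fun η => a' 0 η * a 0 (I η), ⟨fun η hη => ?_, fun η hη η' hη' h => ?_,
    fun χ hχ => ?_⟩, fun η hη => ?_, fun i η hη => ?_⟩
  · rw [hI η hη]; exact Subtype.coe_prop _
  · rw [hI η hη, hI η' hη'] at h
    exact congrArg Subtype.val (e.injective (Subtype.ext h))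
  · refine ⟨(e.symm ⟨χ, hχ⟩).1, (e.symm ⟨χ, hχ⟩).2, ?_⟩
    rw [hI _ (e.symm ⟨χ, hχ⟩).2]
    simp
  · beta_reduce
    rw [hI η hη]
    rcases ha'.unit 0 η hη with h | h <;> rcases ha.unit 0 _ (e ⟨η, hη⟩).2 with h' | h' <;>
      simp [h, h']
  · beta_reduce
    rw [hI η hη, mul_assoc, ← he ⟨η, hη⟩ i, ← mul_assoc, sign_mul_self (ha'.unit 0 η hη), one_mul]

/-- Matched columns give a perfect function. -/
theorem isPerfectFun_of_match {G : Type u} [Group G] [Fintype G] {H : Type v} [Group H] [Fintype H]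
    [M.IsPrime] (hM : IsPModular 2 M)
    {B : Set (IrrCharacter G)} {c : Set (IrrCharacter H)} {n : ℕ}
    {a : Fin n → IrrCharacter G → ℤ} {a' : Fin n → IrrCharacter H → ℤ}
    (ha : ColData M B a) (ha' : ColData M c a') (hk' : Nat.card c = 4)
    {I : IrrCharacter H → IrrCharacter G} {ε : IrrCharacter H → ℤ} (hI : Set.BijOn I c B)
    (hε : ∀ η ∈ c, ε η = 1 ∨ ε η = -1)
    (hmatch : ∀ i, ∀ η ∈ c, a' i η = ε η * a i (I η)) :
    IsPerfectFun 2 M (signedBijectionKernel c I ε) := by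
  classical
  have hreindex : ∀ f : IrrCharacter G → ℂ,
      ∑ η ∈ H22.blockFinset c, f (I η) = ∑ χ ∈ H22.blockFinset B, f χ := fun f =>
    sum_nbij I (fun η hη => H22.mem_blockFinset.2 (hI.1 (H22.mem_blockFinset.1 hη)))
      (fun η hη η' hη' h => hI.2.1 (H22.mem_blockFinset.1 hη) (H22.mem_blockFinset.1 hη') h)
      (fun χ hχ => by
        obtain ⟨η, hη, h⟩ := hI.2.2 (H22.mem_blockFinset.1 hχ)
        exact ⟨η, H22.mem_blockFinset.2 hη, h⟩) (fun η _ => rfl)
  have hswap : ∀ i, ∀ η ∈ c, (a i (I η) : ℂ) = (ε η : ℂ) * (a' i η : ℂ) := fun i η hη => by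
    rw [← Int.cast_mul, hmatch i η hη, ← mul_assoc, sign_mul_self (hε η hη), one_mul]
  have hswap' : ∀ i, ∀ η ∈ c, (a' i η : ℂ) = (ε η : ℂ) * (a i (I η) : ℂ) := fun i η hη => by
    rw [← Int.cast_mul, hmatch i η hη]
  intro x y
  have hμ : signedBijectionKernel c I ε x y =
      ∑ η ∈ H22.blockFinset c, (ε η : ℂ) * (I η : G → ℂ) x * (η : H → ℂ) y :=
    H22.finsum_mem_block _ _
  by_cases hx : 2 ∣ orderOf x <;> by_cases hy : 2 ∣ orderOf y
  · -- both singular
    obtain ⟨v, hv, hvR⟩ := ha.expand x hx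
    obtain ⟨w, hw, hwR⟩ := ha'.expand y hy
    have h4 : signedBijectionKernel c I ε x y = ∑ i, 4 * v i * w i := by
      rw [hμ, sum_congr rfl fun η hη => show (ε η : ℂ) * (I η : G → ℂ) x * (η : H → ℂ) y =
        ∑ i, ∑ j, v i * w j * (((a' i η * a' j η : ℤ)) : ℂ) by
          have hη' := H22.mem_blockFinset.1 hη
          rw [hv _ (hI.1 hη'), hw _ hη', mul_assoc, Finset.sum_mul_sum, mul_sum]
          refine sum_congr rfl fun i _ => ?_
          rw [mul_sum]
          refine sum_congr rfl fun j _ => ?_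
          push_cast
          rw [hswap' i η hη']
          ring, sum_comm]
      refine sum_congr rfl fun i _ => ?_
      rw [sum_comm, sum_eq_single i]
      · rw [← mul_sum, ← Int.cast_sum, sum_congr rfl fun η hη =>
          sign_mul_self (ha'.unit i η (H22.mem_blockFinset.1 hη)), sum_const,
          ← H22.natCard_block, hk']
        simp only [nsmul_eq_mul, mul_one, Nat.cast_ofNat, Int.cast_ofNat]
        ring
      · intro j _ hj
        rw [← mul_sum, ← Int.cast_sum, ha'.orth i j (Ne.symm hj), Int.cast_zero, mul_zero]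
      · exact fun h => absurd (mem_univ _) h
    refine ⟨?_, ?_, Or.inl (by simp [IsPRegular, hx, hy])⟩
    · rw [h4, sum_div]
      refine H20.memRing_sum _ _ fun i _ => ?_
      rw [show 4 * v i * w i / (Nat.card (Subgroup.centralizer ({x} : Set G)) : ℂ) =
        4 * v i / (Nat.card (Subgroup.centralizer ({x} : Set G)) : ℂ) * w i by ring]
      exact H20.memRing_mul (hvR i).2 (hwR i).1
    · rw [h4, sum_div]
      refine H20.memRing_sum _ _ fun i _ => ?_
      rw [show 4 * v i * w i / (Nat.card (Subgroup.centralizer ({y} : Set H)) : ℂ) =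
        v i * (4 * w i / (Nat.card (Subgroup.centralizer ({y} : Set H)) : ℂ)) by ring]
      exact H20.memRing_mul (hvR i).1 (hwR i).2
  · -- singular, regular
    have h0 : signedBijectionKernel c I ε x y = 0 := by
      obtain ⟨v, hv, -⟩ := ha.expand x hx
      rw [hμ, sum_congr rfl fun η hη => show (ε η : ℂ) * (I η : G → ℂ) x * (η : H → ℂ) y =
        ∑ i, v i * ((a' i η : ℂ) * (η : H → ℂ) y) by
          have hη' := H22.mem_blockFinset.1 hη
          rw [hv _ (hI.1 hη'), mul_sum, sum_mul]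
          exact sum_congr rfl fun i _ => by rw [hswap' i η hη']; ring, sum_comm]
      exact sum_eq_zero fun i _ => by rw [← mul_sum, ha'.reg i y hy, mul_zero]
    have h00 := H20.memRing_of_isIntegral (M := M) isIntegral_zero
    exact ⟨by rw [h0, zero_div]; exact h00, by rw [h0, zero_div]; exact h00, Or.inr h0⟩
  · -- regular, singular
    have h0 : signedBijectionKernel c I ε x y = 0 := by
      obtain ⟨w, hw, -⟩ := ha'.expand y hy
      rw [hμ, sum_congr rfl fun η hη => show (ε η : ℂ) * (I η : G → ℂ) x * (η : H → ℂ) y =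
        ∑ i, w i * ((a i (I η) : ℂ) * (I η : G → ℂ) x) by
          have hη' := H22.mem_blockFinset.1 hη
          rw [hw _ hη', mul_sum]
          exact sum_congr rfl fun i _ => by rw [hswap i η hη']; ring, sum_comm]
      exact sum_eq_zero fun i _ => by
        rw [← mul_sum, hreindex fun χ => (a i χ : ℂ) * (χ : G → ℂ) x, ha.reg i x hx, mul_zero]
    have h00 := H20.memRing_of_isIntegral (M := M) isIntegral_zero
    exact ⟨by rw [h0, zero_div]; exact h00, by rw [h0, zero_div]; exact h00, Or.inr h0⟩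
  · -- both regular
    have hcoef : ∀ η (g : H), MemLocalRing M ((ε η : ℂ) * (η : H → ℂ) g) := fun η g =>
      H20.memRing_mul (H20.memRing_intCast _) (H20.memRing_irr η g)
    refine ⟨?_, ?_, Or.inl (by simp [IsPRegular, hx, hy])⟩
    · set J : IrrCharacter G → IrrCharacter H := Function.invFunOn I c with hJ
      have hJI : ∀ η ∈ c, J (I η) = η := fun η hη => hI.2.1.leftInvOn_invFunOn hη
      have e : ∀ g : G, ∑ η ∈ H22.blockFinset c, (ε η : ℂ) * (I η : G → ℂ) g * (η : H → ℂ) y =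
          ∑ χ ∈ H22.blockFinset B, (ε (J χ) : ℂ) * (J χ : H → ℂ) y * (χ : G → ℂ) g := fun g => by
        rw [← hreindex fun χ => (ε (J χ) : ℂ) * (J χ : H → ℂ) y * (χ : G → ℂ) g]
        exact sum_congr rfl fun η hη => by rw [hJI η (H22.mem_blockFinset.1 hη)]; ring
      rw [hμ, e]
      refine div_card_memRing hM (fun χ _ => hcoef _ _) (fun g hg => ?_) hx
      obtain ⟨v, hv, -⟩ := ha.expand g hg
      rw [← e, sum_congr rfl fun η hη => show (ε η : ℂ) * (I η : G → ℂ) g * (η : H → ℂ) y =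
        ∑ i, v i * ((a' i η : ℂ) * (η : H → ℂ) y) by
          have hη' := H22.mem_blockFinset.1 hη
          rw [hv _ (hI.1 hη'), mul_sum, sum_mul]
          exact sum_congr rfl fun i _ => by rw [hswap' i η hη']; ring, sum_comm]
      exact sum_eq_zero fun i _ => by rw [← mul_sum, ha'.reg i y hy, mul_zero]
    · rw [hμ]
      refine div_card_memRing (c := fun η => (ε η : ℂ) * (I η : G → ℂ) x) hM (fun η _ =>
        H20.memRing_mul (H20.memRing_intCast _) (H20.memRing_irr _ _)) (fun g hg => ?_) hy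
      obtain ⟨w, hw, -⟩ := ha'.expand g hg
      rw [sum_congr rfl fun η hη => show (ε η : ℂ) * (I η : G → ℂ) x * (η : H → ℂ) g =
        ∑ i, w i * ((a i (I η) : ℂ) * (I η : G → ℂ) x) by
          have hη' := H22.mem_blockFinset.1 hη
          rw [hw _ hη', mul_sum]
          exact sum_congr rfl fun i _ => by rw [hswap i η hη']; ring, sum_comm]
      exact sum_eq_zero fun i _ => by
        rw [← mul_sum, hreindex fun χ => (a i χ : ℂ) * (χ : G → ℂ) x, ha.reg i x hx, mul_zero]

/-- The perfect isometry. -/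
theorem perfect_isometry {G : Type u} [Group G] [Fintype G] (hM : IsPModular 2 M)
    {B : Set (IrrCharacter G)} (hB : IsPBlock M B) {P : Subgroup G}
    (hPD : IsDefectGroup 2 M B P) (hV : IsKleinFour P)
    {c : Set (IrrCharacter (Subgroup.normalizer (P : Set G)))}
    (hcD : IsDefectGroup 2 M c (P.subgroupOf (Subgroup.normalizer (P : Set G))))
    (hc : IsInducedBlock M (Subgroup.normalizer (P : Set G)) c B) :
    ∃ (I : IrrCharacter (Subgroup.normalizer (P : Set G)) → IrrCharacter G)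
      (ε : IrrCharacter (Subgroup.normalizer (P : Set G)) → ℤ),
      IsPerfectIsometry 2 M c B I ε := by
  classical
  haveI := H20.isPrime_of_modular hM
  haveI : Fact (Nat.Prime 2) := ⟨Nat.prime_two⟩
  haveI := H20.k_charP (p := 2) hM
  haveI := H23.isAlgClosed_k hM.2.1
  haveI := Fintype.ofFinite (Subgroup.normalizer (P : Set G))
  set P' := P.subgroupOf (Subgroup.normalizer (P : Set G)) with hP'
  have hPN : P ≤ (Subgroup.normalizer (P : Set G)) := Subgroup.le_normalizer
  have hV' : IsKleinFour P' :=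
    { card_four := (Nat.card_congr (Subgroup.subgroupOfEquivOfLe hPN).toEquiv).trans hV.card_four
      exponent_two := (Monoid.exponent_eq_of_mulEquiv (Subgroup.subgroupOfEquivOfLe hPN)).trans
        hV.exponent_two }
  obtain ⟨c₁, hc₁⟩ :=
    H19.AbelianNilpotent.exists_root (G := (Subgroup.normalizer (P : Set G))) hM hc.1 hcD (klein_comm hV')
  have hCN : Subgroup.centralizer (P : Set G) ≤ (Subgroup.normalizer (P : Set G)) := Subgroup.centralizer_le_normalizer _
  have hmem : ∀ k : (Subgroup.normalizer (P : Set G)), k ∈ Subgroup.centralizer (P' : Set (Subgroup.normalizer (P : Set G))) ↔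
      (k : G) ∈ Subgroup.centralizer (P : Set G) :=
    fun k => H21.mem_centralizer_subgroupOf hPN k
  obtain ⟨c₀, hc₀, rfl⟩ := exists_pull_eq (M := M) hCN hmem hc₁.1
  have hc₀B := induced_trans hCN hmem hc₀ hc₁ hc
  set T := H23.stab P (H23.eG M (Subgroup.centralizer (P : Set G)) c₀) with hTdef
  have hT : ∀ g : G, g ∈ T ↔ (g ∈ Subgroup.normalizer (P : Set G) ∧
      StabilizesBlock (Subgroup.centralizer (P : Set G)) c₀ g) :=
    fun g => H19.AbelianLocal.mem_stab_iff hc₀ g
  obtain ⟨he13, hk, hl⟩ := main hM hB hPD hV hc₀B hT rfl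
  have hTN : T ≤ (Subgroup.normalizer (P : Set G)) := fun g hg => ((hT g).1 hg).1
  haveI : P'.Normal := Subgroup.normal_subgroupOf_of_le_normalizer le_rfl
  have hT' : ∀ g : (Subgroup.normalizer (P : Set G)), g ∈ T.subgroupOf (Subgroup.normalizer (P : Set G)) ↔ (g ∈ Subgroup.normalizer (P' : Set (Subgroup.normalizer (P : Set G))) ∧
      StabilizesBlock (Subgroup.centralizer (P' : Set (Subgroup.normalizer (P : Set G))))
        (H19.Transport.pull hCN hmem c₀) g) := by
    intro g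
    rw [Subgroup.mem_subgroupOf, hT, H19.Transport.stabilizesBlock_pull_iff hCN hmem,
      Subgroup.normalizer_eq_top (H := P')]
    exact and_congr_left fun _ => iff_of_true g.2 (Subgroup.mem_top _)
  have hrel : (Subgroup.centralizer (P' : Set (Subgroup.normalizer (P : Set G)))).relIndex (T.subgroupOf (Subgroup.normalizer (P : Set G))) =
      (Subgroup.centralizer (P : Set G)).relIndex T := by
    rw [show Subgroup.centralizer (P' : Set (Subgroup.normalizer (P : Set G))) =
      (Subgroup.centralizer (P : Set G)).subgroupOf (Subgroup.normalizer (P : Set G)) from Subgroup.ext fun k => by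
        rw [hmem, Subgroup.mem_subgroupOf], Subgroup.relIndex_subgroupOf hTN]
  obtain ⟨-, hk', hl'⟩ := main hM hc.1 hcD hV' hc₁ hT' hrel
  set e := (Subgroup.centralizer (P : Set G)).relIndex T with he
  have hn : 4 - e = 1 ∨ 4 - e = 3 := by omega
  have hmax := H19.AbelianLocal.isMax_cent hM hB hPD (klein_comm hV) hc₀B
  have hmax' := H19.AbelianLocal.isMax_cent hM hc.1 hcD (klein_comm hV') hc₁
  obtain ⟨a, ha1, ha2, ha3, ha4⟩ := exists_cols hM hB hPD hV hmax hk (n := 4 - e) (by omega)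
  obtain ⟨a', hb1, hb2, hb3, hb4⟩ :=
    exists_cols hM hc.1 hcD hV' hmax' hk' (n := 4 - e) (by omega)
  have ha : ColData M B a := ⟨ha1, ha2, ha3, ha4⟩
  have ha' : ColData M c a' := ⟨hb1, hb2, hb3, hb4⟩
  obtain ⟨I, ε, hI, hε, hmatch⟩ := exists_match ha ha' hk hk' hn
  exact ⟨I, ε, hI, hε, isPerfectFun_of_match hM ha ha' hk' hI hε hmatch⟩

end H20.Klein
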