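import Cfsg.Agent.H20.EqualDegree.Main
import Cfsg.Agent.H23.Nilpotent
import Cfsg.Agent.H23.Lift
import Cfsg.Agent.H21.Reynolds
import Cfsg.Agent.H21.QuotientBlocks
import Cfsg.Agent.H19.NilpotentMain
import Cfsg.Agent.S4964

/-!
# Equal height-zero degrees and nilpotency for a normal defect group
-/

set_option autoImplicit false
set_option linter.style.haveILetI false
set_option linter.unusedSectionVars false

open Cfsg Cfsg.FusionSystem
open scoped MonoidAlgebra

namespace H20.NormNil

universe u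

variable {M : Ideal AlgInt} [hMp : M.IsPrime] {G : Type u} [Group G] [Fintype G]
variable {p : ℕ} [hp : Fact p.Prime] [CharP (H20.k M) p] [IsAlgClosed (H20.k M)]
variable [∀ R : Subgroup G, Fintype R]

/-- The support of a block idempotent of a subgroup is regular. -/
theorem regular_of_isBlk (hM : IsPModular p M) {H : Subgroup G} {f : (H20.k M)[G]}
    (hf : H23.IsBlk H f) {g : G} (hg : f.coeff g ≠ 0) : g ∈ H ∧ ¬ p ∣ orderOf g := by
  obtain ⟨e, he, rfl⟩ := H23.exists_pblock_eq hf
  have hH : g ∈ H := by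
    by_contra h'
    exact hg (H23.supp_eG H e g h')
  refine ⟨hH, ?_⟩
  have := H20.regular_of_coeff_ne_zero hM he (g := (⟨g, hH⟩ : H))
    (by rw [← H23.res_eG, H23.coeff_res]; exact hg)
  rwa [← Subgroup.orderOf_coe] at this

/-- Truncation commutes with factors supported in the centraliser. -/
theorem Br_mul_supp {P : Subgroup G} {a r : (H20.k M)[G]}
    (hr : H23.Supp (Subgroup.centralizer (P : Set G)) r) :
    H23.Br P (a * r) = H23.Br P a * r := by
  classical
  ext g
  by_cases hg : g ∈ Subgroup.centralizer (P : Set G)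
  · rw [H23.coeff_Br_of_mem _ hg, H23.coeff_mul', H23.coeff_mul']
    refine Finset.sum_congr rfl fun u _ => ?_
    by_cases hu : u ∈ Subgroup.centralizer (P : Set G)
    · rw [H23.coeff_Br_of_mem _ hu]
    · rw [H23.coeff_Br_of_notMem _ hu, hr (u⁻¹ * g), mul_zero, zero_mul]
      intro h
      exact hu (by simpa using mul_mem hg (inv_mem h))
  · rw [H23.coeff_Br_of_notMem _ hg, (H23.supp_Br P a).mul hr g hg]

/-- A block of `C` supported on the normal subgroup `K` contains one orbit of blocks of `K`. -/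
theorem exists_centralizer_stab {D R : Subgroup G} [hDn : D.Normal] {r f : (H20.k M)[G]}
    (hr : H23.IsBlk (Subgroup.centralizer (R : Set G)) r)
    (hf : H23.IsBlk (Subgroup.centralizer (D : Set G)) f)
    (hle : Subgroup.centralizer (D : Set G) ≤ Subgroup.centralizer (R : Set G))
    (hrf : f * r = f) {x : G} (hx : H23.cj x r = r) :
    ∃ c ∈ Subgroup.centralizer (R : Set G), c⁻¹ * x ∈ H23.stab D f := by
  classical
  set C := Subgroup.centralizer (R : Set G)
  set K := Subgroup.centralizer (D : Set G) with hK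
  haveI : K.Normal := inferInstance
  have hcjK : ∀ y : G, H23.IsBlk K (H23.cj y f) := fun y => by
    have h := hf.cj y
    rwa [show K.map (MulAut.conj y).toMonoidHom = H23.cjS y K from rfl,
      H23.cjS_eq_self (by rw [Subgroup.normalizer_eq_top (H := K)]; exact Subgroup.mem_top y)] at h
  let S : Finset (H20.k M)[G] := Finset.univ.image fun c : C => H23.cj (c : G) f
  have hS : ∀ v ∈ S, H23.IsBlk K v := fun v hv => by
    obtain ⟨c, -, rfl⟩ := Finset.mem_image.1 hv
    exact hcjK c
  have hmul : ∀ v, H23.IsBlk K v → v * (∑ w ∈ S, w) = if v ∈ S then v else 0 := by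
    intro v hv
    rw [Finset.mul_sum]
    split_ifs with h
    · rw [Finset.sum_eq_single v, hv.cidem.idem]
      · exact fun w hw hne => hv.mul_ne (hS w hw) hne.symm
      · exact fun h' => absurd h h'
    · exact Finset.sum_eq_zero fun w hw => hv.mul_ne (hS w hw) fun he => h (he ▸ hw)
  have hs : H23.CIdem C (∑ w ∈ S, w) := by
    refine ⟨H23.supp_sum S fun w hw => (hS w hw).cidem.supp.mono hle, ?_, ?_⟩
    · refine H23.isFix_iff_cj.2 fun a ha => ?_
      have hmem : ∀ (y : G), y ∈ C → ∀ w ∈ S, H23.cj y w ∈ S := by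
        intro y hy w hw
        obtain ⟨c, -, rfl⟩ := Finset.mem_image.1 hw
        exact Finset.mem_image.2 ⟨(⟨y, hy⟩ : C) * c, Finset.mem_univ _, ((H23.cj_cj y (c : G) f).trans rfl).symm⟩
      rw [map_sum]
      exact Finset.sum_nbij' (i := fun w : (H20.k M)[G] => H23.cj a w)
        (j := fun w : (H20.k M)[G] => H23.cj a⁻¹ w) (hmem a ha) (hmem a⁻¹ (inv_mem ha))
        (fun w _ => H23.cj_inv_cancel a w) (fun w _ => H23.cj_cancel_inv a w) (fun w _ => rfl)
    · rw [Finset.sum_mul]
      refine Finset.sum_congr rfl fun v hv => ?_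
      rw [hmul v (hS v hv), if_pos hv]
  have hfS : f ∈ S := Finset.mem_image.2 ⟨1, Finset.mem_univ _, by simp⟩
  have hrs' : r * (∑ w ∈ S, w) = r := by
    refine (hr.prim _ hs).resolve_left fun h0 => hf.ne_zero ?_
    have h1 := hmul f hf
    rw [if_pos hfS] at h1
    rw [← h1]
    conv_lhs => rw [← hrf]
    rw [mul_assoc, h0, mul_zero]
  have hxr : H23.cj x f * r = H23.cj x f := by
    conv_lhs => rw [← hx, ← map_mul, hrf]
  have h2 := hmul _ (hcjK x)
  by_cases hmem : H23.cj x f ∈ S
  · obtain ⟨c, -, hc⟩ := Finset.mem_image.1 hmem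
    refine ⟨c, c.2, ?_, ?_⟩
    · rw [Subgroup.normalizer_eq_top (H := D)]
      exact Subgroup.mem_top _
    · rw [← H23.cj_cj, ← hc, H23.cj_inv_cancel]
  · rw [if_neg hmem] at h2
    exfalso
    apply (hcjK x).ne_zero
    rw [← hxr, ← hrs', ← mul_assoc, hxr, h2]

/-- If the regular elements stabilising a maximal pair on the normal subgroup `D` centralise it,
then the block is nilpotent. -/
theorem nilpotent_of_stab (hM : IsPModular p M) {B : Set (IrrCharacter G)} (hB : IsPBlock M B)
    {D : Subgroup G} [hDn : D.Normal]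
    {e : Set (IrrCharacter (Subgroup.centralizer (D : Set G)))} (he : IsBrauerPair p M D e)
    (hmax : H23.IsMax p (H23.eB M B) D (H23.eG M (Subgroup.centralizer (D : Set G)) e))
    (h : ∀ x ∈ H23.stab D (H23.eG M (Subgroup.centralizer (D : Set G)) e), IsPRegular p x →
      x ∈ Subgroup.centralizer (D : Set G)) :
    IsNilpotentBlock p M B := by
  classical
  have hm := H23.isMaximalBrauerPair_of hB he hmax
  have hF := H23.pairFS_isBlockFS hm
  rw [H23.isNilpotentBlock_iff_inner hF]
  have hS : IsPGroup p D := hmax.1.1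
  have hsat := H23.isSaturated_block hF
  have hH := H23.hom_eq_pairHom hF
  set F := H23.pairFS (p := p) (H23.isPair_of (M := M) hm.1.1)
  have key : ∀ R : Subgroup G, R ≤ D → centralizerIn D R ≤ R → IsPGroup p (F.autGroup R) := by
    intro R hR hcen
    obtain ⟨r, hr⟩ := H23.exists_le p hmax.1 hR
    rw [H23.autGroup_eq hmax hH hr]
    refine H23.isPGroup_autImg fun x hx _ hreg => ?_
    have hrp := hr.pair_left p hmax.1
    -- regular elements of the centraliser of `R` centralise `D`
    have hcent : ∀ y ∈ Subgroup.centralizer (R : Set G), ¬ p ∣ orderOf y →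
        y ∈ Subgroup.centralizer (D : Set G) := by
      intro y hy hyr
      refine H1.thompson_P_times_Q (p := p) (P := R) (Q := Subgroup.zpowers y) (U := D) hrp.1 ?_
        hS ?_ ?_ ?_ ?_ (Subgroup.mem_zpowers y)
      · rw [Nat.card_zpowers]
        exact (hp.out.coprime_iff_not_dvd.2 hyr).symm
      · exact Subgroup.le_centralizer_iff.1 (Subgroup.zpowers_le.2 hy)
      · rw [Subgroup.normalizer_eq_top (H := D)]
        exact le_top
      · rw [Subgroup.normalizer_eq_top (H := D)]
        exact le_top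
      · exact (hcen.trans (Subgroup.le_centralizer_iff.1 (Subgroup.zpowers_le.2 hy)))
    have hrsupp : H23.Supp (Subgroup.centralizer (D : Set G)) r := by
      intro g hg
      by_contra hne
      obtain ⟨hgR, hgr⟩ := regular_of_isBlk hM hrp.2 hne
      exact hg (hcent g hgR hgr)
    set f₀ := H23.eG M (Subgroup.centralizer (D : Set G)) e
    have hrf : f₀ * r = f₀ := by
      have h1 : ∀ b : Subgroup G × (H20.k M)[G], H23.Le p (R, r) b → b.1 ≤ D → b.2 * r = b.2 := by
        intro b hb
        induction hb with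
        | refl => exact fun _ => hrp.2.cidem.idem
        | tail hac hcb ih =>
          rename_i b' c'
          intro hbD
          have h2 := ih (hcb.le.trans hbD)
          calc c'.2 * r = c'.2 * H23.Br c'.1 b'.2 * r := by rw [hcb.mul]
            _ = c'.2 * H23.Br c'.1 (b'.2 * r) := by
                rw [mul_assoc, Br_mul_supp (hrsupp.mono (Subgroup.centralizer_le hbD))]
            _ = c'.2 := by rw [h2, hcb.mul]
      exact h1 (D, f₀) hr le_rfl
    obtain ⟨c, hc, hct⟩ := exists_centralizer_stab hrp.2 hmax.1.2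
      (Subgroup.centralizer_le hR) hrf hx.2
    set t := c⁻¹ * x with ht
    have hq : H20.qPart p t ∈ Subgroup.centralizer (D : Set G) :=
      h _ ((Subgroup.zpowers_le.2 hct) (H20.mem_zpowers_qPart t)) (H20.not_dvd_orderOf_qPart t)
    obtain ⟨j, hj⟩ := H20.exists_orderOf_pPart (p := p) t
    refine H23.mem_centralizer_of_conj_eq hx.1 hreg (u := H20.pPart p t) (n := j)
      (hj ▸ pow_orderOf_eq_one _) fun y => ?_
    set u := H20.pPart p t
    set q := H20.qPart p t
    have hxe : x = c * (u * q) := by rw [H20.pPart_mul_qPart, ht, mul_inv_cancel_left]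
    have hqy : q * (y : G) * q⁻¹ = y := by
      rw [← Subgroup.mem_centralizer_iff.1 hq y (hR y.2), mul_inv_cancel_right]
    have hz : x * (y : G) * x⁻¹ ∈ R := (Subgroup.mem_normalizer_iff.1 hx.1 y).1 y.2
    have hcz := Subgroup.mem_centralizer_iff.1 hc _ hz
    calc x * (y : G) * x⁻¹ = c⁻¹ * (x * (y : G) * x⁻¹ * c) := by rw [hcz, inv_mul_cancel_left]
      _ = u * (q * y * q⁻¹) * u⁻¹ := by rw [hxe]; group
      _ = u * (y : G) * u⁻¹ := by rw [hqy]
  have heq : F = Cfsg.innerFusionSystem D := by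
    refine H85.fusionSystem_le_antisymm (H85.le_of_essential hS hsat _ ?_) ?_
    · rintro P (rfl | hP)
      · have h1 := (H85.isFullyAutomized_iff hS).1
          (H85.fullyAutomized_of_fullyNormalized hS hsat (H85.fullyNormalized_top F))
        rw [h1.2 _ le_rfl (key P le_rfl inf_le_left) (H85.autInducedBy_le_autGroup F le_rfl)]
        exact H85.autInducedBy_le_autGroup _ le_rfl
      · exact absurd hP (H85.not_isEssential_of_isPGroup
          (key P hP.1.1 (hP.1.2 P (H85.isConj_refl F hP.1.1))))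
    · intro P φ hφ
      obtain ⟨hP, g, hg, hgx⟩ := hφ
      exact H85.hom_congr (F.conj_mem hP hg) fun x => (hgx x).symm
  intro Q
  rw [heq]

/-! ### The quotient by the derived subgroup of `D` -/

/-- The projection commutes with conjugation. -/
theorem qMap_cj (N : Subgroup G) [N.Normal] (x : G) (a : (H20.k M)[G]) :
    H21.qMap N (H20.k M) (H23.cj x a) = H23.cj (x : G ⧸ N) (H21.qMap N (H20.k M) a) := by
  haveI : Fintype (G ⧸ N) := Fintype.ofFinite _
  classical
  ext q
  rw [H23.coeff_cj, H21.coeff_qMap, H21.coeff_qMap]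
  refine Fintype.sum_equiv (MulAut.conj x⁻¹).toEquiv _ _ fun g => ?_
  simp only [MulEquiv.toEquiv_eq_coe, EquivLike.coe_coe, MulAut.conj_apply, H23.coeff_cj]
  refine if_congr ?_ (by rw [inv_inv]) rfl
  rw [inv_inv, QuotientGroup.mk_mul, QuotientGroup.mk_mul, QuotientGroup.mk_inv]
  constructor
  · rintro rfl
    rfl
  · intro h
    simpa [mul_assoc] using congrArg (fun z => (x : G ⧸ N) * z * (x : G ⧸ N)⁻¹) h

/-- Regular elements centralising `D` are determined by their images. -/
theorem eq_of_mk_eq {D N : Subgroup G} [N.Normal] (hD : IsPGroup p D) (hND : N ≤ D) {g g' : G}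
    (h : (g : G ⧸ N) = (g' : G ⧸ N)) (hg : ¬ p ∣ orderOf g) (hg' : ¬ p ∣ orderOf g')
    (hgC : g ∈ Subgroup.centralizer (D : Set G)) : g = g' := by
  have hn : g⁻¹ * g' ∈ D := hND (QuotientGroup.eq.1 h)
  have hcomm : Commute (g⁻¹ * g') g := hgC _ hn
  obtain ⟨k, hk⟩ := IsPGroup.iff_orderOf.1 hD ⟨g⁻¹ * g', hn⟩
  rw [Subgroup.orderOf_mk] at hk
  have hprod : (g⁻¹ * g') * g = g' := by rw [hcomm.eq, mul_inv_cancel_left]
  have h1 := (H20.isPPart_unique' hprod hcomm ⟨k, hk⟩ hg).1
  rw [H20.pPart_eq_one_iff.2 hg'] at h1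
  exact inv_mul_eq_one.1 h1

/-- The coefficients of an element supported on regular elements centralising `D`. -/
theorem coeff_qMap_regular {D N : Subgroup G} [N.Normal] (hD : IsPGroup p D) (hND : N ≤ D)
    {a : (H20.k M)[G]}
    (ha : ∀ g, a.coeff g ≠ 0 → g ∈ Subgroup.centralizer (D : Set G) ∧ ¬ p ∣ orderOf g)
    {g : G} (hgC : g ∈ Subgroup.centralizer (D : Set G)) (hg : ¬ p ∣ orderOf g) :
    (H21.qMap N (H20.k M) a).coeff (g : G ⧸ N) = a.coeff g := by
  haveI : Fintype (G ⧸ N) := Fintype.ofFinite _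
  classical
  rw [H21.coeff_qMap, Finset.sum_eq_single g, if_pos rfl]
  · intro g' _ hne
    split_ifs with h
    · by_contra h'
      exact hne (eq_of_mk_eq hD hND h.symm hg (ha g' h').2 hgC).symm
    · rfl
  · simp

/-- A regular element of the quotient has a regular preimage. -/
theorem exists_regular_preimage (N : Subgroup G) [N.Normal] {q : G ⧸ N} (hq : ¬ p ∣ orderOf q) :
    ∃ g : G, (g : G ⧸ N) = q ∧ ¬ p ∣ orderOf g := by
  obtain ⟨x, rfl⟩ := QuotientGroup.mk_surjective q
  refine ⟨H20.qPart p x, ?_, H20.not_dvd_orderOf_qPart x⟩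
  set π := QuotientGroup.mk' N
  have h1 : π (H20.pPart p x) * π (H20.qPart p x) = π x := by rw [← map_mul, H20.pPart_mul_qPart]
  have h2 := H21.pPart_map (p := p) π x
  change ¬ p ∣ orderOf (π x) at hq
  rw [H20.pPart_eq_one_iff.2 hq] at h2
  rw [← h2, one_mul] at h1
  exact h1

/-- A maximal pair is the property of lying in the block, on a defect group. -/
theorem isMax_of_defect (hM : IsPModular p M) {B : Set (IrrCharacter G)} (hB : IsPBlock M B)
    {D : Subgroup G} (hD : IsDefectGroup p M B D) {f : (H20.k M)[G]} (hf : H23.IsPair p D f)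
    (hin : H23.InBlk (H23.eB M B) D f) : H23.IsMax p (H23.eB M B) D f := by
  refine ⟨hf, hin, fun R g hR hgR hle => ?_⟩
  obtain ⟨f', hf'⟩ := H23.exists_maxPair_defect (p := p) hB hM hD
  obtain ⟨y, hy⟩ := H23.exists_conj_le p (H23.isBlk_eB hB) hf' hR hgR
  refine (Subgroup.eq_of_le_of_card_ge (hle.le p) ?_).symm
  rw [← H23.card_cjS y R]
  exact Subgroup.card_le_of_le (hy.le p)

/-- With equal height-zero degrees the regular stabiliser of the maximal pair centralises. -/
theorem stab_le_of_equal_height_zero (hM : IsPModular p M) {B : Set (IrrCharacter G)}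
    (hB : IsPBlock M B) {D : Subgroup G} [hDn : D.Normal] (hD : IsDefectGroup p M B D)
    {f₀ : (H20.k M)[G]} (hmax : H23.IsMax p (H23.eB M B) D f₀) {d : ℕ}
    (hdeg : ∀ χ ∈ B, blockHeight p B (χ : G → ℂ) = 0 → charDegree (χ : G → ℂ) = d)
    {t : G} (ht : t ∈ H23.stab D f₀) (htr : ¬ p ∣ orderOf t) :
    t ∈ Subgroup.centralizer (D : Set G) := by
  classical
  set N := ⁅D, D⁆ with hN
  have hDp : IsPGroup p D := hmax.1.1
  have hND : N ≤ D := Subgroup.commutator_le_left D D
  have hNp : IsPGroup p N := hDp.to_le hND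
  haveI : Fintype (G ⧸ N) := Fintype.ofFinite _
  haveI : ∀ R : Subgroup (G ⧸ N), Fintype R := fun R => Fintype.ofFinite R
  set π := QuotientGroup.mk' N with hπ
  have hπs : Function.Surjective π := QuotientGroup.mk'_surjective N
  set Db : Subgroup (G ⧸ N) := D.map π with hDb
  haveI : Db.Normal := Subgroup.Normal.map inferInstance π hπs
  -- the block of the quotient
  obtain ⟨Bb, hBb, hsub, hdef⟩ := H21.exists_quotient_block N hM hNp hB
  have hDbd : IsDefectGroup p M Bb Db := (hdef Db).2 ⟨D, hD, rfl⟩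
  obtain ⟨hsame, -⟩ := Cfsg.Agent.S4964.result p M hM D hDp
  have hU : {χ : IrrCharacter (G ⧸ N) | H21.inflate N χ ∈ B} = Bb := by
    refine Set.Subset.antisymm (fun φ hφ => ?_) hsub
    obtain ⟨χ, hχ⟩ := H20.block_nonempty hBb
    refine (H20.mem_block_iff hBb hχ φ).2 ((hsame χ φ).2 ?_)
    exact H20.sameBlock_of_mem hB (hsub χ hχ) hφ
  have hqE : H21.qMap N (H20.k M) (H23.eB M B) = H23.eB M Bb := by
    have h := (H21.qMap_eRed N hB).2
    rwa [hU] at h
  have hab : ∀ a ∈ Db, ∀ c ∈ Db, a * c = c * a := by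
    rintro _ ⟨a, ha, rfl⟩ _ ⟨c, hc, rfl⟩
    rw [← commutatorElement_eq_one_iff_mul_comm, ← map_commutatorElement, hπ,
      QuotientGroup.mk'_apply, QuotientGroup.eq_one_iff]
    exact Subgroup.commutator_mem_commutator ha hc
  -- equal degrees in the quotient
  have hexp : H22.blockExp p Bb = H22.blockExp p B := by
    obtain ⟨χ, hχ⟩ := H20.block_nonempty hBb
    have h1 := H22.blockDefect_add_blockExp (p := p) hχ
    have h2 := H22.blockDefect_add_blockExp (p := p) (hsub χ hχ)
    have c1 := H22.card_isDefectGroup hM hBb hDbd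
    have c2 := H22.card_isDefectGroup hM hB hD
    obtain ⟨j, hj⟩ := IsPGroup.iff_card.1 hNp
    have e1 : Nat.card D = Nat.card N * Nat.card Db := by
      refine Nat.eq_of_mul_eq_mul_right (Nat.pos_of_ne_zero D.index_ne_zero_of_finite) ?_
      rw [Subgroup.card_mul_index, ← N.card_mul_index, Subgroup.index_eq_card,
        ← Db.card_mul_index, hDb, D.index_map_eq hπs (by rw [QuotientGroup.ker_mk']; exact hND),
        mul_assoc]
    rw [c1, c2, hj, ← pow_add] at e1
    have e1 := Nat.pow_right_injective hp.out.two_le e1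
    have e2 : (Nat.card G).factorization p = j + (Nat.card (G ⧸ N)).factorization p := by
      rw [← N.card_mul_index, Subgroup.index_eq_card, Nat.factorization_mul Nat.card_pos.ne'
        Nat.card_pos.ne', hj, Finsupp.add_apply, hp.out.factorization_pow, Finsupp.single_eq_same]
    omega
  have hdegb : ∀ χ ∈ Bb, charDegree (χ : G ⧸ N → ℂ) = d := by
    intro χ hχ
    have h0 := H21.height_eq_zero_of_abelian hM hBb hDbd hab hχ
    have h4 := H22.blockHeight_add_blockExp (p := p) hχ
    have h5 := H22.blockHeight_add_blockExp (p := p) (hsub χ hχ)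
    have h6 : charDegree (H21.inflate N χ : G → ℂ) = charDegree (χ : G ⧸ N → ℂ) := by
      simp only [charDegree, H21.inflate_apply, QuotientGroup.mk_one]
    rw [← h6] at h4 ⊢
    exact hdeg _ (hsub χ hχ) (by omega)
  -- the block of the preimage of the centraliser
  set Cb : Subgroup (G ⧸ N) := Subgroup.centralizer (Db : Set (G ⧸ N)) with hCb
  set K : Subgroup G := Cb.comap π with hK
  haveI : K.Normal := Subgroup.Normal.comap inferInstance π
  have hCK : Subgroup.centralizer (D : Set G) ≤ K := by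
    intro g hg
    rintro _ ⟨a, ha, rfl⟩
    rw [← map_mul, ← map_mul, hg a ha]
  have hKreg : ∀ g ∈ K, ¬ p ∣ orderOf g → g ∈ Subgroup.centralizer (D : Set G) := by
    intro g hg hr
    refine Cfsg.Agent.S4964.mem_centralizer_of_commutator hDp hr fun a ha => ?_
    rw [← hN, ← QuotientGroup.eq_one_iff]
    show π (g * a * g⁻¹ * a⁻¹) = 1
    simp only [map_mul, map_inv]
    rw [← hg (π a) (Subgroup.mem_map_of_mem π ha), mul_inv_cancel_right, mul_inv_cancel]
  have hKcj : ∀ y : G, H23.cjS y K = K := fun y =>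
    H23.cjS_eq_self (by rw [Subgroup.normalizer_eq_top (H := K)]; exact Subgroup.mem_top y)
  obtain ⟨b, hb, hbfix, hfb⟩ :=
    H23.exists_stable_block p hDp (fun x _ => hKcj x) hCK hmax.1.2
  have hsupp : ∀ g, b.coeff g ≠ 0 → g ∈ Subgroup.centralizer (D : Set G) ∧ ¬ p ∣ orderOf g :=
    fun g hg => ⟨hKreg g (regular_of_isBlk hM hb hg).1 (regular_of_isBlk hM hb hg).2,
      (regular_of_isBlk hM hb hg).2⟩
  -- it is fixed by the stabiliser
  have htb : H23.cj t b = b := by
    have h1 := hb.cj t
    rw [show K.map (MulAut.conj t).toMonoidHom = H23.cjS t K from rfl, hKcj t] at h1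
    have h2 : H23.IsFix D (H23.cj t b) := by
      have h := hbfix.cj t
      rwa [show D.map (MulAut.conj t).toMonoidHom = H23.cjS t D from rfl,
        H23.cjS_eq_self ht.1] at h
    refine H23.stable_block_unique p hDp hmax.1.2 h1 hb h2 hbfix ?_ hfb
    rw [show H23.Br D (H23.cj t b) = H23.cj t (H23.Br D b) by
      rw [H23.Br_cj, H23.cjS_eq_self ht.1]]
    conv_lhs => rw [← ht.2, ← map_mul, hfb]
    exact ht.2
  -- it lies in the block
  have hBD : H23.Br D (H23.eB M B) = H23.eB M B :=
    H23.Br_eq_self (H23.supp_eB_of_normal hM hDp hB)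
  have hbD : H23.Br D b = b := H23.Br_eq_self fun g hg => by
    by_contra h
    exact hg (hsupp g h).1
  rw [hbD] at hfb
  have hbE : b * H23.eB M B = b := by
    refine (hb.prim _ ⟨(H23.supp_eB_of_normal hM hDp hB).mono hCK,
      (H23.cidem_eB hB).fix.mono le_top, (H23.cidem_eB hB).idem⟩).resolve_left fun h0 => ?_
    have h : f₀ * H23.Br D (H23.eB M B) = f₀ := hmax.2.1
    rw [hBD] at h
    apply hmax.1.2.ne_zero
    calc f₀ = f₀ * b * H23.eB M B := by rw [hfb, h]
      _ = 0 := by rw [mul_assoc, h0, mul_zero]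
  -- its image is a block of the centraliser
  set bb := H21.qMap N (H20.k M) b with hbb
  have hbbc : H23.CIdem Cb bb := by
    refine ⟨?_, ?_, by rw [hbb, ← map_mul, hb.cidem.idem]⟩
    · intro q hq
      rw [hbb, H21.coeff_qMap]
      refine Finset.sum_eq_zero fun g _ => ?_
      split_ifs with h
      · by_contra h'
        exact hq (h ▸ hCK (hsupp g h').1)
      · rfl
    · refine H23.isFix_iff_cj.2 fun q hq => ?_
      obtain ⟨x, rfl⟩ := hπs q
      rw [hbb, hπ, QuotientGroup.mk'_apply, ← qMap_cj, H23.isFix_iff_cj.1 hb.cidem.fix x hq]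
  have hbb0 : bb ≠ 0 := fun h0 => by
    obtain ⟨g, hg⟩ := H23.exists_coeff_ne_zero hb.ne_zero
    apply hg
    rw [← coeff_qMap_regular hDp hND hsupp (hsupp g hg).1 (hsupp g hg).2, ← hbb, h0]
    simp
  obtain ⟨fb, hfbb, hfbe⟩ := hbbc.exists_blk_le hbb0
  have heq : bb = fb := by
    obtain ⟨a, hac⟩ : ∃ a : (H20.k M)[G],
        ∀ g, a.coeff g = if p ∣ orderOf g then 0 else fb.coeff (g : G ⧸ N) :=
      ⟨H20.ofFun fun g => if p ∣ orderOf g then 0 else fb.coeff (g : G ⧸ N),
        fun g => by rw [H20.coeff_ofFun]⟩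
    have has : ∀ g, a.coeff g ≠ 0 → g ∈ Subgroup.centralizer (D : Set G) ∧ ¬ p ∣ orderOf g := by
      intro g hg
      rw [hac] at hg
      split_ifs at hg with h
      · exact absurd rfl hg
      · exact ⟨hKreg g (regular_of_isBlk hM hfbb hg).1 h, h⟩
    have hqa : H21.qMap N (H20.k M) a = fb := by
      ext q
      by_cases hq : q ∈ Cb ∧ ¬ p ∣ orderOf q
      · obtain ⟨g, rfl, hg⟩ := exists_regular_preimage N hq.2
        rw [coeff_qMap_regular hDp hND has (hKreg g hq.1 hg) hg, hac, if_neg hg]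
      · rw [H21.coeff_qMap]
        refine Eq.trans (Finset.sum_eq_zero fun g _ => ?_) ?_
        · split_ifs with h
          · by_contra h'
            refine hq ⟨h ▸ hCK (has g h').1, fun hd => (has g h').2 ?_⟩
            subst h
            exact hd.trans (orderOf_map_dvd π g)
          · rfl
        · by_contra h'
          exact hq (regular_of_isBlk hM hfbb (Ne.symm h'))
    have hasupp : H23.Supp K a := fun g hg => by
      by_contra h
      exact hg (hCK (has g h).1)
    have hafix : H23.IsFix K a := by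
      intro x hx g
      rw [hac, hac, H22.orderOf_conj_eq, QuotientGroup.mk_mul, QuotientGroup.mk_mul,
        QuotientGroup.mk_inv]
      split_ifs
      · rfl
      · exact hfbb.cidem.fix (x : G ⧸ N) hx _
    have hnil : ¬ IsNilpotent (b * a) := by
      intro h
      have h2 := h.map (H21.qMap N (H20.k M))
      rw [map_mul, hqa, ← hbb, H23.CIdem.comm hbbc.fix hbbc.supp hfbb.cidem.supp, hfbe] at h2
      obtain ⟨n, hn⟩ := h2
      apply hfbb.ne_zero
      rw [← (show IsIdempotentElem fb from hfbb.cidem.idem).pow_succ_eq n, pow_succ, hn, zero_mul]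
    obtain ⟨y, -, -, hy⟩ := hb.exists_mul_eq hasupp hafix hnil
    have h3 := congrArg (H21.qMap N (H20.k M)) hy
    rw [map_mul, hqa, ← hbb] at h3
    rw [← hfbe, ← h3, ← mul_assoc, hfbb.cidem.idem]
  -- a maximal pair of the quotient block, and its stabiliser
  have hmaxb : H23.IsMax p (H23.eB M Bb) Db bb := by
    refine isMax_of_defect hM hBb hDbd ⟨hDp.map π, heq ▸ hfbb⟩ ?_
    unfold H23.InBlk
    rw [H23.Br_eq_self (H23.supp_eB_of_normal hM (hDp.map π) hBb), ← hqE, hbb, ← map_mul, hbE]
  have hst : (t : G ⧸ N) ∈ H23.stab Db bb := by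
    refine ⟨by rw [Subgroup.normalizer_eq_top (H := Db)]; exact Subgroup.mem_top _, ?_⟩
    rw [hbb, ← qMap_cj, htb]
  exact hKreg t (EqDeg.stab_le_of_equal hM hBb hab hmaxb hdegb hst) htr

/-- For a normal defect group, equal height-zero degrees mean nilpotency. -/
theorem equal_height_zero_iff_nilpotent (hM : IsPModular p M) {B : Set (IrrCharacter G)}
    (hB : IsPBlock M B) {D : Subgroup G} [hDn : D.Normal] (hD : IsDefectGroup p M B D) :
    (∃ d : ℕ, ∀ χ ∈ B, blockHeight p B (χ : G → ℂ) = 0 → charDegree (χ : G → ℂ) = d) ↔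
      IsNilpotentBlock p M B := by
  classical
  obtain ⟨f₀, hmax⟩ := H23.exists_maxPair_defect (p := p) hB hM hD
  obtain ⟨e, he, rfl⟩ := H23.exists_of_isPair hmax.1
  refine ⟨fun ⟨d, hd⟩ => nilpotent_of_stab hM hB he hmax fun x hx hr =>
    stab_le_of_equal_height_zero hM hB hD hmax hd hx hr, fun hnil => ?_⟩
  obtain ⟨χ₀, hχ₀, h0, Ψ, -, hmem, hsurj, hΨ⟩ := H19.NilpotentMain.exists_param hM hnil hD
  refine ⟨charDegree (χ₀ : G → ℂ), fun χ hχ hh => ?_⟩
  obtain ⟨η, rfl⟩ := hsurj χ hχ
  obtain ⟨m, hm, hm0, hdeg, -⟩ := hΨ η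
  obtain ⟨k, hk⟩ := IsPGroup.iff_card.1 hmax.1.1
  obtain ⟨i, -, hi⟩ := (Nat.dvd_prime_pow hp.out).1 (hk ▸ H22.charDegree_dvd_card η)
  have h4 := H22.blockHeight_add_blockExp (p := p) hχ
  have h5 := H22.blockHeight_add_blockExp (p := p) hχ₀
  rw [hdeg, Nat.factorization_mul hm0.ne' (H22.charDegree_pos χ₀).ne', Finsupp.add_apply] at h4
  have hm1 : m.factorization p = 0 := by omega
  rw [hm, hi, hp.out.factorization_pow, Finsupp.single_eq_same] at hm1
  rw [hdeg, hm, hi, hm1, pow_zero, one_mul]

end H20.NormNil
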