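import Cfsg.Agent.H20.PrincipalFreeThree

/-!
# Degrees of the principal block for a free action of order three
-/

set_option autoImplicit false
set_option linter.style.haveILetI false
set_option linter.unusedSectionVars false

open Cfsg MonoidAlgebra
open scoped ComplexConjugate

namespace H20

universe u

/-- The signs in two linear and one quadratic relation. -/
theorem two_minus_of_relations (ε x A : Fin 3 → ℤ) (hε : ∀ i, ε i = 1 ∨ ε i = -1)
    (hx : ∀ i, 0 < x i) (hA : ∀ i, A i ≠ 0)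
    (h1 : 1 + ε 0 * x 0 + ε 1 * x 1 + ε 2 * x 2 = 0)
    (h2 : ε 0 * A 0 + ε 1 * A 1 + ε 2 * A 2 = 0)
    (h3 : ε 0 * A 0 ^ 2 * (x 1 * x 2) + ε 1 * A 1 ^ 2 * (x 0 * x 2) +
      ε 2 * A 2 ^ 2 * (x 0 * x 1) = 0) :
    (if ε 0 = -1 then 1 else 0) + (if ε 1 = -1 then 1 else 0) + (if ε 2 = -1 then 1 else 0) = (2 : ℕ) ∧
      IsSquare (x 0 * x 1 * x 2) := by
  have sq : ∀ a q : ℤ, a ≠ 0 → a ^ 2 * (x 0 * x 1 * x 2) = q ^ 2 → IsSquare (x 0 * x 1 * x 2) := by
    intro a q ha h
    obtain ⟨r, rfl⟩ := (Int.pow_dvd_pow_iff (by norm_num : 2 ≠ 0)).1 (Dvd.intro _ h)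
    refine ⟨r, mul_left_cancel₀ (pow_ne_zero 2 ha) ?_⟩
    rw [h]; ring
  have one : ∀ a b c A B C : ℤ, 0 < a → 0 < b → 0 < c → B ≠ 0 → a = 1 + b + c → A = B + C →
      A ^ 2 * (b * c) = B ^ 2 * (a * c) + C ^ 2 * (a * b) → False := by
    intro a b c A B C ha hb hc hB h1 h2 h3
    subst h1 h2
    have e : (B * c - C * b) ^ 2 + B ^ 2 * c + C ^ 2 * b = 0 := by linear_combination -h3
    have : 0 < B ^ 2 * c := mul_pos (by positivity) hc
    nlinarith [sq_nonneg (B * c - C * b), mul_nonneg (sq_nonneg C) hb.le]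
  have two : ∀ a b c A B C : ℤ, a + 1 = b + c → A = B + C → a ≠ 0 →
      A ^ 2 * (b * c) = B ^ 2 * (a * c) + C ^ 2 * (a * b) →
      A ^ 2 * (a * b * c) = (a * (B * c - C * b)) ^ 2 := by
    intro a b c A B C h1 h2 ha h3
    have h1' : b = a + 1 - c := by omega
    subst h1' h2
    have e : (B * c - C * (a + 1 - c)) ^ 2 = B ^ 2 * c + C ^ 2 * (a + 1 - c) := by
      linear_combination -h3
    linear_combination a * h3 - a ^ 2 * e
  have p0 := hx 0
  have p1 := hx 1
  have p2 := hx 2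
  rcases hε 0 with e0 | e0 <;> rcases hε 1 with e1 | e1 <;> rcases hε 2 with e2 | e2 <;>
    rw [e0, e1, e2] at h1 h2 h3 ⊢
  · omega
  · exact absurd (one (x 2) (x 0) (x 1) (A 2) (A 0) (A 1) p2 p0 p1 (hA 0) (by linarith) (by linarith)
      (by linear_combination -h3)) id
  · exact absurd (one (x 1) (x 0) (x 2) (A 1) (A 0) (A 2) p1 p0 p2 (hA 0) (by linarith) (by linarith)
      (by linear_combination -h3)) id
  · refine ⟨by simp, sq (A 0) _ (hA 0) (two (x 0) (x 1) (x 2) (A 0) (A 1) (A 2) (by linarith)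
      (by linarith) p0.ne' (by linear_combination h3))⟩
  · exact absurd (one (x 0) (x 1) (x 2) (A 0) (A 1) (A 2) p0 p1 p2 (hA 1) (by linarith) (by linarith)
      (by linear_combination -h3)) id
  · refine ⟨by simp, sq (A 1) ((x 1) * (A 0 * x 2 - A 2 * x 0)) (hA 1) ?_⟩
    linear_combination two (x 1) (x 0) (x 2) (A 1) (A 0) (A 2) (by linarith)
      (by linarith) p1.ne' (by linear_combination h3)
  · refine ⟨by simp, sq (A 2) ((x 2) * (A 0 * x 1 - A 1 * x 0)) (hA 2) ?_⟩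
    linear_combination two (x 2) (x 0) (x 1) (A 2) (A 0) (A 1) (by linarith)
      (by linarith) p2.ne' (by linear_combination h3)
  · omega

variable {G : Type u} [Group G] [Fintype G] {p : ℕ} {M : Ideal AlgInt} [hMp : M.IsPrime]
  [hp : Fact p.Prime] {P : Sylow p G} [Fintype (P : Subgroup G)]

theorem apply_ne_degree_of_closure {t : G} (hgen : ∀ K : Subgroup G, K.Normal → t ∈ K → K = ⊤)
    {χ : IrrCharacter G} (hne : χ ≠ H12.oneIrr G) : (χ : G → ℂ) t ≠ (χ : G → ℂ) 1 := by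
  intro h
  have hχ := H12.isCharacter_irr χ
  have htop := hgen _ (H12.charKer_normal hχ) ((H12.mem_charKer hχ).2 h)
  have hconst : (χ : G → ℂ) = (χ : G → ℂ) 1 • (H12.oneIrr G : G → ℂ) := funext fun x => by
    rw [Pi.smul_apply, H12.oneIrr_apply, smul_eq_mul, mul_one]
    exact (H12.mem_charKer hχ).1 (htop ▸ Subgroup.mem_top x)
  have h1 : classInner (χ : G → ℂ) (H12.oneIrr G : G → ℂ) = (χ : G → ℂ) 1 := by
    conv_lhs => rw [hconst]
    rw [H12.classInner_smul_left, H12.classInner_irr_self, mul_one]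
  rw [H12.classInner_irr_ne hne] at h1
  exact H12.irr_apply_one_ne_zero χ h1.symm

/-- The signs and degrees when an involution lies in no proper normal subgroup. -/
theorem FreeData.involution_relations (h : FreeSylow P) (hM : IsPModular p M) (hp2 : p ≠ 2)
    (he : Nat.card (autG (P : Subgroup G)) = 3) (h4 : 3 + 1 < Nat.card (P : Subgroup G))
    (D : FreeData M (P : Subgroup G)) (hD0 : ∀ η ∈ D.Y, D.b η = 0) {c₂ c₃ : IrrCharacter G}
    (hc : c₂ ≠ c₃) (hX : (principalBlock M G \ D.Y).toFinite.toFinset.erase (H12.oneIrr G) = {c₂, c₃})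
    (hb : ∀ χ ∈ principalBlock M G \ D.Y, D.b χ = 1 ∨ D.b χ = -1) {t : G} (ht : orderOf t = 2)
    (hgen : ∀ K : Subgroup G, K.Normal → t ∈ K → K = ⊤) {η : IrrCharacter G} (hη : η ∈ D.Y) :
    (if -D.b c₂ = -1 then 1 else 0) + (if -D.b c₃ = -1 then 1 else 0) +
      (if D.δ = 1 then 1 else 0) = (2 : ℕ) ∧
      IsSquare (charDegree (η : G → ℂ) * (charDegree (c₂ : G → ℂ) * charDegree (c₃ : G → ℂ))) := by
  classical
  haveI : Fintype (autG (P : Subgroup G)) := Fintype.ofFinite _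
  haveI : Finite ((P : Subgroup G) →* ℂˣ) := finite_dual
  haveI : Fintype ((P : Subgroup G) →* ℂˣ) := Fintype.ofFinite _
  have hA : ∀ a b : (P : Subgroup G), a * b = b * a := fun a b => Subtype.ext (h.comm a a.2 b b.2)
  set X := (principalBlock M G \ D.Y).toFinite.toFinset with hXdef
  have hr : Nat.card (autG (P : Subgroup G)) + 1 < Nat.card (P : Subgroup G) := by omega
  have hone : H12.oneIrr G ∈ X :=
    (Set.Finite.mem_toFinset _).2 ⟨mem_blockOf_self (H12.oneIrr G), D.oneIrr_notMem h hr⟩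
  have hc2 : c₂ ∈ X.erase (H12.oneIrr G) := hX ▸ Finset.mem_insert_self c₂ {c₃}
  have hc3 : c₃ ∈ X.erase (H12.oneIrr G) := hX ▸ Finset.mem_insert_of_mem (Finset.mem_singleton_self c₃)
  have hsumX : ∀ f : IrrCharacter G → ℂ,
      ∑ χ ∈ X, f χ = f (H12.oneIrr G) + (f c₂ + f c₃) := fun f => by
    rw [← Finset.add_sum_erase X f hone, hX, Finset.sum_pair hc]
  obtain ⟨T₂, hT₂, -⟩ := irr_involution c₂ ht
  obtain ⟨T₃, hT₃, -⟩ := irr_involution c₃ ht
  obtain ⟨S, hS, -⟩ := irr_involution η ht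
  have htreg : ¬ p ∣ orderOf t := by
    rw [ht]; exact fun hd => hp2 ((Nat.prime_dvd_prime_iff_eq hp.out Nat.prime_two).1 hd)
  have hr1 := D.regular_relation hM hη (g := (1 : G)) (by simp [hp.out.ne_one])
  have hr2 := D.regular_relation hM hη htreg
  rw [finsum_mem_eq_finite_toFinset_sum _ (Set.toFinite _), hsumX, D.b_oneIrr h hr, hD0 η hη,
    H12.oneIrr_apply] at hr1 hr2
  -- the quadratic relation
  obtain ⟨u, hu⟩ : ∃ u : (P : Subgroup G), u ≠ 1 := by
    haveI : Nontrivial (P : Subgroup G) := Finite.one_lt_card_iff_nontrivial.1 (by omega)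
    exact exists_ne _
  have hup : ∃ k : ℕ, orderOf (u : G) = p ^ k := FreeSylow.orderOf_eq_pow u.2
  have hmult : ∀ c : Subgroup.centralizer ({(u : G)} : Set G), ¬ p ∣ orderOf c →
      H24.classMult t t ((u : G) * c) = 0 := by
    intro c hc'
    rw [H24.classMult, Nat.card_eq_zero]
    refine Or.inl ⟨fun ⟨⟨a, b⟩, hta, htb, hab⟩ => ?_⟩
    change a * b = (u : G) * c at hab
    have hsq : ∀ {g : G}, IsConj t g → g * g = 1 := by
      intro g hg
      obtain ⟨x, rfl⟩ := isConj_iff.1 hg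
      have htt : t * t = 1 := by
        have := pow_orderOf_eq_one t
        rwa [ht, pow_two] at this
      rw [show x * t * x⁻¹ * (x * t * x⁻¹) = x * (t * t) * x⁻¹ by group, htt, mul_one,
        mul_inv_cancel]
    have hainv : a⁻¹ = a := inv_eq_of_mul_eq_one_right (hsq hta)
    have hbinv : b⁻¹ = b := inv_eq_of_mul_eq_one_right (hsq htb)
    have hconjw : a * ((u : G) * c) * a⁻¹ = ((u : G) * c)⁻¹ := by
      rw [← hab, mul_inv_rev, hbinv, hainv, ← mul_assoc, hsq hta, one_mul]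
    have hpart := congrArg (pPart p) hconjw
    rw [pPart_conj, pPart_inv, centralizer_le_of_pPart (u : G) c hup hc'] at hpart
    obtain ⟨d, hd⟩ := h.exists_autG (u := u) (v := u⁻¹) (isConj_iff.2 ⟨a, hpart⟩)
    have hd1 : d = 1 := by
      have h2 : d * d = 1 := h.autG_free hu (by
        rw [Subgroup.coe_mul, MulAut.mul_apply, hd, map_inv, hd, inv_inv])
      have h3 : d ^ 3 = 1 := by rw [← he]; exact pow_card_eq_one'
      rwa [pow_succ, pow_two, h2, one_mul] at h3
    rw [hd1, Subgroup.coe_one, MulAut.one_apply] at hd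
    obtain ⟨k, hk⟩ := IsPGroup.iff_orderOf.1 P.isPGroup' u
    have h2 : orderOf u ∣ 2 := orderOf_dvd_of_pow_eq_one (by
      rw [pow_two]; nth_rewrite 2 [hd]; exact mul_inv_cancel u)
    rcases (Nat.dvd_prime Nat.prime_two).1 h2 with h1 | h1
    · exact hu (orderOf_eq_one_iff.1 h1)
    · rw [hk] at h1
      exact hp2 ((Nat.prime_dvd_prime_iff_eq Nat.prime_two hp.out).1
        (Nat.prime_two.dvd_of_dvd_pow (dvd_of_eq h1.symm))).symm
  haveI : Fintype (Subgroup.centralizer ({(u : G)} : Set G)) := Fintype.ofFinite _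
  have hquad := principal_section_zero hM hup
    (fun χ => (χ : G → ℂ) t * (χ : G → ℂ) t / (χ : G → ℂ) 1) (fun c hc => ?_) 1
    (by simp [hp.out.ne_one])
  swap
  · have h1 := H24.classMult_eq t t ((u : G) * c)
    rw [hmult c hc, Nat.cast_zero, zero_mul, eq_comm, mul_eq_zero] at h1
    have h2 := congrArg conj (h1.resolve_left (mul_ne_zero
      (Nat.cast_ne_zero.2 Subgroup.index_ne_zero_of_finite)
      (Nat.cast_ne_zero.2 Subgroup.index_ne_zero_of_finite)))
    rw [map_sum, map_zero] at h2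
    rw [← h2]
    refine Finset.sum_congr rfl fun χ _ => ?_
    have htinv : t⁻¹ = t := inv_eq_of_mul_eq_one_right (by
      have := pow_orderOf_eq_one t
      rwa [ht, pow_two] at this)
    rw [map_div₀, map_mul, map_mul, Complex.conj_conj, conj_irr_eq χ t, htinv,
      H12.irr_apply_one, Complex.conj_natCast]
    ring
  have hXset : (principalBlock M G \ D.Y).toFinset = X := by simp [hXdef]
  rw [Subgroup.coe_one, mul_one, finsum_mem_eq_toFinset_sum,
    ← Finset.sum_sdiff (Set.toFinset_subset_toFinset.2 D.Y_subset), ← Set.toFinset_sdiff, hXset, hsumX]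
    at hquad
  have hYsum : ∑ χ ∈ D.Y.toFinset, (χ : G → ℂ) u = -(D.δ : ℂ) := by
    have hf := D.sum_fiber h (fun χ => (χ : G → ℂ) u)
    rw [he, finsum_mem_eq_toFinset_sum, Finset.sum_congr rfl (g := fun φ =>
      (D.δ : ℂ) * ∑ a : autG (P : Subgroup G), (dualTw φ a u : ℂ)) (fun φ hφ => by
        have hφ1 := Finset.ne_of_mem_erase hφ
        rw [D.apply_ζ h hφ1 hu, hD0 _ ⟨φ, hφ1, rfl⟩]; simp),
      ← Finset.mul_sum, Finset.sum_comm, Finset.sum_congr rfl
        (s₂ := (Finset.univ : Finset (autG (P : Subgroup G)))) (g := fun _ => (-1 : ℂ)) (fun a _ => by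
          simp only [dualTw_apply]
          rw [Finset.sum_erase_eq_sub (Finset.mem_univ _),
            sum_dual_ne_one hA (fun h' => hu ((MulEquiv.map_eq_one_iff _).1 h'))]
          simp),
      Finset.sum_const, Finset.card_univ, ← Nat.card_eq_fintype_card, he, nsmul_eq_mul] at hf
    push_cast at hf
    linear_combination (1 / 3 : ℂ) * hf
  rw [Finset.sum_congr rfl (g := fun χ : IrrCharacter G =>
      (η : G → ℂ) t * (η : G → ℂ) t / (η : G → ℂ) 1 * (χ : G → ℂ) u) (fun χ hχ => by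
        rw [D.apply_regular hM (Set.mem_toFinset.1 hχ) hη htreg,
          D.apply_regular hM (Set.mem_toFinset.1 hχ) hη (g := (1 : G)) (by simp [hp.out.ne_one])]),
    ← Finset.mul_sum, hYsum] at hquad
  obtain ⟨hne2, hm2⟩ := Finset.mem_erase.1 hc2
  obtain ⟨hne3, hm3⟩ := Finset.mem_erase.1 hc3
  have hm2' := (Set.Finite.mem_toFinset _).1 hm2
  have hm3' := (Set.Finite.mem_toFinset _).1 hm3
  have hone' : (H12.oneIrr G) ∈ principalBlock M G \ D.Y := (Set.Finite.mem_toFinset _).1 hone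
  rw [D.sum_vZ_of_notMem h hone'.1 hone'.2 hu, D.b_oneIrr h hr, D.sum_vZ_of_notMem h hm2'.1 hm2'.2 hu,
    D.sum_vZ_of_notMem h hm3'.1 hm3'.2 hu] at hquad
  simp only [H12.oneIrr_apply, hT₂, hT₃, hS, H12.irr_apply_one] at hr1 hr2 hquad
  set x₂ := H12.degree (c₂ : G → ℂ) with hx₂
  set x₃ := H12.degree (c₃ : G → ℂ) with hx₃
  set y := H12.degree (η : G → ℂ) with hy
  have q2 : (x₂ : ℂ) ≠ 0 := Nat.cast_ne_zero.2 (H12.irr_degree_pos c₂).ne'
  have q3 : (x₃ : ℂ) ≠ 0 := Nat.cast_ne_zero.2 (H12.irr_degree_pos c₃).ne'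
  have qy : (y : ℂ) ≠ 0 := Nat.cast_ne_zero.2 (H12.irr_degree_pos η).ne'
  have e1 : (1 + -D.b c₂ * (x₂ : ℤ) + -D.b c₃ * (x₃ : ℤ) + -D.δ * (y : ℤ) : ℤ) = 0 := by
    apply Int.cast_injective (α := ℂ)
    push_cast at hr1 ⊢
    linear_combination -hr1
  have e2 : (1 + -D.b c₂ * T₂ + -D.b c₃ * T₃ + -D.δ * S : ℤ) = 0 := by
    apply Int.cast_injective (α := ℂ)
    push_cast at hr2 ⊢
    linear_combination -hr2
  have e3 : ((x₂ : ℤ) * x₃ * y + -D.b c₂ * T₂ ^ 2 * ((x₃ : ℤ) * y) +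
      -D.b c₃ * T₃ ^ 2 * ((x₂ : ℤ) * y) + -D.δ * S ^ 2 * ((x₂ : ℤ) * x₃) : ℤ) = 0 := by
    apply Int.cast_injective (α := ℂ)
    push_cast at hquad ⊢
    field_simp at hquad
    linear_combination hquad
  have hA2 : ∀ (c : IrrCharacter G) (T : ℤ), c ≠ H12.oneIrr G → (c : G → ℂ) t = (T : ℂ) →
      (H12.degree (c : G → ℂ) : ℤ) - T ≠ 0 := by
    intro c T hne hT h0
    apply apply_ne_degree_of_closure hgen hne
    rw [hT, H12.irr_apply_one, ← Int.cast_natCast, sub_eq_zero.1 h0]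
  have hneη : η ≠ H12.oneIrr G := fun he' => D.oneIrr_notMem h hr (he' ▸ hη)
  have key := two_minus_of_relations ![-D.b c₂, -D.b c₃, -D.δ] ![(x₂ : ℤ), (x₃ : ℤ), (y : ℤ)]
    ![(x₂ : ℤ) - T₂, (x₃ : ℤ) - T₃, (y : ℤ) - S]
    (fun i => by
      fin_cases i
      · rcases hb c₂ hm2' with h' | h' <;> simp [h']
      · rcases hb c₃ hm3' with h' | h' <;> simp [h']
      · rcases D.δ_eq with h' | h' <;> simp [h'])
    (fun i => by
      fin_cases i
      · simpa using H12.irr_degree_pos c₂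
      · simpa using H12.irr_degree_pos c₃
      · simpa using H12.irr_degree_pos η)
    (fun i => by
      fin_cases i
      · exact hA2 c₂ T₂ hne2 hT₂
      · exact hA2 c₃ T₃ hne3 hT₃
      · exact hA2 η S hneη hS)
    (by simpa using e1) (by simpa using by linear_combination e1 - e2)
    (by simpa using by linear_combination (x₂ * x₃ * y : ℤ) * e1 - 2 * (x₂ * x₃ * y : ℤ) * e2 + e3)
  refine ⟨?_, ?_⟩
  · simpa [neg_eq_iff_eq_neg] using key.1
  · obtain ⟨r, hr'⟩ := key.2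
    refine ⟨r.natAbs, ?_⟩
    rw [charDegree_eq_degree, charDegree_eq_degree, charDegree_eq_degree, ← hx₂, ← hx₃, ← hy]
    have h1 := congrArg Int.natAbs hr'
    simp only [Int.natAbs_mul, Matrix.cons_val_zero, Matrix.cons_val_one, Matrix.cons_val,
      Int.natAbs_natCast] at h1
    rw [← h1]; ring

end H20
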