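import Cfsg.Agent.H20.StableBound
import Mathlib.LinearAlgebra.Eigenspace.Semisimple
import Mathlib.LinearAlgebra.Eigenspace.Triangularizable
import Mathlib.FieldTheory.IsAlgClosed.Basic
import Mathlib.RingTheory.MatrixAlgebra

/-!
# The stable bound for a component of the fixed points

For a subgroup `⟨u⟩` of order `p` with normalizer `N`, an idempotent `ε` cut out by a copy of a
matrix algebra, stable in `T = C⟨a⟩` and orthogonal to its conjugates outside `T`, the trace of
`u` on the image of `ε` is at most `m * d`, where `d` bounds the number of scalars induced by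
commuting endomorphisms.
-/

set_option autoImplicit false
set_option linter.style.haveILetI false
set_option linter.unusedSectionVars false

open Polynomial Module
open scoped Matrix

namespace H20

namespace Stable

variable {O : Type*} [CommRing O] {k : Type*} [Field k] {n : Type*} [Fintype n] [DecidableEq n]
  [IsDomain O] [IsPrincipalIdealRing O] [CharZero O] {red : O →+* k} {p : ℕ}
  {G : Type*} [Group G] [Fintype G]

/-- The data of a subgroup `⟨u⟩` of order `p`, its normalizer `N` and `T = C⟨a⟩ ≤ N`. -/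
structure TFrame (p : ℕ) (u a : G) (C T N : Subgroup G) : Prop where
  orderOf_u : orderOf u = p
  mem_N : ∀ g : G, g ∈ N ↔ g⁻¹ * u * g ∈ Subgroup.zpowers u
  u_mem : u ∈ C
  C_le : C ≤ T
  T_le : T ≤ N
  a_mem : a ∈ T
  a_pow : a ^ (p - 1) ∈ C
  gen : ∀ g ∈ T, ∃ i : ℕ, ∃ c ∈ C, g = a ^ i * c
  index : ¬ p ∣ (Subgroup.zpowers u).relIndex T

variable {u a : G} {C T N : Subgroup G}

theorem TFrame.normal (hF : TFrame p u a C T N) {g : G} (hg : g ∈ N) {z : G}
    (hz : z ∈ Subgroup.zpowers u) : g⁻¹ * z * g ∈ Subgroup.zpowers u := by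
  obtain ⟨i, rfl⟩ := Subgroup.mem_zpowers_iff.1 hz
  have h := (Subgroup.zpowers u).zpow_mem ((hF.mem_N g).1 hg) i
  rwa [show g⁻¹ * u * g = g⁻¹ * u * (g⁻¹)⁻¹ by rw [inv_inv], conj_zpow, inv_inv] at h

variable {σ : G →* Matrix n n O}

theorem sumOn_zpowers [Fintype (Subgroup.zpowers u)] (hu : orderOf u = p) :
    sumOn σ (Subgroup.zpowers u) = ∑ j ∈ Finset.range p, σ (u ^ j) := by
  rw [sumOn, Finset.sum_range fun j => σ (u ^ j)]
  refine (Fintype.sum_bijective
    (fun j : Fin p => (⟨u ^ (j : ℕ), Subgroup.npow_mem_zpowers u j⟩ : Subgroup.zpowers u))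
    ?_ _ _ fun _ => rfl).symm
  rw [Fintype.bijective_iff_injective_and_card]
  refine ⟨fun i j he => Fin.ext ?_, ?_⟩
  · exact pow_injOn_Iio_orderOf (x := u) (by simp [hu]) (by simp [hu]) (congrArg Subtype.val he)
  · rw [Fintype.card_fin, ← Nat.card_eq_fintype_card, Nat.card_zpowers, hu]

theorem card_zpowers_eq [Fintype (Subgroup.zpowers u)] (hu : orderOf u = p) :
    Fintype.card (Subgroup.zpowers u) = p := by
  rw [← Nat.card_eq_fintype_card, Nat.card_zpowers, hu]

open Classical in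
/-- Sum over the cosets outside the normalizer reduces to a norm. -/
theorem sum_free_mem_normBar (hr : IsRed red p) (hu : orderOf u = p)
    [Fintype (Subgroup.zpowers u)]
    (hN : ∀ g : G, g ∈ N ↔ g⁻¹ * u * g ∈ Subgroup.zpowers u)
    (F : G ⧸ Subgroup.zpowers u → n → O)
    (hFs : ∀ c ∈ Subgroup.zpowers u, ∀ q, F (c • q) = σ c *ᵥ F q) :
    red ∘ (∑ q ∈ Finset.univ.filter (fun q : G ⧸ Subgroup.zpowers u => q.out ∉ N), F q) ∈
      normBar σ red (Subgroup.zpowers u) := by
  classical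
  have hp := hr.prime
  have hPN : (Subgroup.zpowers u) ≤ N := by
    intro g hg
    rw [hN]
    obtain ⟨i, rfl⟩ := Subgroup.mem_zpowers_iff.1 hg
    refine Subgroup.mem_zpowers_iff.2 ⟨1, ?_⟩
    group
  have hCN : ∀ c ∈ (Subgroup.zpowers u), ∀ q : G ⧸ (Subgroup.zpowers u), ((c • q).out ∈ N ↔ q.out ∈ N) := by
    intro c hc q
    obtain ⟨d, hd⟩ := QuotientGroup.mk_out_eq_mul (Subgroup.zpowers u) (c * q.out)
    have he : c • q = ((c * q.out : G) : G ⧸ (Subgroup.zpowers u)) := by
      conv_lhs => rw [← QuotientGroup.out_eq' q]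
      rfl
    rw [he, hd, N.mul_mem_cancel_right (hPN d.2), N.mul_mem_cancel_left (hPN hc)]
  have hfree : ∀ q : G ⧸ (Subgroup.zpowers u), q.out ∉ N → ∀ z ∈ (Subgroup.zpowers u), z • q = q → z = 1 := by
    intro q hq z hz he
    by_contra hz1
    apply hq
    rw [hN]
    have h1 : q.out⁻¹ * z * q.out ∈ (Subgroup.zpowers u) := by
      have h2 : ((z * q.out : G) : G ⧸ (Subgroup.zpowers u)) = ((q.out : G) : G ⧸ (Subgroup.zpowers u)) := by
        rw [QuotientGroup.out_eq']
        conv_rhs => rw [← he, ← QuotientGroup.out_eq' q]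
        rfl
      have h3 := inv_mem (QuotientGroup.eq.1 h2)
      simpa [mul_assoc] using h3
    have hgen : u ∈ Subgroup.zpowers z := by
      have h4 : Subgroup.zpowers z = Subgroup.zpowers u := by
        refine Subgroup.eq_of_le_of_card_ge (Subgroup.zpowers_le.2 hz) ?_
        have hdvd : orderOf z ∣ p := by
          rw [← hu, ← Nat.card_zpowers u]
          exact Subgroup.orderOf_dvd_natCard _ hz
        rw [Nat.card_zpowers, Nat.card_zpowers, hu]
        exact ((Nat.dvd_prime hp).1 hdvd |>.resolve_left (mt orderOf_eq_one_iff.1 hz1)).ge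
      rw [h4]; exact Subgroup.mem_zpowers u
    obtain ⟨i, rfl⟩ := Subgroup.mem_zpowers_iff.1 hgen
    have h5 := zpow_mem h1 i
    rwa [show q.out⁻¹ * z * q.out = q.out⁻¹ * z * (q.out⁻¹)⁻¹ by rw [inv_inv], conj_zpow,
      inv_inv] at h5
  let r := MulAction.orbitRel (Subgroup.zpowers u) (G ⧸ (Subgroup.zpowers u))
  let wt : G ⧸ (Subgroup.zpowers u) → O := fun q => if (Quotient.mk r q).out = q then 1 else 0
  set s := Finset.univ.filter (fun q : G ⧸ (Subgroup.zpowers u) => q.out ∉ N) with hs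
  have hwt : ∀ q ∈ s, ∑ z : (Subgroup.zpowers u), wt ((z : G) • q) = 1 := by
    intro q hq
    have hq' := (Finset.mem_filter.1 hq).2
    obtain ⟨z0, hz0⟩ : (Quotient.mk r q).out ∈ MulAction.orbit (Subgroup.zpowers u) q :=
      Quotient.exact (Quotient.out_eq (Quotient.mk r q))
    have hmk : ∀ z : (Subgroup.zpowers u), Quotient.mk r ((z : G) • q) = Quotient.mk r q := fun z =>
      Quotient.sound ⟨z, rfl⟩
    rw [Finset.sum_eq_single z0]
    · simp only [wt]
      rw [hmk z0, if_pos]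
      exact hz0.symm
    · intro z _ hz
      simp only [wt]
      rw [hmk z, if_neg]
      intro he
      apply hz
      have h6 : ((z0⁻¹ * z : (Subgroup.zpowers u)) : G) • q = q := by
        rw [Subgroup.coe_mul, mul_smul, ← he, ← hz0, Subgroup.coe_inv]
        exact inv_smul_smul _ _
      exact (inv_mul_eq_one.1 (Subtype.ext (hfree q hq' _ (z0⁻¹ * z).2 h6))).symm
    · simp
  set x := ∑ q ∈ s, wt q • F q
  have hS1 : (∑ q ∈ s, F q) = sumOn σ (Subgroup.zpowers u) *ᵥ x := by
    simp only [x, Matrix.mulVec_sum, Matrix.mulVec_smul]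
    calc (∑ q ∈ s, F q) = ∑ q ∈ s, ∑ z : (Subgroup.zpowers u), wt ((z : G) • q) • F q :=
          Finset.sum_congr rfl fun q hq => by rw [← Finset.sum_smul, hwt q hq, one_smul]
      _ = ∑ z : (Subgroup.zpowers u), ∑ q ∈ s, wt q • (σ (z : G)⁻¹ *ᵥ F q) := by
          rw [Finset.sum_comm]
          refine Finset.sum_congr rfl fun z _ => ?_
          refine Finset.sum_bij' (fun q _ => (z : G) • q) (fun q _ => (z : G)⁻¹ • q) ?_ ?_ ?_ ?_ ?_
          · intro q hq
            simp only [hs, Finset.mem_filter, Finset.mem_univ, true_and] at hq ⊢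
            rwa [hCN _ z.2]
          · intro q hq
            simp only [hs, Finset.mem_filter, Finset.mem_univ, true_and] at hq ⊢
            rwa [hCN _ (inv_mem z.2)]
          · intro q _; exact inv_smul_smul _ _
          · intro q _; exact smul_inv_smul _ _
          · intro q _
            rw [hFs _ z.2, Matrix.mulVec_mulVec, ← map_mul, inv_mul_cancel, map_one,
              Matrix.one_mulVec]
      _ = _ := by
          rw [Finset.sum_comm]
          refine Finset.sum_congr rfl fun q _ => ?_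
          rw [← Finset.smul_sum, sumOn, Matrix.sum_mulVec]
          congr 1
          exact Fintype.sum_equiv (Equiv.inv (Subgroup.zpowers u)) _ _ fun z => rfl
  rw [hS1, red_mulVec]
  exact ⟨red ∘ x, Matrix.toLin'_apply _ _⟩

/-- The bound. -/
theorem bound_twisted [IsAlgClosed k] (hr : IsRed red p) (hF : TFrame p u a C T N)
    {m : ℕ} (hm : 0 < m) (ε : Matrix n n O) (hεε : ε * ε = ε) (hεu : Commute (σ u) ε)
    (ι : Matrix (Fin m) (Fin m) k →ₗ[k] Matrix n n k)
    (hmul : ∀ X Y, ι (X * Y) = ι X * ι Y) (hone : ι 1 = ε.map red)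
    (hlift : ∀ X, ∃ Y : Matrix n n O, Y.map red = ι X ∧ Commute (σ u) Y)
    (U : (Matrix (Fin m) (Fin m) k)ˣ)
    (haconj : ∀ X, (σ a).map red * ι X =
      ι ((U : Matrix (Fin m) (Fin m) k) * X * ((U⁻¹ : (Matrix (Fin m) (Fin m) k)ˣ) : Matrix (Fin m) (Fin m) k)) *
        (σ a).map red)
    (hC : ∀ c ∈ C, ∃ j : ℕ, ∃ Y, (σ c).map red * ι 1 = ((σ u).map red) ^ j * ι Y ∧
      Commute ((σ c).map red) (ι 1))
    (hout : ∀ g ∈ N, g ∉ T → (σ g).map red * ι 1 * (σ g⁻¹).map red * ι 1 = 0)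
    {t : ℤ} {d : ℕ} (htr : ∀ j : ℕ, ¬ p ∣ j → (σ (u ^ j) * ε).trace = (t : O))
    (hpoly : ∀ f : Matrix n n O, (∀ g, σ g * f = f * σ g) → ∃ P : O[X],
      (∀ v ∈ fixSub σ (Subgroup.zpowers u), ∀ (_ : Fintype (Subgroup.zpowers u)),
        red ∘ (Polynomial.aeval f P *ᵥ v) ∈ normBar σ red (Subgroup.zpowers u)) ∧
      ∃ S : Finset k, S.card ≤ d ∧ ∀ c, (P.map red).eval c = 0 → c ∈ S) :
    t ≤ (m : ℤ) * d := by
  classical
  haveI := hr.charP
  have hp := hr.prime
  haveI : Fact p.Prime := ⟨hp⟩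
  haveI : Infinite k := IsAlgClosed.instInfinite
  set P := Subgroup.zpowers u with hPdef
  haveI : Fintype P := Fintype.ofFinite _
  have hu := hF.orderOf_u
  set Ub := (σ u).map red with hUb
  set E := ι 1 with hE
  set A0 := redSub hr (fixSub σ P) with hA0
  set B0 := normBar σ red P with hB0
  have hB0A0 : B0 ≤ A0 := range_sumOn_le hr P
  have hEE : E * E = E := by rw [hE, ← hmul, one_mul]
  have hιE : ∀ X, E * ι X = ι X ∧ ι X * E = ι X := fun X => by
    rw [hE, ← hmul, ← hmul, one_mul, mul_one]; exact ⟨rfl, rfl⟩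
  have hUι : ∀ X, Commute Ub (ι X) := by
    intro X
    obtain ⟨Y, hY, hYu⟩ := hlift X
    rw [← hY, hUb]
    exact hYu.map red.mapMatrix
  -- the fixed points and norms are stable
  have hA0ι : ∀ X, ∀ v ∈ A0, ι X *ᵥ v ∈ A0 := by
    rintro X _ ⟨w, hw, rfl⟩
    obtain ⟨Y, hY, hYu⟩ := hlift X
    refine ⟨Y *ᵥ w, fun z hz => ?_, by rw [red_mulVec, hY]⟩
    obtain ⟨i, rfl⟩ := (isOfFinOrder_of_finite u).mem_powers_iff_mem_zpowers.2 hz
    rw [Matrix.mulVec_mulVec, map_pow, (hYu.pow_left i).eq, ← Matrix.mulVec_mulVec, ← map_pow,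
      hw _ (Subgroup.npow_mem_zpowers u i)]
  have hB0ι : ∀ X, ∀ v ∈ B0, ι X *ᵥ v ∈ B0 := by
    rintro X _ ⟨w, rfl⟩
    obtain ⟨Y, hY, hYu⟩ := hlift X
    refine ⟨ι X *ᵥ w, ?_⟩
    rw [Matrix.toLin'_apply, Matrix.toLin'_apply, Matrix.mulVec_mulVec, Matrix.mulVec_mulVec,
      ← hY, ← Matrix.map_mul, ← Matrix.map_mul]
    congr 2
    rw [sumOn_zpowers hu, Finset.sum_mul, Finset.mul_sum]
    exact Finset.sum_congr rfl fun j _ => by rw [map_pow]; exact (hYu.pow_left j).eq
  have hUA0 : ∀ v ∈ A0, ∀ j : ℕ, Ub ^ j *ᵥ v = v := by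
    rintro _ ⟨w, hw, rfl⟩ j
    rw [hUb, ← Matrix.map_pow, ← map_pow, ← red_mulVec, hw _ (Subgroup.npow_mem_zpowers u j)]
  -- dimensions
  set W := LinearMap.range (Matrix.toLin' E) with hW
  set A := A0.map (Matrix.toLin' E) with hA
  set B := B0.map (Matrix.toLin' E) with hB
  have hEb : E = ε.map red := hone
  let SA : Submodule O (n → O) :=
    fixSub σ P ⊓ LinearMap.ker (Matrix.mulVecLin (ε - 1))
  have hSAmem : ∀ v, v ∈ SA ↔ v ∈ fixSub σ P ∧ ε *ᵥ v = v := fun v => by
    simp [SA, Matrix.sub_mulVec, sub_eq_zero]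
  have hεfix : ∀ v ∈ fixSub σ P, ε *ᵥ v ∈ fixSub σ P := by
    intro v hv z hz
    obtain ⟨i, rfl⟩ := (isOfFinOrder_of_finite u).mem_powers_iff_mem_zpowers.2 hz
    rw [Matrix.mulVec_mulVec, map_pow, (hεu.pow_left i).eq, ← Matrix.mulVec_mulVec, ← map_pow,
      hv _ (Subgroup.npow_mem_zpowers u i)]
  have hAeq : A = redSub hr SA := by
    refine le_antisymm ?_ ?_
    · rintro _ ⟨_, ⟨w, hw, rfl⟩, rfl⟩
      refine ⟨ε *ᵥ w, (hSAmem _).2 ⟨hεfix w hw, by rw [Matrix.mulVec_mulVec, hεε]⟩, ?_⟩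
      rw [red_mulVec, Matrix.toLin'_apply, hEb]
    · rintro _ ⟨w, hw, rfl⟩
      obtain ⟨hw1, hw2⟩ := (hSAmem w).1 hw
      refine ⟨red ∘ w, ⟨w, hw1, rfl⟩, ?_⟩
      rw [Matrix.toLin'_apply, hEb, ← red_mulVec, hw2]
  have htrA : (sumOn σ P * ε).trace = ((p * finrank k A : ℕ) : O) := by
    rw [hAeq]
    refine trace_eq_mul_finrank hr SA _ (fun x => (hSAmem _).2 ⟨?_, ?_⟩) (fun s hs => ?_)
      (fun x hx => (hSAmem x).2 ⟨?_, ?_⟩)
    · rw [← Matrix.mulVec_mulVec]; exact sumOn_mulVec_mem P _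
    · rw [Matrix.mulVec_mulVec, ← mul_assoc, sumOn_zpowers hu, Finset.mul_sum]
      congr 1
      rw [Finset.sum_congr rfl fun j _ => (show ε * σ (u ^ j) = σ (u ^ j) * ε by
        rw [map_pow, (hεu.pow_left j).eq]), ← Finset.sum_mul, mul_assoc, hεε]
    · obtain ⟨hs1, hs2⟩ := (hSAmem s).1 hs
      rw [← Matrix.mulVec_mulVec, hs2, sumOn_mulVec_of_mem hs1, card_zpowers_eq hu]
    · exact fixSub_saturated hr P x ((hSAmem _).1 hx).1
    · have h := ((hSAmem _).1 hx).2
      rw [Matrix.mulVec_smul] at h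
      exact smul_right_injective _ (Nat.cast_ne_zero.2 hp.ne_zero) h
  let SW : Submodule O (n → O) := LinearMap.ker (Matrix.mulVecLin (ε - 1))
  have hSWmem : ∀ v, v ∈ SW ↔ ε *ᵥ v = v := fun v => by
    simp [SW, Matrix.sub_mulVec, sub_eq_zero]
  have hWeq : W = redSub hr SW := by
    refine le_antisymm ?_ ?_
    · rintro _ ⟨x, rfl⟩
      obtain ⟨w, rfl⟩ := hr.exists_lift x
      refine ⟨ε *ᵥ w, (hSWmem _).2 (by rw [Matrix.mulVec_mulVec, hεε]), ?_⟩
      rw [red_mulVec, Matrix.toLin'_apply, hEb]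
    · rintro _ ⟨w, hw, rfl⟩
      exact ⟨red ∘ w, by rw [Matrix.toLin'_apply, hEb, ← red_mulVec, (hSWmem w).1 hw]⟩
  have htrW : ε.trace = ((1 * finrank k W : ℕ) : O) := by
    rw [hWeq]
    refine trace_eq_mul_finrank hr SW _ (fun x => (hSWmem _).2 (by rw [Matrix.mulVec_mulVec, hεε]))
      (fun s hs => by rw [(hSWmem s).1 hs, Nat.cast_one, one_smul]) (fun x hx => (hSWmem x).2 ?_)
    have h := (hSWmem _).1 hx
    rw [Matrix.mulVec_smul] at h
    exact smul_right_injective _ (Nat.cast_ne_zero.2 hp.ne_zero) h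
  have heq : (p : ℤ) * finrank k A = (finrank k W : ℤ) + ((p : ℤ) - 1) * t := by
    apply Int.cast_injective (α := O)
    have h1 := htrA
    rw [sumOn_zpowers hu, Finset.sum_mul, Matrix.trace_sum,
      ← Finset.add_sum_erase _ _ (Finset.mem_range.2 hp.pos), pow_zero, map_one, one_mul, htrW,
      Finset.sum_congr rfl (fun j hj => htr j fun hd => by
        obtain ⟨hj0, hjp⟩ := Finset.mem_erase.1 hj
        exact hj0 (Nat.eq_zero_of_dvd_of_lt hd (Finset.mem_range.1 hjp))),
      Finset.sum_const, Finset.card_erase_of_mem (Finset.mem_range.2 hp.pos), Finset.card_range,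
      nsmul_eq_mul, Nat.cast_sub hp.pos] at h1
    push_cast at h1 ⊢
    linear_combination -h1
  set Dd : Module.End k (n → k) := Matrix.toLin' Ub - 1 with hDd
  have hgeom : ∀ q : k[X], Polynomial.aeval (Matrix.toLin' Ub) q =
      Matrix.toLin' (Polynomial.aeval Ub q) := fun q =>
    Polynomial.aeval_algHom_apply (Matrix.toLinAlgEquiv' (R := k) (n := n)).toAlgHom _ q
  have hDp : Dd ^ p = 0 := by
    have h1 : ((X : k[X]) - 1) ^ p = X ^ p - 1 := by rw [sub_pow_char, one_pow]
    have h2 := congrArg (Polynomial.aeval (Matrix.toLin' Ub)) h1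
    simp only [map_pow, map_sub, map_one, Polynomial.aeval_X] at h2
    rw [hDd, h2, sub_eq_zero]
    show Matrix.toLinAlgEquiv' Ub ^ p = 1
    rw [← map_pow, hUb, ← Matrix.map_pow, ← map_pow, ← hu, pow_orderOf_eq_one, map_one,
      Matrix.map_one _ (map_zero red) (map_one red), map_one]
  have hDsum : Dd ^ (p - 1) = Matrix.toLin' ((sumOn σ P).map red) := by
    have h2 := congrArg (Polynomial.aeval (Matrix.toLin' Ub))
      (geom_sum_eq_sub_one_pow (k := k) hp)
    rw [hgeom (∑ i ∈ Finset.range p, X ^ i)] at h2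
    simp only [map_pow, map_sub, map_one, map_sum, Polynomial.aeval_X] at h2
    have h3 : (sumOn σ P).map red = ∑ j ∈ Finset.range p, Ub ^ j := by
      rw [sumOn_zpowers hu, hUb, ← RingHom.mapMatrix_apply, map_sum]
      exact Finset.sum_congr rfl fun j _ => by rw [RingHom.mapMatrix_apply, map_pow, Matrix.map_pow]
    rw [hDd, ← h2, h3, map_sum]
  have hUE : Commute Ub E := hUι 1
  have hBW : B = W.map (Dd ^ (p - 1)) := by
    rw [hB, hB0, normBar, hW, hDsum, ← LinearMap.range_comp, ← LinearMap.range_comp,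
      ← Matrix.toLin'_mul, ← Matrix.toLin'_mul]
    congr 2
    rw [sumOn_zpowers hu, ← RingHom.mapMatrix_apply, map_sum, Finset.mul_sum, Finset.sum_mul]
    refine Finset.sum_congr rfl fun j _ => ?_
    rw [map_pow, map_pow, RingHom.mapMatrix_apply]
    exact (hUE.pow_left j).symm.eq
  have hDW : ∀ v ∈ W, Dd v ∈ W := by
    rintro _ ⟨v, rfl⟩
    refine ⟨Ub *ᵥ v - v, ?_⟩
    rw [hDd, LinearMap.sub_apply, Module.End.one_apply, Matrix.toLin'_apply, Matrix.toLin'_apply,
      Matrix.toLin'_apply, Matrix.mulVec_sub, Matrix.mulVec_mulVec, Matrix.mulVec_mulVec, hUE.eq]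
  have hAW : A ≤ W := LinearMap.map_le_range
  have hAD : A ≤ LinearMap.ker Dd := by
    rintro _ ⟨v, hv, rfl⟩
    rw [LinearMap.mem_ker, hDd, LinearMap.sub_apply, Module.End.one_apply, Matrix.toLin'_apply,
      Matrix.toLin'_apply, Matrix.mulVec_mulVec, hUE.eq, ← Matrix.mulVec_mulVec,
      ← pow_one Ub, hUA0 v hv 1, sub_self]
  have hb := finrank_jordan_bound Dd (m := p - 1) (by have := hp.two_le; omega) W A hDW hAW hAD
    (fun v _ => by rw [Nat.sub_add_cancel hp.pos, hDp]; rfl)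
  rw [← hBW] at hb
  have ht1 : t ≤ (finrank k A : ℤ) - finrank k B := by
    have hb' : ((p : ℤ) - 1) * (finrank k B : ℤ) + finrank k A ≤ finrank k W := by
      have := Int.ofNat_le.2 hb
      push_cast [Nat.cast_sub hp.pos] at this
      exact this
    have hp2 : (1 : ℤ) ≤ (p : ℤ) - 1 := by have := hp.two_le; omega
    by_contra hlt
    rw [not_le] at hlt
    have h5 : ((p : ℤ) - 1) * ((finrank k A : ℤ) - finrank k B) < ((p : ℤ) - 1) * t :=
      mul_lt_mul_of_pos_left hlt (by omega)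
    linarith
  -- the first diagonal component
  let i0 : Fin m := ⟨0, hm⟩
  let e₀ : Fin m → Fin m → Matrix (Fin m) (Fin m) k := fun i j => Matrix.single i j 1
  set E00 := ι (e₀ i0 i0) with hE00
  set A1 := A0.map (Matrix.toLin' E00) with hA1
  set B1 := B0.map (Matrix.toLin' E00) with hB1
  have hA1A0 : A1 ≤ A0 := by
    rintro _ ⟨v, hv, rfl⟩
    rw [Matrix.toLin'_apply]; exact hA0ι _ v hv
  have hB1B0 : B1 ≤ B0 := by
    rintro _ ⟨v, hv, rfl⟩
    rw [Matrix.toLin'_apply]; exact hB0ι _ v hv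
  have hB1A1 : B1 ≤ A1 := Submodule.map_mono hB0A0
  have hcount : (finrank k A : ℤ) - finrank k B ≤
      (m : ℤ) * ((finrank k A1 : ℤ) - finrank k B1) := by
    let Φ : (n → k) →ₗ[k] (Fin m → (n → k) ⧸ B1) :=
      LinearMap.pi fun i => B1.mkQ ∘ₗ Matrix.toLin' (ι (e₀ i0 i))
    have h1 := finrank_map_add_inf_ker Φ A
    have hker : A ⊓ LinearMap.ker Φ ≤ B := by
      rintro v ⟨hvA, hv⟩
      have hv' : ∀ i, ι (e₀ i0 i) *ᵥ v ∈ B1 := fun i => by
        have h2 := congrFun (LinearMap.mem_ker.1 hv) i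
        simpa [Φ, Submodule.Quotient.mk_eq_zero] using h2
      obtain ⟨v0, hv0, rfl⟩ := hvA
      have hsplit : (1 : Matrix (Fin m) (Fin m) k) = ∑ i, e₀ i i0 * e₀ i0 i := by
        simp only [e₀, Matrix.single_mul_single_same, one_mul]
        ext x y
        rw [Matrix.sum_apply]
        simp [Matrix.single_apply, Matrix.one_apply, ite_and]
      rw [Matrix.toLin'_apply] at hv' ⊢
      have hE' : E *ᵥ v0 = E *ᵥ (∑ i, ι (e₀ i i0) *ᵥ (ι (e₀ i0 i) *ᵥ (E *ᵥ v0))) := by
        have hsum : (∑ i, ι (e₀ i i0) * ι (e₀ i0 i)) = E := by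
          rw [hE, hsplit, map_sum]
          exact Finset.sum_congr rfl fun i _ => (hmul _ _).symm
        simp only [Matrix.mulVec_mulVec, ← Matrix.sum_mulVec, ← mul_assoc]
        rw [← Finset.sum_mul, hsum, hEE, hEE]
      rw [hE']
      refine ⟨_, B0.sum_mem fun i _ => hB0ι _ _ (hB1B0 (hv' i)), Matrix.toLin'_apply _ _⟩
    have h3 : A.map Φ ≤ Submodule.pi Set.univ (fun _ : Fin m => A1.map B1.mkQ) := by
      rintro _ ⟨v, hv, rfl⟩ i -
      obtain ⟨v0, hv0, rfl⟩ := hv
      refine ⟨ι (e₀ i0 i) *ᵥ v0, ⟨ι (e₀ i0 i) *ᵥ v0, hA0ι _ _ hv0, ?_⟩, ?_⟩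
      · rw [Matrix.toLin'_apply, Matrix.mulVec_mulVec, hE00, ← hmul]
        simp [e₀]
      · simp [Φ, Matrix.mulVec_mulVec, (hιE _).2]
    have h4 : finrank k (A.map Φ) ≤ m * finrank k (A1.map B1.mkQ) := by
      refine le_trans (Submodule.finrank_mono h3) ?_
      let ψ : (Submodule.pi Set.univ (fun _ : Fin m => A1.map B1.mkQ)) →ₗ[k]
          (Fin m → (A1.map B1.mkQ)) :=
        { toFun := fun x i => ⟨(x : Fin m → _) i, x.2 i (Set.mem_univ i)⟩
          map_add' := fun _ _ => rfl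
          map_smul' := fun _ _ => rfl }
      refine le_trans (LinearMap.finrank_le_finrank_of_injective (f := ψ) ?_) ?_
      · intro x y hxy
        exact Subtype.ext (funext fun i => congrArg Subtype.val (congrFun hxy i))
      · rw [Module.finrank_pi_fintype, Finset.sum_const, Finset.card_univ, Fintype.card_fin,
          smul_eq_mul]
    have h5 := finrank_map_add_inf_ker B1.mkQ A1
    rw [Submodule.ker_mkQ, inf_eq_right.2 hB1A1] at h5
    have h6 : finrank k (A ⊓ LinearMap.ker Φ : Submodule k (n → k)) ≤ finrank k B :=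
      Submodule.finrank_mono hker
    rw [show ((finrank k A1 : ℤ) - finrank k B1) = (finrank k (A1.map B1.mkQ) : ℤ) by
      push_cast [← h5]; ring, ← Nat.cast_mul]
    omega
  -- the twisted generator
  set ab := (σ a).map red with hab
  set a' := ι ((U⁻¹ : (Matrix (Fin m) (Fin m) k)ˣ) : Matrix (Fin m) (Fin m) k) * ab with ha'
  have hab' : ∀ X, ab * ι X = ι ((U : Matrix (Fin m) (Fin m) k) * X *
      ((U⁻¹ : (Matrix (Fin m) (Fin m) k)ˣ) : Matrix (Fin m) (Fin m) k)) * ab := haconj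
  have ha'c : ∀ X, Commute a' (ι X) := by
    intro X
    show a' * ι X = ι X * a'
    rw [ha', mul_assoc, hab', ← mul_assoc, ← mul_assoc, ← hmul, ← hmul, ← mul_assoc, ← mul_assoc,
      Units.inv_mul, one_mul]
  have habE : ab * E = E * ab := by rw [hE, hab', mul_one, Units.mul_inv]
  have habE' : ab * E = ι (U : Matrix (Fin m) (Fin m) k) * a' := by
    rw [ha', ← mul_assoc, ← hmul, Units.mul_inv, habE]
  have hN_A0 : ∀ g ∈ N, ∀ v ∈ A0, (σ g).map red *ᵥ v ∈ A0 := by
    rintro g hg _ ⟨w, hw, rfl⟩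
    refine ⟨σ g *ᵥ w, fun z hz => ?_, red_mulVec red _ _⟩
    rw [Matrix.mulVec_mulVec, ← map_mul, show z * g = g * (g⁻¹ * z * g) by group, map_mul,
      ← Matrix.mulVec_mulVec, hw _ (hF.normal hg hz)]
  have haN : a ∈ N := hF.T_le hF.a_mem
  have ha'A0 : ∀ v ∈ A0, a' *ᵥ v ∈ A0 := fun v hv => by
    rw [ha', ← Matrix.mulVec_mulVec]; exact hA0ι _ _ (hN_A0 a haN v hv)
  have hA1fix : ∀ v ∈ A1, E00 *ᵥ v = v ∧ E *ᵥ v = v := by
    rintro _ ⟨w, -, rfl⟩
    rw [Matrix.toLin'_apply]
    refine ⟨?_, ?_⟩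
    · rw [Matrix.mulVec_mulVec, hE00, ← hmul]; simp [e₀]
    · rw [Matrix.mulVec_mulVec, hE00, (hιE _).1]
  have ha'A1 : ∀ v ∈ A1, a' *ᵥ v ∈ A1 := fun v hv => by
    refine ⟨a' *ᵥ v, ha'A0 v (hA1A0 hv), ?_⟩
    rw [Matrix.toLin'_apply, Matrix.mulVec_mulVec, hE00, ← (ha'c _).eq, ← hE00,
      ← Matrix.mulVec_mulVec, (hA1fix v hv).1]
  obtain ⟨jc, Yc, hYc, -⟩ := hC _ hF.a_pow
  have habpow : ∀ i : ℕ, ab ^ i * E = ι ((U : Matrix (Fin m) (Fin m) k) ^ i) * a' ^ i := by
    intro i
    induction i with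
    | zero => simp [hE]
    | succ i ih =>
      rw [pow_succ', mul_assoc, ih, ← mul_assoc, hab']
      have h7 : ι ((U : Matrix (Fin m) (Fin m) k) * (U : Matrix (Fin m) (Fin m) k) ^ i *
          ((U⁻¹ : (Matrix (Fin m) (Fin m) k)ˣ) : Matrix (Fin m) (Fin m) k)) * ab =
          ι ((U : Matrix (Fin m) (Fin m) k) ^ (i + 1)) * a' := by
        rw [ha', ← mul_assoc, ← hmul, pow_succ']
      rw [h7, mul_assoc, ← pow_succ']
  set γ : k := ((((U⁻¹ : (Matrix (Fin m) (Fin m) k)ˣ) : Matrix (Fin m) (Fin m) k) ^ (p - 1)) * Yc)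
    i0 i0 with hγ
  have hapow : ∀ v ∈ A1, a' ^ (p - 1) *ᵥ v = γ • v := by
    intro v hv
    obtain ⟨hv1, hv2⟩ := hA1fix v hv
    have h8 : ab ^ (p - 1) * E = Ub ^ jc * ι Yc := by
      rw [← hYc, hab, ← Matrix.map_pow, ← map_pow]
    rw [habpow] at h8
    have h9 := congrArg
      (ι (((U⁻¹ : (Matrix (Fin m) (Fin m) k)ˣ) : Matrix (Fin m) (Fin m) k) ^ (p - 1)) * ·) h8
    simp only [← mul_assoc, ← hmul] at h9
    rw [← Units.val_pow_eq_pow_val, ← Units.val_pow_eq_pow_val, inv_pow, Units.inv_mul, ← hE,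
      ← (hUι _).pow_left jc |>.eq, mul_assoc, ← hmul, ← inv_pow, Units.val_pow_eq_pow_val] at h9
    have h10 : a' ^ (p - 1) *ᵥ v = ι (((U⁻¹ : (Matrix (Fin m) (Fin m) k)ˣ) :
        Matrix (Fin m) (Fin m) k) ^ (p - 1) * Yc) *ᵥ v := by
      conv_lhs => rw [← hv2, Matrix.mulVec_mulVec, ((ha'c 1).pow_left _).eq, h9,
        ← Matrix.mulVec_mulVec]
      exact hUA0 _ (hA0ι _ v (hA1A0 hv)) jc
    have h11 : a' ^ (p - 1) *ᵥ v = E00 *ᵥ (a' ^ (p - 1) *ᵥ v) := by
      rw [Matrix.mulVec_mulVec, hE00, ← ((ha'c _).pow_left _).eq, ← hE00, ← Matrix.mulVec_mulVec,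
        hv1]
    rw [h11, h10]
    conv_lhs => rw [← hv1, Matrix.mulVec_mulVec, Matrix.mulVec_mulVec, hE00, ← hmul, ← hmul]
    rw [show e₀ i0 i0 * ((((U⁻¹ : (Matrix (Fin m) (Fin m) k)ˣ) : Matrix (Fin m) (Fin m) k) ^ (p - 1))
      * Yc) * e₀ i0 i0 = γ • e₀ i0 i0 by
        simp [e₀, hγ, Matrix.single_mul_mul_single, Matrix.smul_single],
      map_smul, Matrix.smul_mulVec, ← hE00, hv1]
  -- eigenvectors span
  let g1 : Module.End k A1 := (Matrix.toLin' a').restrict (fun v hv => by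
    rw [Matrix.toLin'_apply]; exact ha'A1 v hv)
  have hinj : ∀ v ∈ A1, a' *ᵥ v = 0 → v = 0 := by
    intro v hv h0
    have hv2 := (hA1fix v hv).2
    have h12 : (σ a).map red *ᵥ v = 0 := by
      rw [← hv2, Matrix.mulVec_mulVec, ← hab, habE', ← Matrix.mulVec_mulVec, h0,
        Matrix.mulVec_zero]
    have h13 := congrArg ((σ a⁻¹).map red *ᵥ ·) h12
    rwa [Matrix.mulVec_mulVec, ← Matrix.map_mul, ← map_mul, inv_mul_cancel, map_one,
      Matrix.map_one _ (map_zero red) (map_one red), Matrix.one_mulVec, Matrix.mulVec_zero] at h13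
  have heig : A1 ≤ Submodule.span k {v | v ∈ A1 ∧ ∃ ω : k, a' *ᵥ v = ω • v} := by
    by_cases hA1bot : A1 = ⊥
    · rw [hA1bot]; exact bot_le
    obtain ⟨v0, hv0, hv0ne⟩ := Submodule.exists_mem_ne_zero_of_ne_bot hA1bot
    have hγ0 : γ ≠ 0 := by
      intro h0
      have h14 := hapow v0 hv0
      rw [h0, zero_smul] at h14
      have h15 : ∀ i : ℕ, ∀ v ∈ A1, a' ^ i *ᵥ v = 0 → v = 0 := by
        intro i
        induction i with
        | zero => intro v _ h; simpa using h
        | succ i ih =>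
          intro v hv h
          rw [pow_succ, ← Matrix.mulVec_mulVec] at h
          exact hinj v hv (ih _ (ha'A1 v hv) h)
      exact hv0ne (h15 _ v0 hv0 h14)
    have hpp : ((p - 1 : ℕ) : k) ≠ 0 := hr.natCast_ne_zero fun hd => by
      have := Nat.le_of_dvd (by have := hp.two_le; omega) hd
      have := hp.two_le
      omega
    have hgpow : ∀ (i : ℕ) (v : A1), (((g1 ^ i) v : A1) : n → k) = a' ^ i *ᵥ (v : n → k) := by
      intro i
      induction i with
      | zero => intro v; simp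
      | succ i ih =>
        intro v
        rw [pow_succ, Module.End.mul_apply, ih, pow_succ, ← Matrix.mulVec_mulVec]
        rfl
    have haev : Polynomial.aeval g1 (X ^ (p - 1) - Polynomial.C γ) = 0 := by
      refine LinearMap.ext fun v => Subtype.ext ?_
      rw [map_sub, map_pow, Polynomial.aeval_X, Polynomial.aeval_C, LinearMap.sub_apply,
        AddSubgroupClass.coe_sub, hgpow, hapow _ v.2, Module.algebraMap_end_apply,
        Submodule.coe_smul, sub_self]
      rfl
    have hss : g1.IsSemisimple :=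
      Module.End.isSemisimple_of_squarefree_aeval_eq_zero
        (Polynomial.separable_X_pow_sub_C γ hpp hγ0).squarefree haev
    have htop := Module.End.iSup_maxGenEigenspace_eq_top g1
    simp only [hss.isFinitelySemisimple.maxGenEigenspace_eq_eigenspace] at htop
    intro v hv
    have h16 : (⟨v, hv⟩ : A1) ∈ ⨆ μ : k, g1.eigenspace μ := htop ▸ Submodule.mem_top
    refine Submodule.iSup_induction (fun μ : k => g1.eigenspace μ)
      (motive := fun w : A1 => (w : n → k) ∈ Submodule.span k _) h16 ?_ ?_ ?_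
    · intro μ w hw
      refine Submodule.subset_span ⟨w.2, μ, ?_⟩
      have h17 := congrArg Subtype.val (Module.End.mem_eigenspace_iff.1 hw)
      exact h17
    · exact Submodule.zero_mem _
    · intro x y hx hy
      exact Submodule.add_mem _ hx hy
  obtain ⟨b, hbE, hbspan, hbli⟩ :=
    exists_linearIndependent k (B1.mkQ '' {v | v ∈ A1 ∧ ∃ ω : k, a' *ᵥ v = ω • v})
  have hspan : Submodule.span k b = A1.map B1.mkQ := by
    rw [hbspan, Submodule.span_image]
    exact le_antisymm (Submodule.map_mono (Submodule.span_le.2 fun v hv => hv.1))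
      (Submodule.map_mono heig)
  haveI : Finite b := hbli.finite
  haveI : Fintype b := Fintype.ofFinite _
  have hcardb : t ≤ (m : ℤ) * Fintype.card b := by
    have h5 := finrank_map_add_inf_ker B1.mkQ A1
    rw [Submodule.ker_mkQ, inf_eq_right.2 hB1A1] at h5
    have h18 : finrank k (A1.map B1.mkQ) = Fintype.card b := by
      rw [← hspan]
      have h9 := finrank_span_eq_card hbli
      rwa [Subtype.range_coe] at h9
    rw [show (Fintype.card b : ℤ) = (finrank k A1 : ℤ) - finrank k B1 by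
      rw [← h18]; push_cast [← h5]; ring]
    omega
  -- lifts and functionals
  choose e heE heq using fun i : b => hbE i.2
  choose ω hω using fun i : b => (heE i).2
  let L : (b → ((n → k) ⧸ B1) →ₗ[k] k) := fun i =>
    (LinearMap.exists_extend ((Finsupp.lapply i).comp hbli.repr)).choose
  have hL : ∀ i j : b, L i (B1.mkQ (e j)) = if j = i then 1 else 0 := by
    intro i j
    have h1 := (LinearMap.exists_extend ((Finsupp.lapply i).comp hbli.repr)).choose_spec
    have h2 := LinearMap.congr_fun h1 ⟨(j : (n → k) ⧸ B1), Submodule.subset_span ⟨j, rfl⟩⟩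
    simp only [LinearMap.comp_apply, Submodule.subtype_apply, Finsupp.lapply_apply] at h2
    rw [heq]
    show L i (j : (n → k) ⧸ B1) = _
    rw [show L i (j : (n → k) ⧸ B1) = _ from h2, hbli.repr_eq_single j _ rfl,
      Finsupp.single_apply]
  let l : b → Fin m → n → k := fun i q y => L i (B1.mkQ (ι (e₀ i0 q) *ᵥ Pi.single y 1))
  have hl : ∀ i q x, l i q ⬝ᵥ x = L i (B1.mkQ (ι (e₀ i0 q) *ᵥ x)) := by
    intro i q x
    conv_rhs => rw [pi_eq_sum_univ' x]
    simp [l, dotProduct, map_sum, map_smul, Matrix.mulVec_sum, Matrix.mulVec_smul, mul_comm]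
  choose l' hl' using fun (i : b) (q : Fin m) => hr.exists_lift (l i q)
  have hdiv : ∀ i q y, (p : O) ∣ (l' i q ᵥ* sumOn σ P) y := by
    intro i q y
    rw [← hr.eq_zero]
    have h1 : red ((l' i q ᵥ* sumOn σ P) y) =
        l i q ⬝ᵥ ((sumOn σ P).map red *ᵥ Pi.single y 1) := by
      rw [Matrix.mulVec_single_one, ← hl']
      simp [Matrix.vecMul, dotProduct, map_sum]
    rw [h1, hl, Submodule.mkQ_apply, (Submodule.Quotient.mk_eq_zero B1).2, map_zero]
    refine ⟨ι (e₀ i0 q) *ᵥ ((sumOn σ P).map red *ᵥ Pi.single y 1),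
      hB0ι _ _ ⟨Pi.single y 1, Matrix.toLin'_apply _ _⟩, ?_⟩
    rw [Matrix.toLin'_apply, Matrix.mulVec_mulVec, hE00, ← hmul]
    simp [e₀]
  choose r hr' using hdiv
  have hp0 : (p : O) ≠ 0 := Nat.cast_ne_zero.2 hp.ne_zero
  have hrfix : ∀ i q, ∀ c ∈ P, r i q ᵥ* σ c = r i q := by
    intro i q c hc
    refine smul_right_injective (n → O) hp0 ?_
    show (p : O) • (r i q ᵥ* σ c) = (p : O) • r i q
    rw [← Matrix.smul_vecMul,
      show (p : O) • r i q = l' i q ᵥ* sumOn σ P from funext fun y => (hr' i q y).symm,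
      Matrix.vecMul_vecMul, sumOn_mul hc]
  have hrval : ∀ i q, ∀ w ∈ fixSub σ P,
      red (r i q ⬝ᵥ w) = L i (B1.mkQ (ι (e₀ i0 q) *ᵥ (red ∘ w))) := by
    intro i q w hw
    have h1 : (p : O) * (r i q ⬝ᵥ w) = (p : O) * (l' i q ⬝ᵥ w) := by
      rw [← smul_eq_mul, ← smul_dotProduct,
        show (p : O) • r i q = l' i q ᵥ* sumOn σ P from funext fun y => (hr' i q y).symm,
        ← Matrix.dotProduct_mulVec, sumOn_mulVec_of_mem hw, dotProduct_smul, card_zpowers_eq hu,
        smul_eq_mul]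
    rw [mul_left_cancel₀ hp0 h1, RingHom.map_dotProduct, hl', hl]
  choose v hv hve using fun (i : b) (q : Fin m) =>
    hA0ι (e₀ q i0) (e i) (hA1A0 (heE i).1)
  -- the prescribed scalars
  set sT := Finset.univ.filter (fun q : G ⧸ P => q.out ∈ T) with hsT
  have hPT : P ≤ T := (Subgroup.zpowers_le.2 hF.u_mem).trans hF.C_le
  have hsTcard : sT.card = P.relIndex T := by
    rw [Subgroup.relIndex, Subgroup.index_eq_card, ← Nat.card_eq_finsetCard]
    refine (Nat.card_congr ?_).symm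
    refine Equiv.ofBijective (Quotient.lift (fun g : T => (⟨((g : G) : G ⧸ P), ?_⟩ : sT)) ?_) ⟨?_, ?_⟩
    · simp only [hsT, Finset.mem_filter, Finset.mem_univ, true_and]
      obtain ⟨d, hd⟩ := QuotientGroup.mk_out_eq_mul P (g : G)
      rw [hd]
      exact T.mul_mem g.2 (hPT d.2)
    · intro x y hxy
      apply Subtype.ext
      show ((x : G) : G ⧸ P) = ((y : G) : G ⧸ P)
      rw [QuotientGroup.eq]
      exact (QuotientGroup.leftRel_apply.1 hxy : _)
    · intro x y hxy
      induction x using Quotient.inductionOn with | _ x =>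
      induction y using Quotient.inductionOn with | _ y =>
      refine Quotient.sound (QuotientGroup.leftRel_apply.2 ?_)
      have h19 : ((x : G) : G ⧸ P) = ((y : G) : G ⧸ P) := congrArg Subtype.val hxy
      exact Subgroup.mem_subgroupOf.2 (QuotientGroup.eq.1 h19)
    · rintro ⟨q, hq⟩
      exact ⟨Quotient.mk _ ⟨q.out, (Finset.mem_filter.1 hq).2⟩, Subtype.ext (QuotientGroup.out_eq' q)⟩
  set K : k := (sT.card : k) with hK
  have hK0 : K ≠ 0 := by rw [hK, hsTcard]; exact hr.natCast_ne_zero hF.index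
  let μ : b → k := fun i => Infinite.natEmbedding k (Fintype.equivFin b i)
  have hμ : Function.Injective μ := (Infinite.natEmbedding k).injective.comp
    (Fin.val_injective.comp (Fintype.equivFin b).injective)
  choose cc hcc using fun i => hr.surj (μ i / K)
  let f0 : Matrix n n O := ∑ i, ∑ q, Matrix.vecMulVec (cc i • v i q) (r i q)
  have hf0 : ∀ c ∈ P, σ c * f0 = f0 ∧ f0 * σ c = f0 := by
    intro c hc
    constructor
    · simp only [f0, Finset.mul_sum, Matrix.mul_vecMulVec, Matrix.mulVec_smul,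
        fun i q => hv i q c hc]
    · simp only [f0, Finset.sum_mul, Matrix.vecMulVec_mul, fun i q => hrfix i q c hc]
  let Db : (n → k) → n → k := fun x =>
    ∑ i, ∑ q, (μ i / K * L i (B1.mkQ (ι (e₀ i0 q) *ᵥ x))) • (ι (e₀ q i0) *ᵥ e i)
  have hf0v : ∀ x ∈ fixSub σ P, red ∘ (f0 *ᵥ x) = Db (red ∘ x) := by
    intro x hx
    simp only [f0, Db, Matrix.sum_mulVec, red_sum, Matrix.vecMulVec_mulVec, op_smul_eq_smul,
      smul_smul]
    refine Finset.sum_congr rfl fun i _ => Finset.sum_congr rfl fun q _ => ?_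
    rw [red_smul, map_mul, hcc, hve i q, hrval i q x hx, mul_comm]
  let Tm : G → Matrix n n O := fun g => σ g * f0 * σ g⁻¹
  have hTc : ∀ g, ∀ c ∈ P, Tm (g * c) = Tm g := by
    intro g c hc
    simp only [Tm, map_mul, mul_inv_rev]
    rw [mul_assoc (σ g), (hf0 c hc).1, ← mul_assoc, mul_assoc (σ g), (hf0 _ (inv_mem hc)).2]
  have hTq : ∀ (g : G) (q : G ⧸ P), Tm (g • q).out = σ g * Tm q.out * σ g⁻¹ := by
    intro g q
    obtain ⟨d, hd⟩ := QuotientGroup.mk_out_eq_mul P (g * q.out)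
    have he : g • q = ((g * q.out : G) : G ⧸ P) := by
      conv_lhs => rw [← QuotientGroup.out_eq' q]
      rfl
    rw [he, hd, hTc _ _ d.2]
    simp only [Tm, map_mul, mul_inv_rev, mul_assoc]
  let f : Matrix n n O := ∑ q : G ⧸ P, Tm q.out
  have hfc : ∀ g, σ g * f = f * σ g := by
    intro g
    have h1 : σ g * f * σ g⁻¹ = f := by
      simp only [f, Finset.mul_sum, Finset.sum_mul, ← hTq]
      exact Fintype.sum_equiv (MulAction.toPerm g) _ _ fun q => rfl
    conv_rhs => rw [← h1]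
    rw [mul_assoc, ← map_mul, inv_mul_cancel, map_one, mul_one]
  have hfB : ∀ x ∈ B0, f.map red *ᵥ x ∈ B0 := by
    rintro _ ⟨x, rfl⟩
    refine ⟨f.map red *ᵥ x, ?_⟩
    have hcm : f * sumOn σ P = sumOn σ P * f := by
      rw [sumOn, Finset.mul_sum, Finset.sum_mul]
      exact Finset.sum_congr rfl fun c _ => (hfc c).symm
    rw [Matrix.toLin'_apply, Matrix.toLin'_apply, Matrix.mulVec_mulVec, Matrix.mulVec_mulVec,
      ← Matrix.map_mul, ← Matrix.map_mul, hcm]
  -- properties of the prescribed map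
  have hDE : ∀ x, Db (E *ᵥ x) = Db x := fun x => by
    simp only [Db, Matrix.mulVec_mulVec, (hιE _).2]
  have hD0 : Db 0 = 0 := by simp [Db]
  have hDι : ∀ X x, Db (ι X *ᵥ x) = ι X *ᵥ Db x := by
    intro X x
    have hexp : ∀ q : Fin m, e₀ i0 q * X = ∑ q', X q q' • e₀ i0 q' := by
      intro q
      ext y z
      rw [Matrix.sum_apply]
      by_cases hy : y = i0
      · subst hy
        simp [e₀, Matrix.single_apply]
      · simp [e₀, Matrix.single_apply, Matrix.mul_apply, Ne.symm hy]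
    have hexp' : ∀ q : Fin m, X * e₀ q i0 = ∑ q', X q' q • e₀ q' i0 := by
      intro q
      ext y z
      rw [Matrix.sum_apply]
      by_cases hz : z = i0
      · subst hz
        simp [e₀, Matrix.single_apply]
      · simp [e₀, Matrix.single_apply, Matrix.mul_apply, Ne.symm hz]
    simp only [Db, Matrix.mulVec_sum, Matrix.mulVec_smul, Matrix.mulVec_mulVec, ← hmul, hexp, hexp',
      map_sum, map_smul, Matrix.sum_mulVec, Matrix.smul_mulVec, Finset.mul_sum, Finset.smul_sum,
      smul_smul, Finset.sum_smul]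
    refine Finset.sum_congr rfl fun i _ => ?_
    rw [Finset.sum_comm]
    refine Finset.sum_congr rfl fun q _ => Finset.sum_congr rfl fun q' _ => ?_
    congr 1
    simp only [smul_eq_mul]
    ring
  have hDe : ∀ j : b, ∀ c : k, Db (c • e j) = (c * (μ j / K)) • e j := by
    intro j c
    have hej := (hA1fix _ (heE j).1).1
    simp only [Db]
    rw [Finset.sum_eq_single j]
    · rw [Finset.sum_eq_single i0]
      · rw [← hE00, Matrix.mulVec_smul, hej, map_smul, map_smul, hL, if_pos rfl, smul_eq_mul]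
        ring_nf
      · intro q _ hq
        rw [← hej, Matrix.mulVec_smul, Matrix.mulVec_mulVec, hE00, ← hmul]
        simp [e₀, hq]
      · simp
    · intro i _ hi
      refine Finset.sum_eq_zero fun q _ => ?_
      by_cases hq : q = i0
      · subst hq
        rw [← hE00, Matrix.mulVec_smul, hej, map_smul, map_smul, hL, if_neg (Ne.symm hi), smul_zero,
          mul_zero, zero_smul]
      · rw [← hej, Matrix.mulVec_smul, Matrix.mulVec_mulVec, hE00, ← hmul]
        simp [e₀, hq]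
    · simp
  have hab_i : ∀ (j : b) (i : ℕ), ab ^ i *ᵥ e j =
      ω j ^ i • (ι ((U : Matrix (Fin m) (Fin m) k) ^ i) *ᵥ e j) := by
    intro j i
    rw [← (hA1fix _ (heE j).1).2, Matrix.mulVec_mulVec, habpow, ← Matrix.mulVec_mulVec,
      (hA1fix _ (heE j).1).2]
    have h20 : a' ^ i *ᵥ e j = ω j ^ i • e j := by
      induction i with
      | zero => simp
      | succ i ih =>
        rw [pow_succ', ← Matrix.mulVec_mulVec, ih, Matrix.mulVec_smul, hω, smul_smul, pow_succ]
    rw [h20, Matrix.mulVec_smul]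
  have hfe : ∀ j : b, f.map red *ᵥ e j - μ j • e j ∈ B0 := by
    intro j
    obtain ⟨w, hw, hwe⟩ := hA1A0 (heE j).1
    have hwfix : ∀ g ∈ N, σ g *ᵥ w ∈ fixSub σ P := by
      intro g hg z hz
      rw [Matrix.mulVec_mulVec, ← map_mul, show z * g = g * (g⁻¹ * z * g) by group, map_mul,
        ← Matrix.mulVec_mulVec, hw _ (hF.normal hg hz)]
    have hej := hA1fix _ (heE j).1
    -- elements of T
    have hTelt : ∀ g ∈ T, ∃ (cf : k) (X : Matrix (Fin m) (Fin m) k),
        (σ g).map red *ᵥ e j = cf • (ι X *ᵥ e j) := by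
      intro g hg
      obtain ⟨i, c, hc, rfl⟩ := hF.gen g hg
      obtain ⟨jj, Y, hY, -⟩ := hC c hc
      have hcY : (σ c).map red *ᵥ e j = ι Y *ᵥ e j := by
        conv_lhs => rw [← hej.2, Matrix.mulVec_mulVec, hE, hY, ← Matrix.mulVec_mulVec]
        exact hUA0 _ (hA0ι _ _ (hA1A0 (heE j).1)) jj
      refine ⟨ω j ^ i, ((U : Matrix (Fin m) (Fin m) k) ^ i * Y *
        ((U⁻¹ : (Matrix (Fin m) (Fin m) k)ˣ) : Matrix (Fin m) (Fin m) k) ^ i) *
          (U : Matrix (Fin m) (Fin m) k) ^ i, ?_⟩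
      rw [map_mul, Matrix.map_mul, map_pow, Matrix.map_pow, ← Matrix.mulVec_mulVec, hcY,
        Matrix.mulVec_mulVec]
      have h21 : ∀ (i : ℕ) (X : Matrix (Fin m) (Fin m) k), ab ^ i * ι X =
          ι ((U : Matrix (Fin m) (Fin m) k) ^ i * X *
            ((U⁻¹ : (Matrix (Fin m) (Fin m) k)ˣ) : Matrix (Fin m) (Fin m) k) ^ i) * ab ^ i := by
        intro i
        induction i with
        | zero => intro X; simp
        | succ i ih =>
          intro X
          rw [pow_succ ab, mul_assoc, hab', ← mul_assoc, ih, mul_assoc, ← pow_succ]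
          congr 2
          rw [pow_succ (U : Matrix (Fin m) (Fin m) k), pow_succ' ((U⁻¹ : (Matrix (Fin m) (Fin m) k)ˣ) :
            Matrix (Fin m) (Fin m) k)]
          simp only [mul_assoc]
      rw [h21, ← Matrix.mulVec_mulVec, hab_i, Matrix.mulVec_smul, Matrix.mulVec_mulVec, ← hmul]
    have hN : ∀ q ∈ sT, red ∘ (Tm q.out *ᵥ w) = (μ j / K) • e j := by
      intro q hq
      have hqT := (Finset.mem_filter.1 hq).2
      obtain ⟨cf, X, hX⟩ := hTelt _ (inv_mem hqT)
      simp only [Tm]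
      rw [← Matrix.mulVec_mulVec, ← Matrix.mulVec_mulVec, red_mulVec,
        hf0v _ (hwfix _ (hF.T_le (inv_mem hqT))), red_mulVec, hwe, hX, ← Matrix.mulVec_smul, hDι,
        hDe, mul_comm, mul_smul, Matrix.mulVec_smul (ι X), Matrix.mulVec_smul (ι X) cf, ← hX,
        Matrix.mulVec_smul, Matrix.mulVec_mulVec, ← Matrix.map_mul, ← map_mul, mul_inv_cancel,
        map_one, Matrix.map_one _ (map_zero red) (map_one red), Matrix.one_mulVec]
    have hNout : ∀ q : G ⧸ P, q.out ∈ N → q.out ∉ T → red ∘ (Tm q.out *ᵥ w) = 0 := by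
      intro q hqN hqT
      simp only [Tm]
      rw [← Matrix.mulVec_mulVec, ← Matrix.mulVec_mulVec, red_mulVec,
        hf0v _ (hwfix _ (inv_mem hqN)), red_mulVec, hwe]
      have h22 : E *ᵥ ((σ q.out⁻¹).map red *ᵥ e j) = 0 := by
        have h23 := hout q.out hqN hqT
        have h24 := congrArg (fun X => (σ q.out⁻¹).map red * X) h23
        simp only [← mul_assoc, mul_zero, ← Matrix.map_mul, ← map_mul, inv_mul_cancel, map_one,
          Matrix.map_one _ (map_zero red) (map_one red), one_mul] at h24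
        rw [← hej.2, Matrix.mulVec_mulVec, Matrix.mulVec_mulVec, ← mul_assoc, ← hE] at *
        rw [h24, Matrix.zero_mulVec]
      rw [← hDE, h22, hD0, Matrix.mulVec_zero]
    have hrest := sum_free_mem_normBar hr hu hF.mem_N (fun q => Tm q.out *ᵥ w) (σ := σ) (fun c hc q => by
      rw [hTq, ← Matrix.mulVec_mulVec, ← Matrix.mulVec_mulVec, hw _ (inv_mem hc)])
    have hsplit : f.map red *ᵥ e j = μ j • e j +
        red ∘ (∑ q ∈ Finset.univ.filter (fun q : G ⧸ P => q.out ∉ N), Tm q.out *ᵥ w) := by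
      rw [← hwe, ← red_mulVec]
      simp only [f, Matrix.sum_mulVec]
      rw [← Finset.sum_filter_add_sum_filter_not Finset.univ (fun q : G ⧸ P => q.out ∈ N),
        red_add, red_sum, hwe]
      congr 1
      rw [← Finset.sum_filter_add_sum_filter_not (Finset.univ.filter fun q : G ⧸ P => q.out ∈ N)
        (fun q => q.out ∈ T), Finset.filter_filter, Finset.filter_filter,
        Finset.sum_eq_zero (s := Finset.univ.filter fun q : G ⧸ P => q.out ∈ N ∧ q.out ∉ T)
          (fun q hq => hNout q (Finset.mem_filter.1 hq).2.1 (Finset.mem_filter.1 hq).2.2),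
        add_zero, show (Finset.univ.filter fun q : G ⧸ P => q.out ∈ N ∧ q.out ∈ T) = sT from
          Finset.filter_congr fun q _ => ⟨fun h => h.2, fun h => ⟨hF.T_le h, h⟩⟩,
        Finset.sum_congr rfl hN, Finset.sum_const, ← Nat.cast_smul_eq_nsmul k, smul_smul, ← hK,
        mul_div_cancel₀ _ hK0]
    rw [hsplit, add_sub_cancel_left]
    exact hrest
  obtain ⟨Q, hQ, S, hS, hroots⟩ := hpoly f hfc
  have hev : ∀ (q : k[X]) (j : b),
      Polynomial.aeval (f.map red) q *ᵥ e j - q.eval (μ j) • e j ∈ B0 := by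
    intro q j
    induction q using Polynomial.induction_on' with
    | add q q' h h' =>
      simpa [Matrix.add_mulVec, add_smul, add_sub_add_comm] using B0.add_mem h h'
    | monomial i c =>
      rw [Polynomial.aeval_monomial, Polynomial.eval_monomial, ← Algebra.smul_def,
        Matrix.smul_mulVec, mul_smul, ← smul_sub]
      refine B0.smul_mem _ ?_
      induction i with
      | zero => simp
      | succ i ih =>
        have h1 := hfB _ ih
        rw [Matrix.mulVec_sub, Matrix.mulVec_smul, Matrix.mulVec_mulVec, ← pow_succ'] at h1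
        have h2 := B0.add_mem h1 (B0.smul_mem (μ j ^ i) (hfe j))
        rw [smul_sub, sub_add_sub_cancel, smul_smul, ← pow_succ] at h2
        exact h2
  have hμS : ∀ j : b, μ j ∈ S := by
    intro j
    refine hroots _ ?_
    obtain ⟨w, hw, hwe⟩ := hA1A0 (heE j).1
    have h1 : Polynomial.aeval (f.map red) (Q.map red) *ᵥ e j ∈ B0 := by
      have h2 : Polynomial.aeval (f.map red) (Q.map red) = (Polynomial.aeval f Q).map red :=
        (map_aeval_eq_aeval_map (φ := red) (ψ := red.mapMatrix) (RingHom.ext fun x => by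
          ext i y
          simp [Matrix.algebraMap_eq_diagonal, Matrix.diagonal, apply_ite red]) Q f).symm
      rw [h2, ← hwe, ← red_mulVec]
      exact hQ _ hw _
    have h3 := B0.sub_mem h1 (hev (Q.map red) j)
    rw [sub_sub_cancel] at h3
    have h4 : (Q.map red).eval (μ j) • B1.mkQ (e j) = 0 := by
      rw [← map_smul]
      refine (Submodule.Quotient.mk_eq_zero B1).2 ⟨_, h3, ?_⟩
      rw [Matrix.toLin'_apply, Matrix.mulVec_smul, (hA1fix _ (heE j).1).1]
    have h5 := congrArg (L j) h4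
    rwa [map_smul, hL, if_pos rfl, map_zero, smul_eq_mul, mul_one] at h5
  have hle : Fintype.card b ≤ d := by
    refine le_trans ?_ hS
    rw [← Finset.card_univ]
    exact Finset.card_le_card_of_injOn μ (fun j _ => hμS j) hμ.injOn
  refine hcardb.trans (mul_le_mul_of_nonneg_left ?_ (Nat.cast_nonneg m))
  exact_mod_cast hle

end Stable

end H20
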